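import Mathlib.GroupTheory.Sylow
import Mathlib.GroupTheory.Complement
import Mathlib.GroupTheory.PGroup
import Mathlib.GroupTheory.Index
import Mathlib.GroupTheory.QuotientGroup.Finite
import Mathlib.GroupTheory.OrderOfElement
import Mathlib.Algebra.Group.Subgroup.Pointwise
import Cfsg.Prelude.Def_Transfer
import Cfsg.Prelude.Def_Solvable
import Cfsg.Prelude.Def_CaseTheorems

/-!
Basic facts about `pCore`, `pPrimeCore`, `pResidual` and `HasNormalPComplement`.
-/

set_option autoImplicit false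
set_option linter.style.haveILetI false

namespace Cfsg.Agent.PBasic

variable {G : Type*} [Group G] {H : Type*} [Group H] {p : ℕ}

/-! ### orders -/

theorem exists_pPart_mul [Finite G] [hp : Fact p.Prime] (g : G) :
    ∃ u v : G, u * v = g ∧ u ∈ Subgroup.zpowers g ∧ v ∈ Subgroup.zpowers g ∧
      (∃ k, orderOf u = p ^ k) ∧ (orderOf v).Coprime p := by
  obtain ⟨k, m, hm, hgm⟩ :=
    Nat.exists_eq_pow_mul_and_not_dvd (orderOf_pos g).ne' p hp.out.ne_one
  have hcop : IsCoprime ((p ^ k : ℕ) : ℤ) (m : ℤ) := by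
    apply Int.isCoprime_iff_nat_coprime.2
    simpa using (Nat.Coprime.pow_left k ((Nat.Prime.coprime_iff_not_dvd hp.out).2 hm))
  obtain ⟨a, b, hab⟩ := hcop
  have hg1 : g ^ (((p ^ k : ℕ) : ℤ) * m) = 1 := by
    rw [← Int.natCast_mul, zpow_natCast, ← hgm, pow_orderOf_eq_one]
  refine ⟨g ^ (b * (m : ℤ)), g ^ (a * ((p ^ k : ℕ) : ℤ)), ?_,
    Subgroup.zpow_mem _ (Subgroup.mem_zpowers g) _,
    Subgroup.zpow_mem _ (Subgroup.mem_zpowers g) _, ?_, ?_⟩
  · rw [← zpow_add, add_comm, hab, zpow_one]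
  · have h : (g ^ (b * (m : ℤ))) ^ (p ^ k) = 1 := by
      rw [← zpow_natCast, ← zpow_mul,
        show b * (m : ℤ) * ((p ^ k : ℕ) : ℤ) = ((p ^ k : ℕ) : ℤ) * m * b by ring, zpow_mul, hg1,
        one_zpow]
    obtain ⟨j, -, hj⟩ := (Nat.dvd_prime_pow hp.out).1 (orderOf_dvd_of_pow_eq_one h)
    exact ⟨j, hj⟩
  · have h : (g ^ (a * ((p ^ k : ℕ) : ℤ))) ^ m = 1 := by
      rw [← zpow_natCast, ← zpow_mul,
        show a * ((p ^ k : ℕ) : ℤ) * (m : ℤ) = ((p ^ k : ℕ) : ℤ) * m * a by ring, zpow_mul, hg1,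
        one_zpow]
    exact Nat.Coprime.coprime_dvd_left (orderOf_dvd_of_pow_eq_one h)
      ((Nat.Prime.coprime_iff_not_dvd hp.out).2 hm).symm

theorem eq_one_of_isPGroup_of_coprime [hp : Fact p.Prime] {P : Subgroup G} (hP : IsPGroup p P)
    {x : G} (hx : x ∈ P) (hc : (orderOf x).Coprime p) : x = 1 := by
  obtain ⟨k, hk⟩ := IsPGroup.iff_orderOf.1 hP ⟨x, hx⟩
  rw [Subgroup.orderOf_mk] at hk
  have h1 := Nat.Coprime.pow_right k hc
  rw [hk, Nat.coprime_self] at h1
  rw [← orderOf_eq_one_iff, hk, h1]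

theorem coprime_orderOf_of_mem {N : Subgroup G} (hN : (Nat.card N).Coprime p) {x : G}
    (hx : x ∈ N) : (orderOf x).Coprime p :=
  Nat.Coprime.coprime_dvd_left (Subgroup.orderOf_dvd_natCard N hx) hN

theorem inf_eq_bot_of_coprime [hp : Fact p.Prime] {N P : Subgroup G}
    (hN : (Nat.card N).Coprime p) (hP : IsPGroup p P) : N ⊓ P = ⊥ := by
  rw [Subgroup.eq_bot_iff_forall]
  rintro x ⟨hxN, hxP⟩
  exact eq_one_of_isPGroup_of_coprime hP hxP (coprime_orderOf_of_mem hN hxN)

theorem coprime_card_iff [Finite G] [hp : Fact p.Prime] (N : Subgroup G) :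
    (Nat.card N).Coprime p ↔ ∀ x ∈ N, (orderOf x).Coprime p := by
  refine ⟨fun h x hx => coprime_orderOf_of_mem h hx, fun h => ?_⟩
  rw [Nat.coprime_comm, hp.out.coprime_iff_not_dvd]
  intro hd
  obtain ⟨x, hx⟩ := exists_prime_orderOf_dvd_card' p hd
  have h2 := h x x.2
  rw [Subgroup.orderOf_coe, hx, Nat.coprime_self] at h2
  exact hp.out.ne_one h2

theorem coprime_card_sup_of_normal [Finite G] [hp : Fact p.Prime] (M N : Subgroup G) [N.Normal]
    (hM : (Nat.card M).Coprime p) (hN : (Nat.card N).Coprime p) :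
    (Nat.card ↥(M ⊔ N)).Coprime p := by
  rw [coprime_card_iff]
  intro x hx
  rw [Nat.coprime_comm, hp.out.coprime_iff_not_dvd]
  intro hd
  have hmk : (QuotientGroup.mk' N) x ∈ M.map (QuotientGroup.mk' N) := by
    have h2 := Subgroup.mem_map_of_mem (QuotientGroup.mk' N) hx
    rw [Subgroup.map_sup, QuotientGroup.map_mk'_self, sup_bot_eq] at h2
    exact h2
  obtain ⟨u, v, huv, hu, -, ⟨k, hk⟩, hv⟩ := exists_pPart_mul (p := p) x
  have hu' : (QuotientGroup.mk' N) u ∈ M.map (QuotientGroup.mk' N) := by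
    obtain ⟨j, rfl⟩ := Subgroup.mem_zpowers_iff.1 hu
    rw [map_zpow]; exact Subgroup.zpow_mem _ hmk _
  have huN : u ∈ N := by
    rw [← QuotientGroup.eq_one_iff]
    apply eq_one_of_isPGroup_of_coprime (p := p)
      (P := Subgroup.zpowers ((QuotientGroup.mk' N) u)) ?_ (Subgroup.mem_zpowers _) ?_
    · apply IsPGroup.of_card_dvd_pow (n := k)
      rw [Nat.card_zpowers, ← hk]
      exact orderOf_map_dvd _ u
    · exact coprime_orderOf_of_mem (Nat.Coprime.coprime_dvd_left (Subgroup.card_map_dvd _ _) hM) hu'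
  have hu1 : u = 1 := by
    rw [← orderOf_eq_one_iff]
    have h2 := coprime_orderOf_of_mem hN huN
    rcases Nat.eq_zero_or_pos k with h0 | h0
    · rw [hk, h0, pow_zero]
    · rw [hk] at h2
      exact absurd h2 (by rw [Nat.coprime_pow_left_iff h0, Nat.coprime_self]; exact hp.out.ne_one)
  rw [hu1, one_mul] at huv
  rw [huv, Nat.coprime_comm, hp.out.coprime_iff_not_dvd] at hv
  exact hv hd

theorem card_eq_of_isPGroup_coprime [hp : Fact p.Prime] [Finite G] (hG : IsPGroup p G)
    (hc : (Nat.card G).Coprime p) : Nat.card G = 1 := by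
  obtain ⟨n, hn⟩ := IsPGroup.iff_card.1 hG
  have h1 := Nat.Coprime.pow_right n hc
  rw [← hn, Nat.coprime_self] at h1
  exact h1

theorem isPGroup_iff_forall_coprime [Finite G] [hp : Fact p.Prime] :
    IsPGroup p G ↔ ∀ x : G, (orderOf x).Coprime p → x = 1 := by
  constructor
  · intro hG x hx
    exact eq_one_of_isPGroup_of_coprime (P := ⊤) (hG.to_subgroup ⊤) (Subgroup.mem_top x) hx
  · intro h
    rw [IsPGroup.iff_orderOf]
    intro g
    obtain ⟨u, v, huv, -, -, hk, hv⟩ := exists_pPart_mul (p := p) g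
    rw [h v hv, mul_one] at huv
    exact huv ▸ hk

theorem card_mul_relIndex {A B : Subgroup G} (h : A ≤ B) :
    Nat.card A * A.relIndex B = Nat.card B := by
  have h1 := Subgroup.relIndex_mul_relIndex ⊥ A B bot_le h
  rwa [Subgroup.relIndex_bot_left, Subgroup.relIndex_bot_left] at h1

/-- `[N : P ∩ N] = [P N : P]` for normal `N`. -/
theorem relIndex_eq_relIndex_sup [Finite G] (P N : Subgroup G) [N.Normal] :
    P.relIndex N = P.relIndex (N ⊔ P) := by
  have h1 := card_mul_relIndex (show N ≤ N ⊔ P from le_sup_left)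
  have h2 := card_mul_relIndex (show P ≤ N ⊔ P from le_sup_right)
  have h3 := card_mul_relIndex (show P ⊓ N ≤ P from inf_le_left)
  have h4 := card_mul_relIndex (show P ⊓ N ≤ N from inf_le_right)
  rw [Subgroup.relIndex_sup_left] at h1
  rw [Subgroup.inf_relIndex_right] at h4
  rw [Subgroup.inf_relIndex_left] at h3
  rw [← h4] at h1
  nth_rewrite 1 [← h3] at h2
  rw [← h1] at h2
  have h5 : (Nat.card ↥(P ⊓ N) * N.relIndex P) * P.relIndex N =
      (Nat.card ↥(P ⊓ N) * N.relIndex P) * P.relIndex (N ⊔ P) := by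
    rw [h2]; ring
  exact Nat.eq_of_mul_eq_mul_left (h3.symm ▸ Nat.card_pos) h5

/-- `[X N : X]` for normal `N`. -/
theorem relIndex_eq_relIndex_sup_left [Finite G] (X N : Subgroup G) [N.Normal] :
    X.relIndex (X ⊔ N) = X.relIndex N := by
  rw [relIndex_eq_relIndex_sup X N, sup_comm]

/-! ### the cores -/

theorem pCore_isPGroup (p : ℕ) (G : Type*) [Group G] : IsPGroup p (Cfsg.pCore p G) := by
  have : ∀ N ∈ {N : Subgroup G | N.Normal ∧ IsPGroup p N}, N.Normal := fun N h => h.1
  exact Sylow.sSup_of_normal _ (fun N h => h.2) this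

theorem le_pCore {N : Subgroup G} (hn : N.Normal) (h : IsPGroup p N) : N ≤ Cfsg.pCore p G :=
  le_sSup ⟨hn, h⟩

theorem le_pPrimeCore {N : Subgroup G} (hn : N.Normal) (h : (Nat.card N).Coprime p) :
    N ≤ Cfsg.pPrimeCore p G :=
  le_sSup ⟨hn, h⟩

theorem pPrimeCore_coprime (p : ℕ) [hp : Fact p.Prime] (G : Type*) [Group G] [Finite G] :
    (Nat.card (Cfsg.pPrimeCore p G)).Coprime p := by
  classical
  set S := {N : Subgroup G | N.Normal ∧ (Nat.card N).Coprime p} with hS
  have hne : S.Nonempty := ⟨⊥, inferInstance, by simp⟩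
  obtain ⟨M, hMS, hM⟩ := (Set.toFinite S).exists_maximal hne
  have hle : ∀ N ∈ S, N ≤ M := by
    intro N hN
    haveI := hMS.1; haveI := hN.1
    exact le_sup_left.trans
      (hM (⟨Subgroup.sup_normal N M, coprime_card_sup_of_normal N M hN.2 hMS.2⟩ : N ⊔ M ∈ S)
        le_sup_right)
  have he : Cfsg.pPrimeCore p G = M := le_antisymm (sSup_le hle) (le_sSup hMS)
  rw [he]; exact hMS.2

theorem map_pCore_equiv (e : G ≃* H) :
    (Cfsg.pCore p G).map e.toMonoidHom = Cfsg.pCore p H := by
  apply le_antisymm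
  · exact le_pCore ((Cfsg.pCore_normal p G).map _ e.surjective) ((pCore_isPGroup p G).map _)
  · rw [← Subgroup.map_le_map_iff_of_injective (f := e.symm.toMonoidHom) e.symm.injective,
      Subgroup.map_map]
    refine le_trans (le_pCore ((Cfsg.pCore_normal p H).map _ e.symm.surjective)
      ((pCore_isPGroup p H).map _)) (le_of_eq ?_)
    rw [show e.symm.toMonoidHom.comp e.toMonoidHom = MonoidHom.id G by ext; simp, Subgroup.map_id]

theorem map_pPrimeCore_le_of_surjective [Finite G] [hp : Fact p.Prime] (f : G →* H)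
    (hf : Function.Surjective f) :
    (Cfsg.pPrimeCore p G).map f ≤ Cfsg.pPrimeCore p H :=
  le_pPrimeCore ((Cfsg.pPrimeCore_normal p G).map _ hf)
    (Nat.Coprime.coprime_dvd_left (Subgroup.card_map_dvd _ _) (pPrimeCore_coprime p G))

theorem map_pCore_le_of_surjective (f : G →* H) (hf : Function.Surjective f) :
    (Cfsg.pCore p G).map f ≤ Cfsg.pCore p H :=
  le_pCore ((Cfsg.pCore_normal p G).map _ hf) ((pCore_isPGroup p G).map _)

theorem map_pPrimeCore_equiv (e : G ≃* H) :
    (Cfsg.pPrimeCore p G).map e.toMonoidHom = Cfsg.pPrimeCore p H := by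
  apply le_antisymm
  · rw [Cfsg.pPrimeCore, sSup_eq_iSup', Subgroup.map_iSup]
    exact iSup_le fun N => le_pPrimeCore (N.2.1.map _ e.surjective)
      (Nat.Coprime.coprime_dvd_left (Subgroup.card_map_dvd _ _) N.2.2)
  · intro x hx
    have h1 : (Cfsg.pPrimeCore p H).map e.symm.toMonoidHom ≤ Cfsg.pPrimeCore p G := by
      rw [Cfsg.pPrimeCore, sSup_eq_iSup', Subgroup.map_iSup]
      exact iSup_le fun N => le_pPrimeCore (N.2.1.map _ e.symm.surjective)
        (Nat.Coprime.coprime_dvd_left (Subgroup.card_map_dvd _ _) N.2.2)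
    exact ⟨e.symm x, h1 (Subgroup.mem_map_of_mem _ hx), by simp⟩

theorem pCore_characteristic (p : ℕ) (G : Type*) [Group G] : (Cfsg.pCore p G).Characteristic :=
  Subgroup.characteristic_iff_map_eq.2 fun e => map_pCore_equiv e

theorem pPrimeCore_characteristic (p : ℕ) (G : Type*) [Group G] :
    (Cfsg.pPrimeCore p G).Characteristic :=
  Subgroup.characteristic_iff_map_eq.2 fun e => map_pPrimeCore_equiv e

theorem pCore_le_sylow [Fact p.Prime] [Finite G] (P : Sylow p G) :
    Cfsg.pCore p G ≤ (P : Subgroup G) :=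
  IsPGroup.le_sylow_of_normal (pCore_isPGroup p G) P

/-- `O_p` of a normal subgroup lies in `O_p` of the group. -/
theorem map_pCore_le_of_normal (N : Subgroup G) [N.Normal] :
    (Cfsg.pCore p N).map N.subtype ≤ Cfsg.pCore p G := by
  haveI := pCore_characteristic p N
  exact le_pCore inferInstance ((pCore_isPGroup p N).map _)

/-- `O_{p'}` of a normal subgroup lies in `O_{p'}` of the group. -/
theorem map_pPrimeCore_le_of_normal [Finite G] [Fact p.Prime] (N : Subgroup G) [N.Normal] :
    (Cfsg.pPrimeCore p N).map N.subtype ≤ Cfsg.pPrimeCore p G := by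
  haveI := pPrimeCore_characteristic p N
  exact le_pPrimeCore inferInstance
    (Nat.Coprime.coprime_dvd_left (Subgroup.card_map_dvd _ _) (pPrimeCore_coprime p N))

/-- `O_p(G / O_p(G)) = 1`. -/
theorem pCore_quotient_pCore (p : ℕ) (G : Type*) [Group G] :
    Cfsg.pCore p (G ⧸ Cfsg.pCore p G) = ⊥ := by
  set f := QuotientGroup.mk' (Cfsg.pCore p G) with hf
  have h : (Cfsg.pCore p (G ⧸ Cfsg.pCore p G)).comap f ≤ Cfsg.pCore p G := by
    refine le_pCore (Subgroup.Normal.comap inferInstance f) ?_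
    refine (pCore_isPGroup p _).comap_of_ker_isPGroup f ?_
    rw [hf, QuotientGroup.ker_mk']
    exact pCore_isPGroup p G
  rw [eq_bot_iff, ← Subgroup.comap_le_comap_of_surjective (QuotientGroup.mk'_surjective _)]
  refine h.trans (le_of_eq ?_)
  rw [MonoidHom.comap_bot, QuotientGroup.ker_mk']

/-- `O_{p'}(G / O_{p'}(G)) = 1`. -/
theorem pPrimeCore_quotient_pPrimeCore (p : ℕ) [hp : Fact p.Prime] (G : Type*) [Group G]
    [Finite G] : Cfsg.pPrimeCore p (G ⧸ Cfsg.pPrimeCore p G) = ⊥ := by
  set N := Cfsg.pPrimeCore p G with hN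
  set f := QuotientGroup.mk' N with hf
  set M := Cfsg.pPrimeCore p (G ⧸ N)
  have hle : N ≤ M.comap f := fun x hx => by
    rw [Subgroup.mem_comap, hf, QuotientGroup.mk'_apply, (QuotientGroup.eq_one_iff x).2 hx]
    exact M.one_mem
  have hcard : Nat.card (M.comap f) ∣ Nat.card N * Nat.card M := by
    have h1 := Subgroup.relIndex_mul_index hle
    have h2 : (M.comap f).index = M.index :=
      M.index_comap_of_surjective (QuotientGroup.mk'_surjective N)
    have h3 : N.relIndex (M.comap f) = Nat.card M := by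
      have h4 : N.index = Nat.card (G ⧸ N) := rfl
      have h5 := M.card_mul_index
      rw [h2, h4, ← h5] at h1
      exact Nat.eq_of_mul_eq_mul_right (Nat.pos_of_ne_zero M.index_ne_zero_of_finite) h1
    rw [← h3, card_mul_relIndex hle]
  have h : M.comap f ≤ N :=
    le_pPrimeCore (Subgroup.Normal.comap inferInstance f)
      (Nat.Coprime.coprime_dvd_left hcard
        (Nat.Coprime.mul_left (pPrimeCore_coprime p G) (pPrimeCore_coprime p _)))
  rw [eq_bot_iff, ← Subgroup.comap_le_comap_of_surjective (QuotientGroup.mk'_surjective _)]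
  refine h.trans (le_of_eq ?_)
  rw [MonoidHom.comap_bot, QuotientGroup.ker_mk']

/-! ### the residual -/

theorem mem_pResidual {g : G} (h : (orderOf g).Coprime p) : g ∈ Cfsg.pResidual p G :=
  Subgroup.subset_closure h

theorem map_pResidual_le (f : G →* H) : (Cfsg.pResidual p G).map f ≤ Cfsg.pResidual p H := by
  rw [Cfsg.pResidual, MonoidHom.map_closure, Subgroup.closure_le]
  rintro - ⟨g, hg, rfl⟩
  exact mem_pResidual (Nat.Coprime.coprime_dvd_left (orderOf_map_dvd f g) hg)

theorem pResidual_characteristic (p : ℕ) (G : Type*) [Group G] :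
    (Cfsg.pResidual p G).Characteristic :=
  Subgroup.characteristic_iff_map_le.2 fun e => map_pResidual_le e.toMonoidHom

instance pResidual_normal_inst (p : ℕ) (G : Type*) [Group G] : (Cfsg.pResidual p G).Normal :=
  haveI := pResidual_characteristic p G
  Subgroup.normal_of_characteristic _

theorem pResidual_le [Fact p.Prime] {N : Subgroup G} [N.Normal] (h : IsPGroup p (G ⧸ N)) :
    Cfsg.pResidual p G ≤ N := by
  rw [Cfsg.pResidual, Subgroup.closure_le]
  intro g hg
  rw [SetLike.mem_coe, ← QuotientGroup.eq_one_iff]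
  exact eq_one_of_isPGroup_of_coprime (P := ⊤) (h.to_subgroup ⊤) (Subgroup.mem_top _)
    (Nat.Coprime.coprime_dvd_left (orderOf_map_dvd (QuotientGroup.mk' N) g) hg)

theorem quotient_isPGroup_of_pResidual_le [Finite G] [hp : Fact p.Prime] {N : Subgroup G}
    [N.Normal] (h : Cfsg.pResidual p G ≤ N) : IsPGroup p (G ⧸ N) := by
  rw [isPGroup_iff_forall_coprime]
  intro x hx
  obtain ⟨g, rfl⟩ := QuotientGroup.mk'_surjective N x
  obtain ⟨u, v, huv, hu, -, ⟨k, hk⟩, hv⟩ := exists_pPart_mul (p := p) g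
  have h1 : (QuotientGroup.mk' N) v = 1 := (QuotientGroup.eq_one_iff v).2 (h (mem_pResidual hv))
  rw [← huv, map_mul, h1, mul_one] at hx ⊢
  refine eq_one_of_isPGroup_of_coprime (P := Subgroup.zpowers ((QuotientGroup.mk' N) u)) ?_
    (Subgroup.mem_zpowers _) hx
  apply IsPGroup.of_card_dvd_pow (n := k)
  rw [Nat.card_zpowers, ← hk]
  exact orderOf_map_dvd _ u

theorem quotient_pResidual_isPGroup (p : ℕ) [Fact p.Prime] (G : Type*) [Group G] [Finite G] :
    IsPGroup p (G ⧸ Cfsg.pResidual p G) :=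
  quotient_isPGroup_of_pResidual_le le_rfl

theorem map_pResidual_eq [Finite G] [hp : Fact p.Prime] (f : G →* H) (hf : Function.Surjective f) :
    (Cfsg.pResidual p G).map f = Cfsg.pResidual p H := by
  refine le_antisymm (map_pResidual_le f) ?_
  haveI : ((Cfsg.pResidual p G).map f).Normal := (pResidual_normal_inst p G).map f hf
  apply pResidual_le
  let g : G →* H ⧸ (Cfsg.pResidual p G).map f := (QuotientGroup.mk' _).comp f
  have hle : Cfsg.pResidual p G ≤ g.ker := by
    intro x hx
    exact (QuotientGroup.eq_one_iff _).2 (Subgroup.mem_map_of_mem f hx)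
  exact (quotient_pResidual_isPGroup p G).of_surjective
    (QuotientGroup.lift _ g hle)
    (QuotientGroup.lift_surjective_of_surjective _ g
      ((QuotientGroup.mk'_surjective _).comp hf) hle)

theorem pResidual_idem (p : ℕ) [Fact p.Prime] (G : Type*) [Group G] :
    Cfsg.pResidual p ↥(Cfsg.pResidual p G) = ⊤ := by
  rw [eq_top_iff]
  intro x _
  have hx : (x : G) ∈ (Cfsg.pResidual p ↥(Cfsg.pResidual p G)).map (Cfsg.pResidual p G).subtype := by
    have key : Cfsg.pResidual p G ≤
        (Cfsg.pResidual p ↥(Cfsg.pResidual p G)).map (Cfsg.pResidual p G).subtype := by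
      refine Subgroup.closure_le _ |>.2 ?_
      intro g hg
      exact ⟨⟨g, mem_pResidual hg⟩, mem_pResidual (by rwa [Subgroup.orderOf_mk]), rfl⟩
    exact key x.2
  obtain ⟨y, hy, hyx⟩ := hx
  exact (Subtype.ext hyx : y = x) ▸ hy

theorem exists_index_pow_of_isPGroup_quotient [Finite G] [Fact p.Prime] {N : Subgroup G}
    [N.Normal] (h : IsPGroup p (G ⧸ N)) : ∃ k, N.index = p ^ k :=
  IsPGroup.iff_card.1 h

/-- A Sylow subgroup supplements every normal subgroup of `p`-power index. -/
theorem sylow_sup_eq_top [Finite G] [hp : Fact p.Prime] (P : Sylow p G) {N : Subgroup G}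
    [N.Normal] (h : IsPGroup p (G ⧸ N)) : (P : Subgroup G) ⊔ N = ⊤ := by
  rw [← Subgroup.index_eq_one]
  obtain ⟨k, hk⟩ := exists_index_pow_of_isPGroup_quotient h
  have h1 : ((P : Subgroup G) ⊔ N).index ∣ p ^ k := hk ▸ Subgroup.index_dvd_of_le le_sup_right
  have h2 : ((P : Subgroup G) ⊔ N).index ∣ (P : Subgroup G).index :=
    Subgroup.index_dvd_of_le le_sup_left
  obtain ⟨j, -, hj⟩ := (Nat.dvd_prime_pow hp.out).1 h1
  rw [hj] at h2 ⊢
  rcases Nat.eq_zero_or_pos j with h0 | h0
  · rw [h0, pow_zero]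
  · exact absurd ((dvd_pow_self p h0.ne').trans h2) P.not_dvd_index

theorem sylow_sup_pResidual [Finite G] [Fact p.Prime] (P : Sylow p G) :
    (P : Subgroup G) ⊔ Cfsg.pResidual p G = ⊤ :=
  sylow_sup_eq_top P (quotient_pResidual_isPGroup p G)

/-- Intersecting a Sylow subgroup with a normal subgroup gives a Sylow subgroup of the latter. -/
theorem exists_sylow_subgroupOf [Finite G] [hp : Fact p.Prime] (P : Sylow p G) (N : Subgroup G)
    [N.Normal] : ∃ Q : Sylow p N, (Q : Subgroup N) = (P : Subgroup G).subgroupOf N := by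
  have h1 : IsPGroup p ((P : Subgroup G).subgroupOf N) := P.isPGroup'.comap_subtype
  have h2 : ¬ p ∣ ((P : Subgroup G).subgroupOf N).index := by
    change ¬ p ∣ (P : Subgroup G).relIndex N
    rw [relIndex_eq_relIndex_sup]
    exact fun h => P.not_dvd_index (h.trans (Subgroup.relIndex_dvd_index_of_le le_sup_right))
  exact ⟨h1.toSylow h2, rfl⟩

/-! ### normal `p`-complements -/

theorem hasNormalPComplement_iff [Finite G] [hp : Fact p.Prime] :
    Cfsg.HasNormalPComplement p G ↔
      ∃ N : Subgroup G, N.Normal ∧ (Nat.card N).Coprime p ∧ ∃ k, N.index = p ^ k := by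
  constructor
  · rintro ⟨P, N, hN, hc⟩
    obtain ⟨k, hk⟩ := IsPGroup.iff_card.1 P.isPGroup'
    refine ⟨N, hN, ?_, k, by rw [hc.symm.index_eq_card, hk]⟩
    rw [← hc.index_eq_card, Nat.coprime_comm, hp.out.coprime_iff_not_dvd]
    exact P.not_dvd_index
  · rintro ⟨N, hN, hc, k, hk⟩
    obtain ⟨P⟩ : Nonempty (Sylow p G) := inferInstance
    haveI := hN
    refine ⟨P, N, hN, Subgroup.isComplement'_of_disjoint_and_mul_eq_univ ?_ ?_⟩
    · rw [disjoint_iff]; exact inf_eq_bot_of_coprime hc P.isPGroup'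
    · rw [← Subgroup.normal_mul, sup_comm, sylow_sup_eq_top P (IsPGroup.of_card hk),
        Subgroup.coe_top]

theorem hasNormalPComplement_iff_pResidual [Finite G] [hp : Fact p.Prime] :
    Cfsg.HasNormalPComplement p G ↔ (Nat.card (Cfsg.pResidual p G)).Coprime p := by
  rw [hasNormalPComplement_iff]
  constructor
  · rintro ⟨N, hN, hc, k, hk⟩
    haveI := hN
    exact Nat.Coprime.coprime_dvd_left
      (Subgroup.card_dvd_of_le (pResidual_le (IsPGroup.of_card hk))) hc
  · intro h
    exact ⟨_, inferInstance, h,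
      exists_index_pow_of_isPGroup_quotient (quotient_pResidual_isPGroup p G)⟩

theorem hasNormalPComplement_iff_inf [Finite G] [hp : Fact p.Prime] (P : Sylow p G) :
    Cfsg.HasNormalPComplement p G ↔ Cfsg.pResidual p G ⊓ (P : Subgroup G) = ⊥ := by
  rw [hasNormalPComplement_iff_pResidual]
  refine ⟨fun h => inf_eq_bot_of_coprime h P.isPGroup', fun h => ?_⟩
  rw [Nat.coprime_comm, hp.out.coprime_iff_not_dvd]
  intro hd
  obtain ⟨Q, hQ⟩ := exists_sylow_subgroupOf P (Cfsg.pResidual p G)
  refine Q.ne_bot_of_dvd_card hd ?_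
  rw [hQ, Subgroup.subgroupOf_eq_bot, disjoint_iff, inf_comm, h]

theorem hasNormalPComplement_of_pPrimeCore [Finite G] [Fact p.Prime]
    (h : ∃ k, (Cfsg.pPrimeCore p G).index = p ^ k) : Cfsg.HasNormalPComplement p G :=
  hasNormalPComplement_iff.2 ⟨_, inferInstance, pPrimeCore_coprime p G, h⟩

theorem pPrimeCore_eq_pResidual [Finite G] [Fact p.Prime] (h : Cfsg.HasNormalPComplement p G) :
    Cfsg.pPrimeCore p G = Cfsg.pResidual p G := by
  refine le_antisymm ?_ (le_pPrimeCore inferInstance (hasNormalPComplement_iff_pResidual.1 h))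
  intro x hx
  exact mem_pResidual (coprime_orderOf_of_mem (pPrimeCore_coprime p G) hx)

theorem quotient_pPrimeCore_isPGroup [Finite G] [Fact p.Prime]
    (h : Cfsg.HasNormalPComplement p G) : IsPGroup p (G ⧸ Cfsg.pPrimeCore p G) :=
  quotient_isPGroup_of_pResidual_le (pPrimeCore_eq_pResidual h).ge

theorem mem_pResidual_iff [Finite G] [Fact p.Prime] (h : Cfsg.HasNormalPComplement p G) {x : G} :
    x ∈ Cfsg.pResidual p G ↔ (orderOf x).Coprime p :=
  ⟨fun hx => coprime_orderOf_of_mem (hasNormalPComplement_iff_pResidual.1 h) hx, mem_pResidual⟩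

theorem hasNormalPComplement_of_injective [Finite G] [Fact p.Prime] (f : H →* G)
    (hf : Function.Injective f) (h : Cfsg.HasNormalPComplement p G) :
    Cfsg.HasNormalPComplement p H := by
  haveI : Finite H := Finite.of_injective f hf
  rw [hasNormalPComplement_iff_pResidual, coprime_card_iff]
  intro x hx
  rw [← orderOf_injective f hf x]
  exact coprime_orderOf_of_mem (hasNormalPComplement_iff_pResidual.1 h)
    (map_pResidual_le f (Subgroup.mem_map_of_mem f hx))

theorem hasNormalPComplement_subgroup [Finite G] [Fact p.Prime] (K : Subgroup G)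
    (h : Cfsg.HasNormalPComplement p G) : Cfsg.HasNormalPComplement p K :=
  hasNormalPComplement_of_injective K.subtype Subtype.coe_injective h

theorem hasNormalPComplement_of_surjective [Finite G] [Fact p.Prime] (f : G →* H)
    (hf : Function.Surjective f) (h : Cfsg.HasNormalPComplement p G) :
    Cfsg.HasNormalPComplement p H := by
  haveI : Finite H := Finite.of_surjective f hf
  rw [hasNormalPComplement_iff_pResidual, ← map_pResidual_eq f hf]
  exact Nat.Coprime.coprime_dvd_left (Subgroup.card_map_dvd _ _)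
    (hasNormalPComplement_iff_pResidual.1 h)

theorem hasNormalPComplement_congr [Finite G] [Fact p.Prime] (e : G ≃* H) :
    Cfsg.HasNormalPComplement p G ↔ Cfsg.HasNormalPComplement p H := by
  haveI : Finite H := Finite.of_equiv G e.toEquiv
  exact ⟨hasNormalPComplement_of_injective e.symm.toMonoidHom e.symm.injective,
    hasNormalPComplement_of_injective e.toMonoidHom e.injective⟩

theorem hasNormalPComplement_of_isPGroup [Finite G] [Fact p.Prime] (h : IsPGroup p G) :
    Cfsg.HasNormalPComplement p G :=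
  hasNormalPComplement_iff.2 ⟨⊥, inferInstance, by simp, by
    rw [Subgroup.index_bot]; exact IsPGroup.iff_card.1 h⟩

theorem hasNormalPComplement_of_coprime [Finite G] [Fact p.Prime] (h : (Nat.card G).Coprime p) :
    Cfsg.HasNormalPComplement p G :=
  hasNormalPComplement_iff.2 ⟨⊤, inferInstance, by rwa [Subgroup.card_top], 0, by simp⟩

theorem hasNormalPComplement_of_normal [Finite G] [hp : Fact p.Prime] (N : Subgroup G) [N.Normal]
    (hN : Cfsg.HasNormalPComplement p N) (hq : IsPGroup p (G ⧸ N)) :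
    Cfsg.HasNormalPComplement p G := by
  rw [hasNormalPComplement_iff_pResidual, coprime_card_iff]
  intro x hx
  have h2 : (Cfsg.pResidual p G) ≤ (Cfsg.pResidual p N).map N.subtype := by
    rw [Cfsg.pResidual, Subgroup.closure_le]
    intro g hg
    exact ⟨⟨g, pResidual_le hq (mem_pResidual hg)⟩,
      mem_pResidual (by rwa [Subgroup.orderOf_mk]), rfl⟩
  obtain ⟨y, hy, rfl⟩ := h2 hx
  rw [Subgroup.subtype_apply, Subgroup.orderOf_coe]
  exact (mem_pResidual_iff hN).1 hy

end Cfsg.Agent.PBasic
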