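import Mathlib.GroupTheory.Focal
import Mathlib.GroupTheory.Nilpotent
import Mathlib.GroupTheory.Transfer
import Mathlib.GroupTheory.Commutator.Basic
import Cfsg.Agent.Lib.Transfer.Basic

/-!
Fusion and transfer: control of fusion controls transfer and `O^p`, the normal `p`-complement
criteria of Burnside and Frobenius.
-/

set_option autoImplicit false
set_option linter.style.haveILetI false

open scoped commutatorElement Pointwise

namespace Cfsg.Agent.Fusion

open Cfsg.Agent

variable {G : Type*} [Group G] {p : ℕ}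

/-! ### small tools -/

theorem le_of_le_commutator_sup_normal [Group.IsNilpotent G] (Q R : Subgroup G) [R.Normal]
    (h : Q ≤ ⁅Q, (⊤ : Subgroup G)⁆ ⊔ R) : Q ≤ R := by
  set f := QuotientGroup.mk' R with hf
  have h1 : Q.map f ≤ ⁅Q.map f, (⊤ : Subgroup (G ⧸ R))⁆ := by
    have h0 := Subgroup.map_mono (f := f) h
    rwa [Subgroup.map_sup, Subgroup.map_commutator,
      Subgroup.map_top_of_surjective f (QuotientGroup.mk'_surjective R), hf,
      QuotientGroup.map_mk'_self, sup_bot_eq] at h0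
  have h2 : ∀ n, Q.map f ≤ (⊤ : Subgroup (G ⧸ R)).lowerCentralSeries n := by
    intro n
    induction n with
    | zero => exact le_top
    | succ n ih => exact h1.trans (Subgroup.commutator_mono ih le_rfl)
  obtain ⟨n, hn⟩ := Subgroup.nilpotent_iff_lowerCentralSeries.1
    (inferInstance : Group.IsNilpotent (G ⧸ R))
  intro x hx
  rw [← QuotientGroup.eq_one_iff, ← Subgroup.mem_bot]
  exact hn ▸ h2 n (Subgroup.mem_map_of_mem f hx)

theorem le_of_le_commutator_sup {P Q R : Subgroup G} (hP : Group.IsNilpotent P) (hQ : Q ≤ P)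
    (hR : R ≤ P) (hRn : P ≤ Subgroup.normalizer (R : Set G)) (h : Q ≤ ⁅Q, P⁆ ⊔ R) : Q ≤ R := by
  haveI := hP
  haveI : (R.subgroupOf P).Normal := Subgroup.normal_subgroupOf_of_le_normalizer hRn
  have key := le_of_le_commutator_sup_normal (Q.subgroupOf P) (R.subgroupOf P) ?_
  · intro x hx
    exact key (show (⟨x, hQ hx⟩ : P) ∈ Q.subgroupOf P from hx)
  · rw [← Subgroup.map_le_map_iff_of_injective (f := P.subtype) Subtype.coe_injective,
      Subgroup.map_sup, Subgroup.map_commutator, ← MonoidHom.range_eq_map, Subgroup.range_subtype,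
      Subgroup.map_subgroupOf_eq_of_le hQ, Subgroup.map_subgroupOf_eq_of_le hR]
    exact h

/-- A nilpotent group: proper subgroups are properly contained in their normalizer. -/
theorem lt_inf_normalizer {P D : Subgroup G} (hP : Group.IsNilpotent P) (hD : D < P) :
    D < P ⊓ Subgroup.normalizer (D : Set G) := by
  haveI := hP
  refine lt_of_le_of_ne (le_inf hD.le Subgroup.le_normalizer) fun heq => ?_
  have h1 : D.subgroupOf P < ⊤ := by
    rw [lt_top_iff_ne_top, Ne, Subgroup.subgroupOf_eq_top]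
    exact not_le_of_gt hD
  have h2 := Group.normalizerCondition_of_isNilpotent _ h1
  rw [← Subgroup.subgroupOf_normalizer_eq hD.le] at h2
  refine h2.ne ?_
  nth_rewrite 1 [heq]
  rw [Subgroup.inf_subgroupOf_left]

theorem sylow_isNilpotent [Finite G] [Fact p.Prime] (P : Sylow p G) :
    Group.IsNilpotent (P : Subgroup G) :=
  P.isPGroup'.isNilpotent

/-- In an abelian group, the elements of order prime to `p` generate only such elements. -/
theorem coprime_of_mem_pResidual_of_comm [Finite G] (hc : ∀ a b : G, a * b = b * a) {x : G}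
    (hx : x ∈ Cfsg.pResidual p G) : (orderOf x).Coprime p := by
  induction hx using Subgroup.closure_induction with
  | mem y hy => exact hy
  | one => simp
  | mul a b _ _ iha ihb =>
    exact Nat.Coprime.coprime_dvd_left
      ((Commute.orderOf_mul_dvd_lcm (hc a b)).trans (Nat.lcm_dvd_mul _ _))
      (Nat.Coprime.mul_left iha ihb)
  | inv a _ iha => rwa [orderOf_inv]

/-- A group without proper `p`-quotient has its Sylow `p`-subgroups inside the derived subgroup. -/
theorem sylow_le_commutator [Finite G] [hp : Fact p.Prime] (hG : Cfsg.pResidual p G = ⊤)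
    (P : Sylow p G) : (P : Subgroup G) ≤ commutator G := by
  intro x hx
  rw [← Abelianization.ker_of, MonoidHom.mem_ker]
  have h1 : Abelianization.of x ∈ Cfsg.pResidual p (Abelianization G) :=
    PBasic.map_pResidual_le Abelianization.of
      (Subgroup.mem_map_of_mem _ (hG ▸ Subgroup.mem_top x))
  refine PBasic.eq_one_of_isPGroup_of_coprime (P.isPGroup'.map Abelianization.of)
    (Subgroup.mem_map_of_mem _ hx) ?_
  exact coprime_of_mem_pResidual_of_comm (fun a b => mul_comm a b) h1

/-! ### Burnside's fusion argument -/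

/-- Two subsets normalised by a Sylow subgroup `P` that are conjugate are conjugate under
`N(P)`. -/
theorem conj_normalizer_of_conj [Finite G] [Fact p.Prime] (P : Sylow p G) (X Y : Set G)
    (hX : ∀ x ∈ P, (fun y => x * y * x⁻¹) '' X = X) (hY : ∀ x ∈ P, (fun y => x * y * x⁻¹) '' Y = Y)
    (g : G) (hg : (fun y => g * y * g⁻¹) '' X = Y) :
    ∃ n ∈ Subgroup.normalizer (P : Set G), (fun y => n * y * n⁻¹) '' X = Y := by
  have hPY : (P : Subgroup G) ≤ Subgroup.normalizer Y := by
    intro x hx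
    rw [Subgroup.mem_normalizer_iff_conj_image_eq]
    exact hY x hx
  have hgPY : ((g • P : Sylow p G) : Subgroup G) ≤ Subgroup.normalizer Y := by
    intro x hx
    rw [Sylow.coe_subgroup_smul, Subgroup.mem_pointwise_smul_iff_inv_smul_mem, ← map_inv,
      MulAut.smul_def, MulAut.conj_apply, inv_inv] at hx
    rw [Subgroup.mem_normalizer_iff_conj_image_eq]
    change (fun y => x * y * x⁻¹) '' Y = Y
    conv_lhs => rw [← hg, Set.image_image]
    conv_rhs => rw [← hg, ← hX _ hx, Set.image_image]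
    apply congrArg (· '' X)
    funext y
    group
  obtain ⟨c, hc⟩ := MulAction.exists_smul_eq (Subgroup.normalizer Y) ((g • P).subtype hgPY)
    (P.subtype hPY)
  simp_rw [Sylow.smul_subtype, Subgroup.smul_def, smul_smul] at hc
  refine ⟨(c : G) * g, Sylow.smul_eq_iff_mem_normalizer.mp (Sylow.subtype_injective hc), ?_⟩
  have hcY : (fun y => (c : G) * y * (c : G)⁻¹) '' Y = Y :=
    Subgroup.mem_normalizer_iff_conj_image_eq.1 c.2
  generalize (c : G) = d at hcY ⊢
  conv_rhs => rw [← hcY, ← hg, Set.image_image]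
  apply congrArg (· '' X)
  funext y
  group

/-! ### control of fusion -/

/-- The focal subgroup of a Sylow subgroup only depends on the fusion. -/
theorem commutator_inf_eq_of_controlsFusion [Finite G] [Fact p.Prime] (P : Sylow p G)
    (V : Subgroup G) (hPV : (P : Subgroup G) ≤ V)
    (hfus : ∀ x ∈ P, ∀ g : G, g * x * g⁻¹ ∈ P → ∃ v ∈ V, v * x * v⁻¹ = g * x * g⁻¹) :
    commutator G ⊓ (P : Subgroup G) = ⁅V, V⁆ ⊓ (P : Subgroup G) := by
  refine le_antisymm (le_inf ?_ inf_le_right)
    (inf_le_inf_right _ (Subgroup.commutator_mono le_top le_top))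
  rw [Subgroup.commutator_inf_eq_focalSubgroup, Subgroup.focalSubgroup_def, Subgroup.closure_le]
  rintro _ ⟨hz, x, hx, u, rfl⟩
  have h2 : u * x⁻¹ * u⁻¹ ∈ (P : Subgroup G) := by
    have := mul_mem (inv_mem hx) hz
    simpa [commutatorElement_def, mul_assoc] using this
  obtain ⟨v, hv, hvx⟩ := hfus x⁻¹ (inv_mem hx) u h2
  have : ⁅x, u⁆ = ⁅x, v⁆ := by
    rw [commutatorElement_def, commutatorElement_def, mul_assoc (x * u), mul_assoc (x * v)]
    simp only [mul_assoc] at hvx ⊢
    rw [hvx]
  rw [this]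
  exact Subgroup.commutator_mem_commutator (hPV hx) hv

/-- Control of fusion implies control of `O^p`. -/
theorem inf_pResidual_eq_of_controlsFusion [Finite G] [hp : Fact p.Prime] (P : Sylow p G)
    (V : Subgroup G) (hPV : (P : Subgroup G) ≤ V)
    (hfus : ∀ x ∈ P, ∀ g : G, g * x * g⁻¹ ∈ P → ∃ v ∈ V, v * x * v⁻¹ = g * x * g⁻¹) :
    (P : Subgroup G) ⊓ Cfsg.pResidual p G =
      (P : Subgroup G) ⊓ (Cfsg.pResidual p V).map V.subtype := by
  set K := Cfsg.pResidual p G with hK
  set W := (Cfsg.pResidual p V).map V.subtype with hW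
  have hWK : W ≤ K := PBasic.map_pResidual_le V.subtype
  refine le_antisymm (le_inf inf_le_left ?_) (inf_le_inf_left _ hWK)
  have hVW : V ≤ Subgroup.normalizer (W : Set G) := by
    intro v hv
    rw [Subgroup.mem_normalizer_iff]
    intro w
    constructor
    · rintro ⟨y, hy, rfl⟩
      exact ⟨⟨v, hv⟩ * y * ⟨v, hv⟩⁻¹, (PBasic.pResidual_normal_inst p V).conj_mem y hy _, by simp⟩
    · rintro ⟨y, hy, hyw⟩
      refine ⟨⟨v, hv⟩⁻¹ * y * ⟨v, hv⟩, ?_, ?_⟩
      · simpa using (PBasic.pResidual_normal_inst p V).conj_mem y hy (⟨v, hv⟩⁻¹ : V)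
      · simp only [Subgroup.subtype_apply] at hyw ⊢
        simp [hyw, mul_assoc]
  set Q := (P : Subgroup G) ⊓ K with hQ
  set R := (P : Subgroup G) ⊓ W with hR
  suffices h : Q ≤ R from h.trans inf_le_right
  have hPR : (P : Subgroup G) ≤ Subgroup.normalizer (R : Set G) :=
    (le_inf Subgroup.le_normalizer (hPV.trans hVW)).trans Subgroup.inf_normalizer_le_normalizer_inf
  refine le_of_le_commutator_sup (sylow_isNilpotent P) inf_le_left inf_le_left hPR ?_
  obtain ⟨QK, hQK⟩ := PBasic.exists_sylow_subgroupOf P K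
  have hQKle : (QK : Subgroup K) ≤ commutator K ⊓ (QK : Subgroup K) :=
    le_inf (sylow_le_commutator (PBasic.pResidual_idem p G) QK) le_rfl
  rw [Subgroup.commutator_inf_eq_focalSubgroup, Subgroup.focalSubgroup_def] at hQKle
  have hQmap : Q = (QK : Subgroup K).map K.subtype := by
    rw [hQK, Subgroup.subgroupOf_map_subtype]
  refine (hQmap.le.trans (Subgroup.map_mono hQKle)).trans ?_
  rw [MonoidHom.map_closure, Subgroup.closure_le]
  rintro _ ⟨_, ⟨hz, x, hx, u, rfl⟩, rfl⟩
  have hxQ : (x : G) ∈ Q := hQmap ▸ Subgroup.mem_map_of_mem K.subtype hx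
  have hxP : (x : G) ∈ (P : Subgroup G) := (Subgroup.mem_inf.1 hxQ).1
  have hxK : (x : G) ∈ K := (Subgroup.mem_inf.1 hxQ).2
  have h2 : ((u : G) * (x : G)⁻¹ * (u : G)⁻¹) ∈ (P : Subgroup G) := by
    have h3 := mul_mem (inv_mem hxP)
      (Subgroup.mem_inf.1 (hQmap ▸ Subgroup.mem_map_of_mem K.subtype hz : K.subtype ⁅x, u⁆ ∈ Q)).1
    simpa [commutatorElement_def, mul_assoc] using h3
  obtain ⟨v, hv, hvx⟩ := hfus (x : G)⁻¹ (inv_mem hxP) u h2
  have hsup : (⟨v, hv⟩ : V) ∈ (((P.subtype hPV : Sylow p V) : Subgroup V) ⊔ Cfsg.pResidual p V) := by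
    rw [PBasic.sylow_sup_pResidual]; exact Subgroup.mem_top _
  rw [← SetLike.mem_coe, Subgroup.mul_normal] at hsup
  obtain ⟨a, ha, w, hw, haw⟩ := Set.mem_mul.1 hsup
  have haP : (a : G) ∈ (P : Subgroup G) := ha
  have hwW : (w : G) ∈ W := Subgroup.mem_map_of_mem V.subtype hw
  have hv' : v = (a : G) * (w : G) := (congrArg Subtype.val haw).symm
  set z := (w : G) * (x : G)⁻¹ * (w : G)⁻¹ with hz'
  have hvz : (u : G) * (x : G)⁻¹ * (u : G)⁻¹ = (a : G) * z * (a : G)⁻¹ := by
    rw [← hvx, hv', hz']; group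
  have hzP : z ∈ (P : Subgroup G) := by
    have h3 := mul_mem (mul_mem (inv_mem haP) (hvz ▸ h2)) haP
    simpa [mul_assoc] using h3
  have hzQ : z ∈ Q := ⟨hzP, (Cfsg.Agent.PBasic.pResidual_normal_inst p G).conj_mem _
    (inv_mem hxK) _⟩
  have hxzR : (x : G) * z ∈ R := by
    refine ⟨mul_mem hxP hzP, ?_⟩
    have h4 : (x : G) * (w : G) * (x : G)⁻¹ ∈ W :=
      (Subgroup.mem_normalizer_iff.1 (hVW (hPV hxP)) _).1 hwW
    have h5 := mul_mem h4 (inv_mem hwW)
    simpa [hz', mul_assoc] using h5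
  have e : K.subtype ⁅x, u⁆ = ((x : G) * z) * ⁅z⁻¹, (a : G)⁆ := by
    have e1 : K.subtype ⁅x, u⁆ = (x : G) * ((u : G) * (x : G)⁻¹ * (u : G)⁻¹) := by
      simp [commutatorElement_def, mul_assoc]
    rw [e1, hvz, commutatorElement_def]; group
  rw [SetLike.mem_coe, e]
  exact mul_mem (Subgroup.mem_sup_right hxzR)
    (Subgroup.mem_sup_left (Subgroup.commutator_mem_commutator (inv_mem hzQ) haP))

/-- A Sylow subgroup controlling its own fusion has a normal complement. -/
theorem hasNormalPComplement_of_controlsFusion [Finite G] [hp : Fact p.Prime] (P : Sylow p G)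
    (hfus : ∀ x ∈ P, ∀ g : G, g * x * g⁻¹ ∈ P → ∃ v ∈ P, v * x * v⁻¹ = g * x * g⁻¹) :
    Cfsg.HasNormalPComplement p G := by
  rw [PBasic.hasNormalPComplement_iff_inf P, inf_comm,
    inf_pResidual_eq_of_controlsFusion P P le_rfl hfus]
  have : Cfsg.pResidual p (P : Subgroup G) = ⊥ := by
    rw [Cfsg.pResidual, Subgroup.closure_eq_bot_iff]
    intro x hx
    exact (PBasic.isPGroup_iff_forall_coprime.1 P.isPGroup') x hx
  rw [this, Subgroup.map_bot, inf_bot_eq]

/-- In a group with a normal `p`-complement a Sylow subgroup controls its own fusion. -/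
theorem controlsFusion_of_hasNormalPComplement [Finite G] [hp : Fact p.Prime] (P : Sylow p G)
    (h : Cfsg.HasNormalPComplement p G) :
    ∀ x ∈ P, ∀ g : G, g * x * g⁻¹ ∈ P → ∃ v ∈ P, v * x * v⁻¹ = g * x * g⁻¹ := by
  intro x hx g hy
  have hg : g ∈ ((P : Subgroup G) ⊔ Cfsg.pResidual p G : Subgroup G) := by
    rw [PBasic.sylow_sup_pResidual P]; exact Subgroup.mem_top g
  rw [← SetLike.mem_coe, Subgroup.mul_normal] at hg
  obtain ⟨a, ha, w, hw, rfl⟩ := Set.mem_mul.1 hg
  refine ⟨a, ha, ?_⟩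
  have h1 : w * x * w⁻¹ ∈ (P : Subgroup G) := by
    have h2 := mul_mem (mul_mem (inv_mem ha) (show a * w * x * (a * w)⁻¹ ∈ (P : Subgroup G) from hy)) ha
    simpa [mul_assoc] using h2
  have h3 : x⁻¹ * (w * x * w⁻¹) = 1 := by
    rw [← Subgroup.mem_bot, ← (PBasic.hasNormalPComplement_iff_inf P).1 h]
    refine Subgroup.mem_inf.2 ⟨?_, mul_mem (inv_mem (show x ∈ (P : Subgroup G) from hx)) h1⟩
    have h4 := (PBasic.pResidual_normal_inst p G).conj_mem w hw x⁻¹
    rw [inv_inv] at h4
    have h5 := mul_mem h4 (inv_mem hw)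
    simpa [mul_assoc] using h5
  rw [inv_mul_eq_one] at h3
  rw [show a * w * x * (a * w)⁻¹ = a * (w * x * w⁻¹) * a⁻¹ by group, ← h3]

/-! ### Frobenius' criterion -/

/-- `N(Q)/C(Q)` a `p`-group, element form. -/
theorem exists_centralizer_conj [Finite G] [hp : Fact p.Prime] {D : Subgroup G}
    (hD : ∀ g ∈ Subgroup.normalizer (D : Set G), (orderOf g).Coprime p →
      g ∈ Subgroup.centralizer (D : Set G))
    (S T : Sylow p (Subgroup.normalizer (D : Set G))) :
    ∃ c : Subgroup.normalizer (D : Set G),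
      (c : G) ∈ Subgroup.centralizer (D : Set G) ∧ c • S = T := by
  obtain ⟨k, rfl⟩ := MulAction.exists_smul_eq (Subgroup.normalizer (D : Set G)) S T
  have hk : k ∈ ((Cfsg.pResidual p (Subgroup.normalizer (D : Set G))) ⊔
      (S : Subgroup (Subgroup.normalizer (D : Set G)))) := by
    rw [sup_comm, PBasic.sylow_sup_pResidual S]; exact Subgroup.mem_top k
  rw [← SetLike.mem_coe, Subgroup.normal_mul] at hk
  obtain ⟨c, hc, s, hs, rfl⟩ := Set.mem_mul.1 hk
  refine ⟨c, ?_, ?_⟩
  · have : Cfsg.pResidual p (Subgroup.normalizer (D : Set G)) ≤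
        (Subgroup.centralizer (D : Set G)).comap (Subgroup.normalizer (D : Set G)).subtype := by
      rw [Cfsg.pResidual, Subgroup.closure_le]
      intro g hg
      exact hD g g.2 (by rwa [Subgroup.orderOf_coe])
    exact this hc
  · rw [mul_smul, Sylow.smul_eq_iff_mem_normalizer.2 (Subgroup.le_normalizer hs)]

/-- If all `N(D)/C(D)` (for `D ≤ P`) are `p`-groups then every Sylow subgroup is obtained from `P`
by a conjugation centralizing the intersection. -/
theorem exists_smul_eq_of_frobenius [Finite G] [hp : Fact p.Prime]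
    (hF : ∀ D : Subgroup G, IsPGroup p D → ∀ g ∈ Subgroup.normalizer (D : Set G),
      (orderOf g).Coprime p → g ∈ Subgroup.centralizer (D : Set G)) (P Q : Sylow p G) :
    ∃ c ∈ Subgroup.centralizer (((P : Subgroup G) ⊓ (Q : Subgroup G) : Subgroup G) : Set G),
      c • P = Q := by
  suffices h : ∀ n : ℕ, ∀ P Q : Sylow p G,
      Nat.card G - Nat.card ↥((P : Subgroup G) ⊓ (Q : Subgroup G)) ≤ n →
      ∃ c ∈ Subgroup.centralizer (((P : Subgroup G) ⊓ (Q : Subgroup G) : Subgroup G) : Set G),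
        c • P = Q from h _ P Q le_rfl
  intro n
  induction n using Nat.strong_induction_on with
  | _ n ih =>
    intro P Q hn
    set D := (P : Subgroup G) ⊓ (Q : Subgroup G) with hD
    by_cases hPD : D = (P : Subgroup G)
    · refine ⟨1, one_mem _, ?_⟩
      rw [one_smul]
      exact Sylow.ext (P.is_maximal' Q.isPGroup' (inf_eq_left.1 hPD)).symm
    have hQD : D ≠ (Q : Subgroup G) := fun hc => hPD <| by
      have := Q.is_maximal' P.isPGroup' (inf_eq_right.1 hc)
      rw [hD, this, inf_idem]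
    set N := Subgroup.normalizer (D : Set G) with hN
    have hDp : IsPGroup p D := P.isPGroup'.to_le inf_le_left
    have hPN : IsPGroup p ((P : Subgroup G).subgroupOf N) := P.isPGroup'.comap_subtype
    have hQN : IsPGroup p ((Q : Subgroup G).subgroupOf N) := Q.isPGroup'.comap_subtype
    obtain ⟨S, hS⟩ := hPN.exists_le_sylow
    obtain ⟨T, hT⟩ := hQN.exists_le_sylow
    obtain ⟨c, hc, rfl⟩ := exists_centralizer_conj (hF D hDp) S T
    obtain ⟨R, hR⟩ := S.exists_comap_subtype_eq
    have hlarge : ∀ {A : Subgroup G}, D < A → A ≤ ⊤ →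
        Nat.card G - Nat.card A < n := by
      intro A hA _
      have h1 : Nat.card D < Nat.card A := by
        rcases lt_or_ge (Nat.card D) (Nat.card A) with h | h
        · exact h
        · exact absurd (Subgroup.eq_of_le_of_card_ge hA.le h) hA.ne
      have h2 : Nat.card A ≤ Nat.card G := Subgroup.card_le_card_group A
      omega
    have hDN : D ≤ N := Subgroup.le_normalizer
    have hPR : (P : Subgroup G) ⊓ N ≤ (P : Subgroup G) ⊓ (R : Subgroup G) := by
      intro x hx
      refine ⟨hx.1, ?_⟩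
      have : (⟨x, hx.2⟩ : N) ∈ (R : Subgroup G).comap N.subtype := hR.symm ▸ hS hx.1
      exact this
    have hD1 : D < (P : Subgroup G) ⊓ (R : Subgroup G) :=
      lt_of_lt_of_le (lt_inf_normalizer (sylow_isNilpotent P)
        (lt_of_le_of_ne inf_le_left hPD)) hPR
    obtain ⟨c₁, hc₁, hc₁R⟩ := ih _ (hlarge hD1 le_top) P R le_rfl
    have hQR : (Q : Subgroup G) ⊓ N ≤
        (((c : G) • R : Sylow p G) : Subgroup G) ⊓ (Q : Subgroup G) := by
      intro x hx
      refine ⟨?_, hx.1⟩
      have h1 : (⟨x, hx.2⟩ : N) ∈ ((c • S : Sylow p N) : Subgroup N) := hT hx.1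
      rw [Sylow.coe_subgroup_smul, Subgroup.mem_pointwise_smul_iff_inv_smul_mem, ← map_inv,
        MulAut.smul_def, MulAut.conj_apply] at h1
      show x ∈ (((c : G) • R : Sylow p G) : Subgroup G)
      rw [Sylow.coe_subgroup_smul, Subgroup.mem_pointwise_smul_iff_inv_smul_mem, ← map_inv,
        MulAut.smul_def, MulAut.conj_apply]
      rw [← hR] at h1
      exact h1
    have hD2 : D < (((c : G) • R : Sylow p G) : Subgroup G) ⊓ (Q : Subgroup G) :=
      lt_of_lt_of_le (lt_inf_normalizer (sylow_isNilpotent Q)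
        (lt_of_le_of_ne inf_le_right hQD)) hQR
    obtain ⟨c₂, hc₂, hc₂Q⟩ := ih _ (hlarge hD2 le_top) ((c : G) • R) Q le_rfl
    have hm1 := Subgroup.centralizer_le (SetLike.coe_subset_coe.2 hD1.le) hc₁
    have hm2 := Subgroup.centralizer_le (SetLike.coe_subset_coe.2 hD2.le) hc₂
    exact ⟨c₂ * (c * c₁), mul_mem hm2 (mul_mem hc hm1),
      by rw [mul_smul, mul_smul, hc₁R, hc₂Q]⟩

/-- Frobenius: if every `N(D)/C(D)` is a `p`-group there is a normal `p`-complement. -/
theorem hasNormalPComplement_of_frobenius [Finite G] [hp : Fact p.Prime]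
    (hF : ∀ D : Subgroup G, IsPGroup p D → ∀ g ∈ Subgroup.normalizer (D : Set G),
      (orderOf g).Coprime p → g ∈ Subgroup.centralizer (D : Set G)) :
    Cfsg.HasNormalPComplement p G := by
  obtain ⟨P⟩ : Nonempty (Sylow p G) := inferInstance
  refine hasNormalPComplement_of_controlsFusion P fun x hx g hy => ?_
  obtain ⟨c, hc, hcQ⟩ := exists_smul_eq_of_frobenius hF P (g⁻¹ • P)
  have hxQ : x ∈ ((g⁻¹ • P : Sylow p G) : Subgroup G) := by
    rw [Sylow.coe_subgroup_smul, Subgroup.mem_pointwise_smul_iff_inv_smul_mem, ← map_inv,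
      MulAut.smul_def, MulAut.conj_apply, inv_inv]
    exact hy
  have hcx : x * c = c * x := hc x ⟨hx, hxQ⟩
  have hgc : g * c ∈ Subgroup.normalizer (P : Set G) := by
    rw [← Sylow.smul_eq_iff_mem_normalizer, mul_smul, hcQ, smul_inv_smul]
  have hgc' : (⟨g * c, hgc⟩ : Subgroup.normalizer (P : Set G)) ∈
      (((P.subtype Subgroup.le_normalizer : Sylow p _) : Subgroup _) ⊔ Cfsg.pResidual p _) := by
    rw [PBasic.sylow_sup_pResidual (p := p)
      (P.subtype Subgroup.le_normalizer : Sylow p (Subgroup.normalizer (P : Set G)))]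
    exact Subgroup.mem_top _
  rw [← SetLike.mem_coe, Subgroup.mul_normal] at hgc'
  obtain ⟨a, ha, w, hw, haw⟩ := Set.mem_mul.1 hgc'
  have haw' : (a : G) * (w : G) = g * c := congrArg Subtype.val haw
  have hwC : (w : G) ∈ Subgroup.centralizer (P : Set G) := by
    have : Cfsg.pResidual p (Subgroup.normalizer (P : Set G)) ≤
        (Subgroup.centralizer (P : Set G)).comap
          (Subgroup.normalizer (P : Set G)).subtype := by
      rw [Cfsg.pResidual, Subgroup.closure_le]
      intro y hy'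
      exact hF P P.isPGroup' y y.2 (by rwa [Subgroup.orderOf_coe])
    exact this hw
  refine ⟨a, ha, ?_⟩
  have hwx : x * (w : G) = (w : G) * x := hwC x hx
  calc (a : G) * x * (a : G)⁻¹ = (a : G) * (x * (w : G) * (w : G)⁻¹) * (a : G)⁻¹ := by group
    _ = ((a : G) * (w : G)) * x * ((a : G) * (w : G))⁻¹ := by rw [hwx]; group
    _ = g * (c * x * c⁻¹) * g⁻¹ := by rw [haw']; group
    _ = g * x * g⁻¹ := by rw [← hcx]; group

/-- A group with a normal `p`-complement has all `N(Q)/C(Q)` `p`-groups. -/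
theorem mem_centralizer_of_hasNormalPComplement [Finite G] [hp : Fact p.Prime] {Q : Subgroup G}
    (hQ : IsPGroup p Q)
    (h : Cfsg.HasNormalPComplement p (Subgroup.normalizer (Q : Set G))) {g : G}
    (hg : g ∈ Subgroup.normalizer (Q : Set G)) (hgo : (orderOf g).Coprime p) :
    g ∈ Subgroup.centralizer (Q : Set G) := by
  intro x hx
  have hx' : x ∈ Subgroup.normalizer (Q : Set G) := Subgroup.le_normalizer hx
  set a : Subgroup.normalizer (Q : Set G) := ⟨g, hg⟩
  set b : Subgroup.normalizer (Q : Set G) := ⟨x, hx'⟩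
  have h1 : b * a * b⁻¹ * a⁻¹ ∈ Cfsg.pResidual p (Subgroup.normalizer (Q : Set G)) := by
    have ha : a ∈ Cfsg.pResidual p _ := PBasic.mem_pResidual (by rwa [Subgroup.orderOf_mk])
    exact mul_mem ((PBasic.pResidual_normal_inst p _).conj_mem a ha b) (inv_mem ha)
  have h2 : (b * a * b⁻¹ * a⁻¹ : Subgroup.normalizer (Q : Set G)) ∈ Q.subgroupOf _ := by
    rw [Subgroup.mem_subgroupOf]
    change x * g * x⁻¹ * g⁻¹ ∈ Q
    rw [show x * g * x⁻¹ * g⁻¹ = x * (g * x⁻¹ * g⁻¹) by group]
    exact mul_mem hx ((Subgroup.mem_normalizer_iff.1 hg _).1 (inv_mem hx))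
  have h3 : b * a * b⁻¹ * a⁻¹ = 1 :=
    PBasic.eq_one_of_isPGroup_of_coprime (p := p) hQ.comap_subtype h2
      ((PBasic.mem_pResidual_iff h).1 h1)
  have h4 : x * g * x⁻¹ * g⁻¹ = 1 := congrArg Subtype.val h3
  rw [mul_inv_eq_one, mul_inv_eq_iff_eq_mul] at h4
  exact h4

/-! ### Burnside -/

/-- A Sylow subgroup central in its normalizer has a normal complement. -/
theorem hasNormalPComplement_of_normalizer_le_centralizer [Finite G] [hp : Fact p.Prime]
    (P : Sylow p G)
    (h : Subgroup.normalizer (P : Set G) ≤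
      Subgroup.centralizer (P : Set G)) :
    Cfsg.HasNormalPComplement p G :=
  ⟨P, (MonoidHom.transferSylow P h).ker, inferInstance,
    MonoidHom.ker_transferSylow_isComplement' P h⟩

end Cfsg.Agent.Fusion
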