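import Mathlib.GroupTheory.Focal
import Mathlib.GroupTheory.Transfer
import Mathlib.GroupTheory.SpecificGroups.Cyclic
import Cfsg.Agent.Lib.Transfer.Basic

/-!
Transfer into Hall subgroups: focal subgroup and abelian Hall subgroups.
-/

set_option autoImplicit false
set_option linter.style.haveILetI false

open scoped commutatorElement Pointwise IsMulCommutative

namespace Cfsg.Agent.TransferHall

variable {G : Type*} [Group G]

theorem coprime_index_focal [Finite G] (H : Subgroup G)
    (h : Nat.Coprime H.index (⁅H, H⁆.relIndex H)) :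
    Nat.Coprime H.index (Nat.card (H ⧸ H.focalSubgroupOf)) := by
  refine Nat.Coprime.coprime_dvd_right ?_ h
  rw [← Subgroup.map_subtype_commutator]
  change H.focalSubgroupOf.index ∣ (((commutator H).map H.subtype).subgroupOf H).index
  rw [Subgroup.subgroupOf, Subgroup.comap_map_eq_self_of_injective Subtype.coe_injective]
  exact Subgroup.index_dvd_of_le H.commutator_le_focalSubgroupOf

theorem pow_index_bijective [Finite G] (H : Subgroup G)
    (h : Nat.Coprime H.index (⁅H, H⁆.relIndex H)) :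
    Function.Bijective fun y : H ⧸ H.focalSubgroupOf => y ^ H.index :=
  (powCoprime (coprime_index_focal H h).symm).bijective

theorem ker_transferFocal_inf [Finite G] (H : Subgroup G)
    (h : Nat.Coprime H.index (⁅H, H⁆.relIndex H)) :
    H.transferFocal.ker ⊓ H = H.focalSubgroup := by
  ext x
  constructor
  · rintro ⟨hx, hxH⟩
    have h1 := H.transferFocal_eq_pow ⟨x, hxH⟩
    rw [MonoidHom.mem_ker.1 hx] at h1
    have h2 : ((⟨x, hxH⟩ : H) : H ⧸ H.focalSubgroupOf) = 1 :=
      (pow_index_bijective H h).1 (h1.symm.trans (one_pow _).symm)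
    exact (QuotientGroup.eq_one_iff (N := H.focalSubgroupOf) ⟨x, hxH⟩).1 h2
  · intro hx
    refine ⟨?_, H.focalSubgroup_le hx⟩
    exact (Abelianization.commutator_subset_ker H.transferFocal) (H.focalSubgroup_le_commutator hx)

theorem ker_transferFocal_sup [Finite G] (H : Subgroup G)
    (h : Nat.Coprime H.index (⁅H, H⁆.relIndex H)) : H.transferFocal.ker ⊔ H = ⊤ := by
  rw [eq_top_iff]
  intro g _
  obtain ⟨y, hy⟩ := (pow_index_bijective H h).2 (H.transferFocal g)
  obtain ⟨x, rfl⟩ := QuotientGroup.mk_surjective y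
  rw [← inv_mul_cancel_right g (x : G)]
  refine Subgroup.mul_mem _ (Subgroup.mem_sup_left ?_) (Subgroup.mem_sup_right x.2)
  change (x : H ⧸ H.focalSubgroupOf) ^ H.index = _ at hy
  rw [MonoidHom.mem_ker, map_mul, map_inv, H.transferFocal_eq_pow, hy, mul_inv_cancel]

theorem focal_eq [Finite G] (H : Subgroup G) (h : Nat.Coprime H.index (⁅H, H⁆.relIndex H)) :
    H.focalSubgroup = commutator G ⊓ H := by
  refine le_antisymm (le_inf H.focalSubgroup_le_commutator H.focalSubgroup_le) ?_
  rw [← ker_transferFocal_inf H h]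
  exact inf_le_inf_right _ (Abelianization.commutator_subset_ker H.transferFocal)

theorem coprime_of_hall [Finite G] (H : Subgroup G) (hH : Nat.Coprime (Nat.card H) H.index) :
    Nat.Coprime H.index (⁅H, H⁆.relIndex H) :=
  hH.symm.coprime_dvd_right (Subgroup.relIndex_dvd_card _ _)

/-- An abelian Hall subgroup meets `G' ∩ Z(G)` trivially. -/
theorem inf_commutator_inf_center [Finite G] (H : Subgroup G) (hc : IsMulCommutative H)
    (hHall : Nat.Coprime (Nat.card H) H.index) :
    H ⊓ commutator G ⊓ Subgroup.center G = ⊥ := by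
  rw [Subgroup.eq_bot_iff_forall]
  rintro x ⟨⟨hxH, hxG⟩, hxZ⟩
  letI : CommGroup H := { (inferInstance : Group H) with mul_comm := hc.is_comm.comm }
  have hkey : ∀ (k : ℕ) (g₀ : G), g₀⁻¹ * x ^ k * g₀ ∈ H → g₀⁻¹ * x ^ k * g₀ = x ^ k := by
    intro k g₀ _
    rw [mul_assoc, ← Subgroup.mem_center_iff.1 (Subgroup.pow_mem _ hxZ k) g₀, inv_mul_cancel_left]
  have h1 := MonoidHom.transfer_eq_pow (MonoidHom.id H) x hkey
  have h2 : MonoidHom.transfer (MonoidHom.id H) x = 1 :=
    (Abelianization.commutator_subset_ker _) hxG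
  rw [h2] at h1
  have h3 : x ^ H.index = 1 := (congrArg Subtype.val h1).symm
  rw [← orderOf_eq_one_iff]
  exact Nat.eq_one_of_dvd_coprimes hHall (Subgroup.orderOf_dvd_natCard H hxH)
    (orderOf_dvd_of_pow_eq_one h3)

/-- The splitting of an abelian normal Hall subgroup. -/
theorem abelian_normal_hall [Finite G] (A : Subgroup G) [A.Normal] (hc : IsMulCommutative A)
    (hHall : Nat.Coprime (Nat.card A) A.index) :
    ⁅A, (⊤ : Subgroup G)⁆ = commutator G ⊓ A ∧
      (commutator G ⊓ A) ⊓ (Subgroup.center G ⊓ A) = ⊥ ∧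
      (commutator G ⊓ A) ⊔ (Subgroup.center G ⊓ A) = A := by
  classical
  have hfoc : ⁅A, (⊤ : Subgroup G)⁆ = commutator G ⊓ A := by
    rw [← focal_eq A (coprime_of_hall A hHall)]
    refine le_antisymm ?_ ?_
    · rw [Subgroup.commutator_le]
      intro a ha g _
      exact Subgroup.subset_closure
        ⟨Subgroup.commutator_le_left A ⊤ (Subgroup.commutator_mem_commutator ha (Subgroup.mem_top g)),
          a, ha, g, rfl⟩
    · rw [Subgroup.focalSubgroup_def, Subgroup.closure_le]
      rintro _ ⟨-, a, ha, g, rfl⟩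
      exact Subgroup.commutator_mem_commutator ha (Subgroup.mem_top g)
  refine ⟨hfoc, ?_, ?_⟩
  · rw [← le_bot_iff, ← inf_commutator_inf_center A hc hHall]
    exact fun x hx => ⟨⟨hx.1.2, hx.1.1⟩, hx.2.1⟩
  · refine le_antisymm (sup_le inf_le_right inf_le_right) fun a ha => ?_
    letI : CommGroup A := { (inferInstance : Group A) with mul_comm := hc.is_comm.comm }
    haveI := Fintype.ofFinite (G ⧸ A)
    have hker : A ≤ (MulAut.conjNormal : G →* MulAut A).ker := by
      intro u hu
      rw [MonoidHom.mem_ker]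
      ext v
      rw [MulAut.conjNormal_apply, MulAut.one_apply,
        show u * (v : G) = (v : G) * u from congrArg Subtype.val (hc.is_comm.comm ⟨u, hu⟩ v),
        mul_inv_cancel_right]
    let ψ : G ⧸ A →* MulAut A := QuotientGroup.lift A MulAut.conjNormal hker
    set v : A := ⟨a, ha⟩
    let n : A := ∏ q : G ⧸ A, ψ q v
    have hn : (n : G) ∈ Subgroup.center G := by
      rw [Subgroup.mem_center_iff]
      intro g
      have h1 : ψ (g : G ⧸ A) n = n := by
        rw [map_prod]
        refine Fintype.prod_equiv (Equiv.mulLeft (g : G ⧸ A)) _ _ fun q => ?_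
        rw [Equiv.coe_mulLeft, map_mul, MulAut.mul_apply]
      have h2 := congrArg Subtype.val h1
      rw [show ((ψ (g : G ⧸ A) n : A) : G) = g * (n : G) * g⁻¹ from MulAut.conjNormal_apply g n] at h2
      exact mul_inv_eq_iff_eq_mul.1 h2
    let π : A →* A ⧸ (⁅A, (⊤ : Subgroup G)⁆).subgroupOf A := QuotientGroup.mk' _
    have hπ : ∀ q, π (ψ q v) = π v := by
      intro q
      obtain ⟨g, rfl⟩ := QuotientGroup.mk_surjective q
      refine QuotientGroup.eq.2 ?_
      rw [Subgroup.mem_subgroupOf, Subgroup.coe_mul, Subgroup.coe_inv,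
        show ((ψ (g : G ⧸ A) v : A) : G) = g * a * g⁻¹ from MulAut.conjNormal_apply g v]
      have h := Subgroup.commutator_mem_commutator (Subgroup.mem_top g) (A.inv_mem ha)
      rw [Subgroup.commutator_comm] at h
      simpa [commutatorElement_def, mul_assoc] using h
    have h3 : (v ^ A.index)⁻¹ * n ∈ (⁅A, (⊤ : Subgroup G)⁆).subgroupOf A := by
      rw [← QuotientGroup.eq]
      change π (v ^ A.index) = π n
      rw [map_pow, map_prod, Finset.prod_congr rfl fun q _ => hπ q, Finset.prod_const,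
        Finset.card_univ, ← Nat.card_eq_fintype_card]
      rfl
    rw [Subgroup.mem_subgroupOf, hfoc, Subgroup.coe_mul, Subgroup.coe_inv,
      SubmonoidClass.coe_pow] at h3
    have hnA : (n : G) ∈ Subgroup.center G ⊓ A := ⟨hn, n.2⟩
    have h4 : a ^ A.index ∈ (commutator G ⊓ A) ⊔ (Subgroup.center G ⊓ A) := by
      rw [show a ^ A.index = (n : G) * ((a ^ A.index)⁻¹ * (n : G))⁻¹ by group]
      exact Subgroup.mul_mem _ (Subgroup.mem_sup_right hnA)
        (Subgroup.inv_mem _ (Subgroup.mem_sup_left h3))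
    obtain ⟨m, hm⟩ := exists_pow_eq_self_of_coprime (x := a) (n := A.index)
      (hHall.coprime_dvd_left (Subgroup.orderOf_dvd_natCard A ha)).symm
    exact hm ▸ Subgroup.pow_mem _ h4 m

theorem normal_of_isCoatom [Finite G] [hG : Group.IsNilpotent G] {M : Subgroup G} (hM : IsCoatom M) :
    M.Normal :=
  ((Group.isNilpotent_of_finite_tfae (G := G)).out 0 2 rfl rfl).1 hG M hM

/-- A perfect group: central elements of a Sylow subgroup lie in its Frattini subgroup. -/
theorem mem_frattini_of_perfect [Finite G] {p : ℕ} [hp : Fact p.Prime] (P : Sylow p G)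
    (hG : commutator G = ⊤) {z : G} (hz : z ∈ Subgroup.center G) (hzP : z ∈ (P : Subgroup G)) :
    (⟨z, hzP⟩ : (P : Subgroup G)) ∈ frattini (P : Subgroup G) := by
  by_contra h
  rw [frattini, Order.radical, Subgroup.mem_iInf] at h
  push Not at h
  obtain ⟨M, hM⟩ := h
  rw [Subgroup.mem_iInf] at hM
  push Not at hM
  obtain ⟨hMco, hzM⟩ := hM
  haveI := P.isPGroup'.isNilpotent
  haveI : M.Normal := normal_of_isCoatom hMco
  set zc : (P : Subgroup G) ⧸ M := QuotientGroup.mk ⟨z, hzP⟩ with hzc
  have hgen : ∀ x : (P : Subgroup G) ⧸ M, x ∈ Subgroup.zpowers zc := by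
    intro x
    have htop : (Subgroup.zpowers zc).comap (QuotientGroup.mk' M) = ⊤ := by
      refine hMco.2 _ (lt_of_le_of_ne ?_ ?_)
      · intro m hm
        rw [Subgroup.mem_comap, QuotientGroup.mk'_apply, (QuotientGroup.eq_one_iff m).2 hm]
        exact Subgroup.one_mem _
      · intro he
        apply hzM
        rw [he]
        exact Subgroup.mem_zpowers zc
    obtain ⟨y, rfl⟩ := QuotientGroup.mk'_surjective M x
    exact (htop ▸ Subgroup.mem_top y : y ∈ (Subgroup.zpowers zc).comap (QuotientGroup.mk' M))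
  haveI : IsCyclic ((P : Subgroup G) ⧸ M) := ⟨zc, hgen⟩
  letI : CommGroup ((P : Subgroup G) ⧸ M) := IsCyclic.commGroup
  let φ : (P : Subgroup G) →* (P : Subgroup G) ⧸ M := QuotientGroup.mk' M
  have hkey : ∀ (k : ℕ) (g₀ : G), g₀⁻¹ * z ^ k * g₀ ∈ (P : Subgroup G) →
      g₀⁻¹ * z ^ k * g₀ = z ^ k := by
    intro k g₀ _
    rw [mul_assoc, ← Subgroup.mem_center_iff.1 (Subgroup.pow_mem _ hz k) g₀, inv_mul_cancel_left]
  have h1 := MonoidHom.transfer_eq_pow φ z hkey
  have h2 : MonoidHom.transfer φ z = 1 :=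
    (Abelianization.commutator_subset_ker _) (hG ▸ Subgroup.mem_top z)
  rw [h2] at h1
  have h3 : zc ^ (P : Subgroup G).index = 1 := by
    rw [hzc, ← QuotientGroup.mk_pow]
    exact h1.symm
  have h4 : zc = 1 := by
    obtain ⟨k, hk⟩ := IsPGroup.iff_orderOf.1 (P.isPGroup'.to_quotient M) zc
    rw [← orderOf_eq_one_iff]
    refine Nat.eq_one_of_dvd_coprimes ?_ dvd_rfl (orderOf_dvd_of_pow_eq_one h3)
    rw [hk]
    exact Nat.Coprime.pow_left k ((hp.out.coprime_iff_not_dvd).2 P.not_dvd_index)
  exact hzM ((QuotientGroup.eq_one_iff _).1 h4)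

end Cfsg.Agent.TransferHall
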