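import Mathlib.GroupTheory.Frattini
import Mathlib.GroupTheory.SemidirectProduct
import Cfsg.Prelude.Def_Transfer
import Cfsg.Agent.Lib.Transfer.Hall
import Cfsg.Agent.Lib.Solvable.Structure
import Cfsg.Agent.Lib.LocalEven.OmegaOne
import Cfsg.Agent.Lib.OddOrder.Nilpotent

/-!
Elementary facts on finite `p`-groups: normal series, powers and the Frattini subgroup, groups of
class two, `p'`-automorphisms fixing the elements of order `p`.
-/

set_option autoImplicit false
set_option linter.style.haveILetI false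

open scoped commutatorElement

namespace Cfsg.Agent.PGroupBasics

open Cfsg.Agent

variable {R : Type*} [Group R] {p : ℕ}

/-- Between normal subgroups of a `p`-group, one can climb by steps of index `p`. -/
theorem exists_step [Finite R] [hp : Fact p.Prime]
    (hR : IsPGroup p R) (M N : Subgroup R) [M.Normal] [N.Normal] (hlt : M < N) :
    ∃ B : Subgroup R, B.Normal ∧ M ≤ B ∧ B ≤ N ∧ Nat.card B = p * Nat.card M := by
  set f := QuotientGroup.mk' M with hf
  haveI := (hR.to_quotient M).isNilpotent
  haveI : (N.map f).Normal := ‹N.Normal›.map _ (QuotientGroup.mk'_surjective M)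
  have hne : N.map f ≠ ⊥ := fun h => by
    rw [Subgroup.map_eq_bot_iff, hf, QuotientGroup.ker_mk'] at h
    exact hlt.not_ge h
  have h1 := SolvStruct.inf_center_ne_bot hne
  haveI := (Subgroup.nontrivial_iff_ne_bot _).2 h1
  obtain ⟨m, hm0, hm⟩ := (IsPGroup.nontrivial_iff_card
    ((hR.to_quotient M).to_subgroup (N.map f ⊓ Subgroup.center _))).1 inferInstance
  obtain ⟨z, hz⟩ := exists_prime_orderOf_dvd_card'
    (G := ↥(N.map f ⊓ Subgroup.center (R ⧸ M))) p (hm ▸ dvd_pow_self p hm0.ne')
  set Z := Subgroup.zpowers (z : R ⧸ M) with hZ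
  have hZc : Z ≤ N.map f ⊓ Subgroup.center (R ⧸ M) := Subgroup.zpowers_le.2 z.2
  haveI : Z.Normal := ⟨fun a ha g => by
    rw [Subgroup.mem_center_iff.1 (hZc ha).2 g, mul_inv_cancel_right]; exact ha⟩
  refine ⟨Z.comap f, inferInstance, fun x hx => ?_, fun x hx => ?_, ?_⟩
  · rw [Subgroup.mem_comap, hf, QuotientGroup.mk'_apply, (QuotientGroup.eq_one_iff x).2 hx]
    exact one_mem _
  · obtain ⟨y, hy, hxy⟩ := (hZc hx).1
    have hmem : y⁻¹ * x ∈ M := QuotientGroup.eq.1 hxy
    rw [show x = y * (y⁻¹ * x) by group]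
    exact N.mul_mem hy (hlt.le hmem)
  · have e1 := (Z.comap f).card_mul_index
    rw [Subgroup.index_comap_of_surjective _ (QuotientGroup.mk'_surjective M)] at e1
    have e2 := M.card_eq_card_quotient_mul_card_subgroup
    have e3 := Z.card_mul_index
    have e4 : Nat.card Z = p := by rw [hZ, Nat.card_zpowers, Subgroup.orderOf_coe, hz]
    refine Nat.eq_of_mul_eq_mul_right
      (Nat.pos_of_ne_zero (Subgroup.index_ne_zero_of_finite (H := Z))) ?_
    rw [e1, e2, ← e3, e4]
    ring

/-- A maximal subgroup of a `p`-group has index `p`. -/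
theorem index_of_isCoatom [Finite R] [hp : Fact p.Prime] (hR : IsPGroup p R) {M : Subgroup R}
    (hM : IsCoatom M) : M.Normal ∧ M.index = p := by
  haveI := hR.isNilpotent
  haveI hn : M.Normal := TransferHall.normal_of_isCoatom hM
  obtain ⟨B, hBn, hMB, -, hB⟩ := exists_step hR M ⊤ hM.lt_top
  have hne : B ≠ M := fun h => by
    rw [h] at hB
    have := hp.out.two_le
    have : 0 < Nat.card M := Nat.card_pos
    nlinarith
  have hBtop : B = ⊤ := hM.2 B (lt_of_le_of_ne hMB (Ne.symm hne))
  rw [hBtop, Subgroup.card_top, ← M.card_mul_index, mul_comm p] at hB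
  exact ⟨hn, Nat.eq_of_mul_eq_mul_left Nat.card_pos hB⟩

theorem pow_mem_frattini [Finite R] [hp : Fact p.Prime] (hR : IsPGroup p R) (x : R) :
    x ^ p ∈ frattini R := by
  rw [frattini, Order.radical, Subgroup.mem_iInf]
  intro M
  rw [Subgroup.mem_iInf]
  intro hM
  obtain ⟨hn, hidx⟩ := index_of_isCoatom hR hM
  haveI := hn
  rw [← hidx]
  exact Subgroup.pow_index_mem M x

/-- Class two: commutation by an element is multiplicative. -/
theorem commutator_pow {a b : R} (hb : Commute ⁅a, b⁆ b) (n : ℕ) :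
    ⁅a, b ^ n⁆ = ⁅a, b⁆ ^ n := by
  induction n with
  | zero => simp
  | succ n ih =>
    rw [pow_succ' b n, pow_succ' ⁅a, b⁆ n, ← ih]
    have h : ⁅a, b * b ^ n⁆ = ⁅a, b⁆ * (b * ⁅a, b ^ n⁆ * b⁻¹) := by
      simp only [commutatorElement_def]; group
    rw [h, ih, ← (hb.pow_left n).eq, mul_inv_cancel_right]

/-- For odd `p`, in class at most two the elements killed by `p` are closed under products. -/
theorem mul_pow_eq_one [hp : Fact p.Prime] (hp2 : p ≠ 2)
    (hcl : ∀ a b : R, ⁅a, b⁆ ∈ Subgroup.center R) {x y : R} (hx : x ^ p = 1) (hy : y ^ p = 1) :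
    (x * y) ^ p = 1 := by
  set z := (x * y)⁻¹ * (y * x) with hz
  have hzc : ∀ u, Commute z u := by
    intro u
    have h : z = ⁅y⁻¹, x⁻¹⁆ := by rw [hz, commutatorElement_def]; group
    rw [h]
    exact (Subgroup.mem_center_iff.1 (hcl _ _) u).symm
  have hba : y * x = x * y * z := by rw [hz]; group
  have h1 := LEOmega.pow_mul_swap hba (hzc y) p
  rw [hy, one_mul, mul_one, eq_comm, mul_eq_left] at h1
  rw [LEOmega.mul_pow_class_two hba (hzc x) (hzc y), hx, hy, one_mul, one_mul]
  obtain ⟨d, hd⟩ := hp.out.dvd_choose_self two_ne_zero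
    (lt_of_le_of_ne hp.out.two_le (Ne.symm hp2))
  rw [hd, pow_mul, h1, one_pow]

theorem pow_eq_one_of_mem_closure [hp : Fact p.Prime] (hp2 : p ≠ 2)
    (hcl : ∀ a b : R, ⁅a, b⁆ ∈ Subgroup.center R) {g : R}
    (hg : g ∈ Subgroup.closure {x : R | x ^ p = 1}) : g ^ p = 1 := by
  induction hg using Subgroup.closure_induction with
  | mem x hx => exact hx
  | one => exact one_pow p
  | mul a b _ _ ha hb => exact mul_pow_eq_one hp2 hcl ha hb
  | inv a _ ha => rw [inv_pow, ha, inv_one]

/-- In a special group every commutator is central, and central elements have order dividing `p`. -/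
theorem special_center [Finite R] [hp : Fact p.Prime] (h : Cfsg.IsSpecial p R) :
    (∀ a b : R, ⁅a, b⁆ ∈ Subgroup.center R) ∧ (∀ x : R, x ^ p ∈ Subgroup.center R) ∧
      ∀ z ∈ Subgroup.center R, z ^ p = 1 := by
  obtain ⟨hR, hf, hd⟩ := h
  have h1 : ∀ a b : R, ⁅a, b⁆ ∈ Subgroup.center R := fun a b =>
    hd ▸ Subgroup.commutator_mem_commutator (Subgroup.mem_top a) (Subgroup.mem_top b)
  have h2 : ∀ x : R, x ^ p ∈ Subgroup.center R := fun x => hf ▸ pow_mem_frattini hR x
  refine ⟨h1, h2, fun z hz => ?_⟩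
  rw [← hd, commutator_def, Subgroup.commutator_def] at hz
  have hle : Subgroup.closure {g : R | ∃ a ∈ (⊤ : Subgroup R), ∃ b ∈ (⊤ : Subgroup R), ⁅a, b⁆ = g} ≤
      Subgroup.center R := by
    rw [Subgroup.closure_le]
    rintro _ ⟨a, -, b, -, rfl⟩
    exact h1 a b
  induction hz using Subgroup.closure_induction with
  | mem y hy =>
    obtain ⟨a, -, b, -, rfl⟩ := hy
    have hc : Commute ⁅a, b⁆ b := (Subgroup.mem_center_iff.1 (h1 a b) b).symm
    rw [← commutator_pow hc p]
    exact commutatorElement_eq_one_iff_mul_comm.2 (Subgroup.mem_center_iff.1 (h2 b) a)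
  | one => exact one_pow p
  | mul a b ha hb iha ihb =>
    rw [Commute.mul_pow (Subgroup.mem_center_iff.1 (hle hb) a), iha, ihb, one_mul]
  | inv a _ iha => rw [inv_pow, iha, inv_one]

/-- For odd `p`, a `p'`-automorphism fixing the elements of order `p` is trivial. -/
theorem aut_eq_one [Finite R] [hp : Fact p.Prime] (hp2 : p ≠ 2) (hR : IsPGroup p R) (a : MulAut R)
    (ha : Nat.Coprime (orderOf a) p) (h : ∀ x : R, x ^ p = 1 → a x = x) : a = 1 := by
  haveI : Finite (MulAut R) := Finite.of_injective _ MulEquiv.toEquiv_injective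
  let A := Subgroup.zpowers a
  let Γ := SemidirectProduct R A A.subtype
  haveI : Finite Γ := Finite.of_equiv (R × A) SemidirectProduct.equivProd.symm
  let g : A := ⟨a, Subgroup.mem_zpowers a⟩
  have hg : (orderOf (SemidirectProduct.inr g : Γ)).Coprime p := by
    rw [orderOf_injective _ SemidirectProduct.inr_injective, Subgroup.orderOf_mk]
    exact ha
  have hconj : ∀ n : R, (SemidirectProduct.inr g : Γ) * SemidirectProduct.inl n *
      (SemidirectProduct.inr g)⁻¹ = SemidirectProduct.inl (a n) := fun n => by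
    rw [← map_inv SemidirectProduct.inr, ← SemidirectProduct.inl_aut]
    rfl
  set Q : Subgroup Γ := (SemidirectProduct.inl : R →* Γ).range with hQ
  have hQp : IsPGroup p Q := by
    rw [hQ, MonoidHom.range_eq_map]
    exact (hR.to_subgroup _).map _
  have hn : (SemidirectProduct.inr g : Γ) ∈ Subgroup.normalizer (Q : Set Γ) := by
    have hQn : Q = (SemidirectProduct.rightHom : Γ →* A).ker :=
      SemidirectProduct.range_inl_eq_ker_rightHom
    haveI : Q.Normal := hQn ▸ MonoidHom.normal_ker _
    rw [Subgroup.normalizer_eq_top_iff.2 inferInstance]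
    exact Subgroup.mem_top _
  have hc := LEOmega.mem_centralizer_of_omega hp2 hg hQp hn (by
    rintro _ ⟨x, rfl⟩ hx
    rw [← map_pow, ← map_one (SemidirectProduct.inl : R →* Γ)] at hx
    have hfix := h x (SemidirectProduct.inl_injective hx)
    have := hconj x
    rw [hfix] at this
    exact mul_inv_eq_iff_eq_mul.1 this)
  apply MulEquiv.ext
  intro n
  apply SemidirectProduct.inl_injective (φ := A.subtype)
  rw [← hconj n, ← hc (SemidirectProduct.inl n) ⟨n, rfl⟩, mul_inv_cancel_right]
  rfl

/-- A maximal abelian normal subgroup of a nilpotent group is self-centralizing. -/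
theorem centralizer_eq_of_maximal [Finite R] [Group.IsNilpotent R] (A : Subgroup R) [A.Normal]
    (hA : IsMulCommutative A)
    (hmax : ∀ B : Subgroup R, B.Normal → IsMulCommutative B → A ≤ B → B = A) :
    Subgroup.centralizer (A : Set R) = A := by
  refine le_antisymm ?_ ?_
  · by_contra hle
    obtain ⟨x, hxC, hxA, hx⟩ := OddOrder.Nilp.exists_mem_commutator_le hle
    let B := Subgroup.closure ((A : Set R) ∪ {x})
    have hAB : A ≤ B := fun a ha => Subgroup.subset_closure (Or.inl ha)
    have hBn : B.Normal := by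
      refine Subgroup.normalizer_eq_top_iff.1 (eq_top_iff.2 fun g _ => ?_)
      have key : ∀ g : R, B.map (MulAut.conj g).toMonoidHom ≤ B := by
        intro g
        rw [Subgroup.map_le_iff_le_comap, Subgroup.closure_le]
        rintro z (hz | rfl)
        · exact hAB (Subgroup.Normal.conj_mem ‹_› z hz g)
        · change g * z * g⁻¹ ∈ B
          rw [show g * z * g⁻¹ = ⁅z, g⁆⁻¹ * z by rw [commutatorElement_def]; group]
          exact mul_mem (hAB (inv_mem (hx g))) (Subgroup.subset_closure (Or.inr rfl))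
      rw [Subgroup.mem_normalizer_iff]
      intro z
      refine ⟨fun hz => key g ⟨z, hz, rfl⟩, fun hz => ?_⟩
      have := key g⁻¹ ⟨_, hz, rfl⟩
      simpa [mul_assoc] using this
    have hBc : IsMulCommutative B := by
      refine Subgroup.isMulCommutative_closure ?_
      rintro a (ha | rfl) b (hb | rfl)
      · exact congrArg Subtype.val (hA.is_comm.comm (⟨a, ha⟩ : A) ⟨b, hb⟩)
      · exact hxC a ha
      · exact (hxC b hb).symm
      · rfl
    exact hxA (hmax B hBn hBc hAB ▸ Subgroup.subset_closure (Or.inr rfl))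
  · intro a ha b hb
    exact congrArg Subtype.val (hA.is_comm.comm (⟨b, hb⟩ : A) ⟨a, ha⟩)

end Cfsg.Agent.PGroupBasics
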