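import Cfsg.Agent.Lib.Transfer.Basic

/-!
Normalizers and centralizers of `p`-subgroups in a quotient by a normal `p'`-subgroup.
-/

set_option autoImplicit false
set_option linter.style.haveILetI false

open scoped Pointwise

namespace Cfsg.Agent.CoprimeQuotient

open Cfsg.Agent

variable {G : Type*} [Group G] {H : Type*} [Group H] {p : ℕ}

theorem injOn_of_coprime_ker [hp : Fact p.Prime] (f : G →* H) (hker : (Nat.card f.ker).Coprime p)
    {X : Subgroup G} (hX : IsPGroup p X) : Set.InjOn f X := by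
  intro a ha b hb hab
  rw [← inv_mul_eq_one, ← Subgroup.mem_bot, ← PBasic.inf_eq_bot_of_coprime hker hX]
  refine Subgroup.mem_inf.2 ⟨?_, X.mul_mem (X.inv_mem ha) hb⟩
  rw [MonoidHom.mem_ker, map_mul, map_inv, hab, inv_mul_cancel]

theorem normalizer_map [Finite G] [hp : Fact p.Prime] (f : G →* H) (hf : Function.Surjective f)
    (hker : (Nat.card f.ker).Coprime p) {X : Subgroup G} (hX : IsPGroup p X) :
    Subgroup.normalizer ((X.map f : Subgroup H) : Set H) =
      (Subgroup.normalizer (X : Set G)).map f := by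
  refine le_antisymm (fun y hy => ?_) (Subgroup.le_normalizer_map f)
  obtain ⟨g, rfl⟩ := hf y
  set Y := X ⊔ f.ker with hY
  have hXY : X ≤ Y := le_sup_left
  have hgX : X.map (MulAut.conj g).toMonoidHom ≤ Y := by
    rintro _ ⟨x, hx, rfl⟩
    have h1 : f (g * x * g⁻¹) ∈ X.map f := by
      rw [map_mul, map_mul, map_inv]
      exact (Subgroup.mem_normalizer_iff.1 hy _).1 (Subgroup.mem_map_of_mem f hx)
    obtain ⟨x', hx', he⟩ := h1
    rw [MulEquiv.coe_toMonoidHom, MulAut.conj_apply, hY, ← mul_inv_cancel_left x' (g * x * g⁻¹)]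
    refine Subgroup.mul_mem _ (Subgroup.mem_sup_left hx') (Subgroup.mem_sup_right ?_)
    rw [MonoidHom.mem_ker, map_mul, map_inv, he, inv_mul_cancel]
  have hidx : ∀ Z : Subgroup G, Z ≤ Y → IsPGroup p Z → Nat.card Z = Nat.card X →
      ∃ S : Sylow p Y, (S : Subgroup Y) = Z.subgroupOf Y := by
    intro Z hZY hZ hZc
    refine ⟨(hZ.comap_subtype).toSylow ?_, rfl⟩
    change ¬ p ∣ Z.relIndex Y
    have h1 := PBasic.card_mul_relIndex hZY
    have h2 := PBasic.card_mul_relIndex hXY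
    rw [← h2, hZc] at h1
    rw [Nat.eq_of_mul_eq_mul_left Nat.card_pos h1, PBasic.relIndex_eq_relIndex_sup_left,
      ← hp.out.coprime_iff_not_dvd]
    exact (Nat.Coprime.coprime_dvd_left (Subgroup.relIndex_dvd_card X f.ker) hker).symm
  obtain ⟨S, hS⟩ := hidx X hXY hX rfl
  obtain ⟨T, hT⟩ := hidx _ hgX (hX.map _) (Subgroup.card_map_of_injective (MulAut.conj g).injective)
  obtain ⟨k, hk⟩ := MulAction.exists_smul_eq Y S T
  have hkg : (k : G)⁻¹ * g ∈ Subgroup.normalizer (X : Set G) := by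
    rw [Subgroup.mem_normalizer_iff_map_conj_eq]
    refine Subgroup.eq_of_le_of_card_ge ?_ (le_of_eq ?_)
    · rintro _ ⟨x, hx, rfl⟩
      have hgx : g * x * g⁻¹ ∈ Y := hgX ⟨x, hx, by simp⟩
      have h1 : (⟨g * x * g⁻¹, hgx⟩ : Y) ∈ (T : Subgroup Y) := by
        rw [hT]
        exact ⟨x, hx, by simp⟩
      rw [← hk, Sylow.coe_subgroup_smul, Subgroup.mem_pointwise_smul_iff_inv_smul_mem, ← map_inv,
        MulAut.smul_def, hS, Subgroup.mem_subgroupOf] at h1
      simpa [mul_assoc] using h1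
    · exact (Subgroup.card_map_of_injective (MulAut.conj _).injective).symm
  have hk2 : (k : G) ∈ X ⊔ f.ker := k.2
  rw [← SetLike.mem_coe, Subgroup.mul_normal] at hk2
  obtain ⟨x, hx, m, hm, hxm⟩ := Set.mem_mul.1 hk2
  refine ⟨x * ((k : G)⁻¹ * g), Subgroup.mul_mem _ (Subgroup.le_normalizer hx) hkg, ?_⟩
  rw [map_mul, map_mul, map_inv, ← hxm, map_mul, MonoidHom.mem_ker.1 hm, mul_one,
    mul_inv_cancel_left]

theorem centralizer_map [Finite G] [hp : Fact p.Prime] (f : G →* H) (hf : Function.Surjective f)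
    (hker : (Nat.card f.ker).Coprime p) {X : Subgroup G} (hX : IsPGroup p X) :
    Subgroup.centralizer ((X.map f : Subgroup H) : Set H) =
      (Subgroup.centralizer (X : Set G)).map f := by
  apply le_antisymm
  · intro y hy
    have h1 := Subgroup.centralizer_le_normalizer _ hy
    rw [normalizer_map f hf hker hX] at h1
    obtain ⟨n, hn, rfl⟩ := h1
    refine ⟨n, fun x hx => ?_, rfl⟩
    have h2 : n * x * n⁻¹ ∈ X := (Subgroup.mem_normalizer_iff.1 hn x).1 hx
    have h3 : n * x * n⁻¹ = x := injOn_of_coprime_ker f hker hX h2 hx (by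
      rw [map_mul, map_mul, map_inv, ← hy (f x) ⟨x, hx, rfl⟩, mul_inv_cancel_right])
    exact (mul_inv_eq_iff_eq_mul.1 h3).symm
  · rintro _ ⟨g, hg, rfl⟩ _ ⟨x, hx, rfl⟩
    rw [← map_mul, ← map_mul, hg x hx]

theorem inf_centralizer_map [hp : Fact p.Prime] (f : G →* H) (P : Subgroup G)
    (hf : Set.InjOn f P) :
    (P ⊓ Subgroup.centralizer (P : Set G)).map f =
      P.map f ⊓ Subgroup.centralizer ((P.map f : Subgroup H) : Set H) := by
  apply le_antisymm
  · rintro _ ⟨z, hz, rfl⟩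
    refine Subgroup.mem_inf.2 ⟨Subgroup.mem_map_of_mem f (Subgroup.mem_inf.1 hz).1, ?_⟩
    rintro _ ⟨x, hx, rfl⟩
    rw [← map_mul, ← map_mul, (Subgroup.mem_inf.1 hz).2 x hx]
  · rintro _ ⟨⟨z, hz, rfl⟩, hzc⟩
    exact ⟨z, ⟨hz, fun x hx => hf (P.mul_mem hx hz) (P.mul_mem hz hx) (by
      rw [map_mul, map_mul, hzc (f x) ⟨x, hx, rfl⟩])⟩, rfl⟩

end Cfsg.Agent.CoprimeQuotient
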