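import Cfsg.Agent.Lib.Transfer.Basic
import Mathlib.GroupTheory.Perm.Cycle.Type
import Mathlib.GroupTheory.GroupAction.Quotient
import Mathlib.GroupTheory.SpecificGroups.Dihedral

/-!
Thompson transfer via the sign of a semiregular permutation, and its dihedral consequence.
-/

set_option autoImplicit false

namespace Cfsg.Agent.SignThompson

open Cfsg.Agent

variable {G : Type*} [Group G]

/-- A 2-element acting semiregularly with an odd number of cycles is odd. -/
theorem exists_sign_hom [Finite G] (M : Subgroup G) (u : G) (k m : ℕ)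
    (hu : orderOf u = 2 ^ (k + 1)) (hconj : ∀ g : G, g⁻¹ * u ^ (2 ^ k) * g ∉ M)
    (hm : Odd m) (hidx : M.index = 2 ^ (k + 1) * m) :
    ∃ χ : G →* ℤˣ, χ u = -1 := by
  classical
  haveI : Fintype (G ⧸ M) := Fintype.ofFinite _
  refine ⟨Equiv.Perm.sign.comp (MulAction.toPermHom G (G ⧸ M)), ?_⟩
  simp only [MonoidHom.coe_comp, Function.comp_apply]
  set σ : Equiv.Perm (G ⧸ M) := MulAction.toPermHom G (G ⧸ M) u with hσ
  have happ : ∀ (j : ℕ) (x : G ⧸ M), (σ ^ j) x = u ^ j • x := by
    intro j x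
    rw [hσ, ← map_pow]
    rfl
  have hfree : ∀ (j : ℕ) (x : G ⧸ M), u ^ j • x = x → 2 ^ (k + 1) ∣ j := by
    intro j x hjx
    rw [MulAction.pow_smul_eq_iff_minimalPeriod_dvd] at hjx
    have hn : u ^ (2 ^ (k + 1)) • x = x := by rw [← hu, pow_orderOf_eq_one, one_smul]
    rw [MulAction.pow_smul_eq_iff_minimalPeriod_dvd] at hn
    obtain ⟨i, hi, hper⟩ := (Nat.dvd_prime_pow Nat.prime_two).1 hn
    rcases Nat.lt_or_ge k i with hki | hki
    · have : i = k + 1 := le_antisymm hi hki
      rwa [hper, this] at hjx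
    · exfalso
      have hfix : u ^ (2 ^ k) • x = x := by
        rw [MulAction.pow_smul_eq_iff_minimalPeriod_dvd, hper]
        exact Nat.pow_dvd_pow 2 hki
      obtain ⟨g, rfl⟩ := QuotientGroup.mk_surjective x
      rw [MulAction.Quotient.smul_mk, QuotientGroup.eq, smul_eq_mul] at hfix
      apply hconj g
      have h2 := M.inv_mem hfix
      convert h2 using 1
      group
  have hlen : ∀ l ∈ σ.cycleType, l = 2 ^ (k + 1) := by
    intro l hl
    have h1 : l ∣ 2 ^ (k + 1) := by
      refine (Equiv.Perm.dvd_of_mem_cycleType hl).trans ?_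
      rw [hσ, ← hu]
      exact orderOf_map_dvd _ u
    rw [Equiv.Perm.cycleType_def, Multiset.mem_map] at hl
    obtain ⟨c, hc, rfl⟩ := hl
    rw [Finset.mem_val, Equiv.Perm.mem_cycleFactorsFinset_iff] at hc
    obtain ⟨a, ha⟩ := hc.1.nonempty_support
    refine Nat.dvd_antisymm h1 ?_
    apply hfree _ a
    have h2 : ∀ j : ℕ, (σ ^ j) a = (c ^ j) a ∧ (c ^ j) a ∈ c.support := by
      intro j
      induction j with
      | zero => exact ⟨rfl, ha⟩
      | succ j ih =>
        constructor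
        · rw [pow_succ', pow_succ', Equiv.Perm.mul_apply, Equiv.Perm.mul_apply, ih.1]
          exact (hc.2 _ ih.2).symm
        · rw [pow_succ', Equiv.Perm.mul_apply]
          exact Equiv.Perm.apply_mem_support.2 ih.2
    rw [← happ, (h2 _).1]
    simp only [Function.comp_apply]
    rw [← hc.1.orderOf, pow_orderOf_eq_one]
    rfl
  have hsupp : σ.support = Finset.univ := by
    rw [Finset.eq_univ_iff_forall]
    intro x
    rw [Equiv.Perm.mem_support]
    intro hx
    have h1 := hfree 1 x (by rw [← happ, pow_one]; exact hx)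
    have h2 : 2 ≤ 2 ^ (k + 1) := by
      calc 2 = 2 ^ 1 := rfl
        _ ≤ 2 ^ (k + 1) := Nat.pow_le_pow_right (by norm_num) (by omega)
    have := Nat.le_of_dvd one_pos h1
    omega
  have hrep : σ.cycleType = Multiset.replicate (Multiset.card σ.cycleType) (2 ^ (k + 1)) :=
    Multiset.eq_replicate.2 ⟨rfl, hlen⟩
  have hsum : σ.cycleType.sum = 2 ^ (k + 1) * m := by
    rw [Equiv.Perm.sum_cycleType, hsupp, Finset.card_univ, ← Nat.card_eq_fintype_card,
      ← Subgroup.index, hidx]
  have hcard : Multiset.card σ.cycleType = m := by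
    rw [hrep, Multiset.sum_replicate, smul_eq_mul, mul_comm] at hsum
    exact Nat.eq_of_mul_eq_mul_left (Nat.two_pow_pos (k + 1)) hsum
  rw [Equiv.Perm.sign_of_cycleType, hsum, hcard]
  refine Odd.neg_one_pow ?_
  refine Even.add_odd ?_ hm
  exact ⟨2 ^ k * m, by ring⟩

/-- A group equal to its 2-residual has no nontrivial sign character. -/
theorem hom_eq_one (hG : Cfsg.pResidual 2 G = ⊤) (χ : G →* ℤˣ) (g : G) : χ g = 1 := by
  have h : Cfsg.pResidual 2 G ≤ χ.ker := by
    rw [Cfsg.pResidual, Subgroup.closure_le]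
    intro v hv
    rw [SetLike.mem_coe, MonoidHom.mem_ker, ← orderOf_eq_one_iff]
    have h2 : orderOf (χ v) ∣ 2 := orderOf_dvd_of_pow_eq_one (by rw [sq, Int.units_mul_self])
    exact Nat.eq_one_of_dvd_coprimes hv (orderOf_map_dvd χ v) h2
  exact h (hG ▸ Subgroup.mem_top g)

theorem dihedral_two_sq : ∀ y : DihedralGroup 2, y * y = 1 := by decide

/-- In a dihedral group everything outside a cyclic subgroup of index 2 is an involution. -/
theorem orderOf_eq_two [Finite G] (D C : Subgroup G) {n : ℕ} (hn : 2 ≤ n)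
    (e : D ≃* DihedralGroup n) (hCD : C ≤ D) (hC : IsCyclic C) (hCi : C.relIndex D = 2)
    {x : G} (hx : x ∈ D) (hxC : x ∉ C) : orderOf x = 2 := by
  haveI : NeZero n := ⟨by omega⟩
  have hx1 : x ≠ 1 := fun h => hxC (h ▸ C.one_mem)
  have key : e ⟨x, hx⟩ * e ⟨x, hx⟩ = 1 := by
    rcases eq_or_lt_of_le hn with rfl | hn3
    · exact dihedral_two_sq _
    · rcases hex : e ⟨x, hx⟩ with i | i
      · exfalso
        obtain ⟨g, hg⟩ := hC.exists_generator
        have hgD : (g : G) ∈ D := hCD g.2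
        have hcardC : Nat.card C = n := by
          have h1 := PBasic.card_mul_relIndex hCD
          rw [hCi, Nat.card_congr e.toEquiv, DihedralGroup.nat_card] at h1
          omega
        have hord : orderOf (e ⟨g, hgD⟩) = n := by
          rw [MulEquiv.orderOf_eq, Subgroup.orderOf_mk, Subgroup.orderOf_coe,
            orderOf_eq_card_of_forall_mem_zpowers hg, hcardC]
        rcases heg : e ⟨g, hgD⟩ with j | j
        · have hle : Subgroup.zpowers (DihedralGroup.r j : DihedralGroup n) ≤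
              Subgroup.zpowers (DihedralGroup.r 1) := by
            rw [Subgroup.zpowers_le]
            exact ⟨(j.val : ℤ), by
              show (DihedralGroup.r 1 : DihedralGroup n) ^ (j.val : ℤ) = _
              rw [zpow_natCast, DihedralGroup.r_one_pow, ZMod.natCast_zmod_val]⟩
          have heq := Subgroup.eq_of_le_of_card_ge hle (by
            rw [Nat.card_zpowers, Nat.card_zpowers, DihedralGroup.orderOf_r_one, ← heg, hord])
          have hi : (DihedralGroup.r i : DihedralGroup n) ∈ Subgroup.zpowers (DihedralGroup.r j) := by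
            rw [heq]
            exact ⟨(i.val : ℤ), by
              show (DihedralGroup.r 1 : DihedralGroup n) ^ (i.val : ℤ) = _
              rw [zpow_natCast, DihedralGroup.r_one_pow, ZMod.natCast_zmod_val]⟩
          obtain ⟨z, hz⟩ := hi
          change (DihedralGroup.r j : DihedralGroup n) ^ z = _ at hz
          rw [← heg, ← hex, ← map_zpow] at hz
          have hz' := congrArg Subtype.val (e.injective hz)
          rw [SubgroupClass.coe_zpow] at hz'
          have hz2 : (g : G) ^ z = x := hz'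
          exact hxC (by rw [← hz2]; exact Subgroup.zpow_mem C g.2 z)
        · rw [heg, DihedralGroup.orderOf_sr] at hord
          omega
      · exact DihedralGroup.sr_mul_self i
  rw [← map_mul, ← map_one e] at key
  have hxx : x * x = 1 := congrArg Subtype.val (e.injective key)
  exact orderOf_eq_prime (by rw [sq, hxx]) hx1

theorem exists_normal_supplement [Finite G] (L T S D C : Subgroup G)
    (hL : Cfsg.pResidual 2 ↥L = ⊤) (hTL : T ≤ L) (hT2 : IsPGroup 2 T)
    (hTsyl : ¬ 2 ∣ T.relIndex L) (hS2 : IsPGroup 2 S) (hSsyl : ¬ 2 ∣ S.index) (hTS : T ≤ S)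
    (hDS : D ≤ S) (hDih : ∃ n : ℕ, 2 ≤ n ∧ Nonempty (↥D ≃* DihedralGroup n))
    (hDT : D ⊓ T = ⊥) (hTD : T ⊔ D = S) (hTDc : Nat.card T * Nat.card D = Nat.card S)
    (hCD : C ≤ D) (hC : IsCyclic ↥C) (hCi : C.relIndex D = 2)
    (h1 : ∀ x ∈ D, x ∉ C → orderOf x = 2 → ∀ g : G, g * x * g⁻¹ ∈ T ⊔ C → False)
    (h2 : ∀ c ∈ C, orderOf c = 2 → ∀ g : G, g * c * g⁻¹ ∈ T → False) :
    ∃ K : Subgroup G, K.Normal ∧ K ⊔ D = ⊤ ∧
      ∀ T' : Subgroup G, T' ≤ L → IsPGroup 2 T' → ¬ 2 ∣ T'.relIndex L →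
        T' ≤ K ∧ ¬ 2 ∣ T'.relIndex K := by
  haveI : Fact (Nat.Prime 2) := ⟨Nat.prime_two⟩
  obtain ⟨n, hn, ⟨e⟩⟩ := hDih
  set K := Cfsg.pResidual 2 G with hK
  have hLK : L ≤ K := by
    have h := PBasic.map_pResidual_le (p := 2) L.subtype
    rw [hL, ← MonoidHom.range_eq_map, Subgroup.range_subtype] at h
    exact h
  have hTK : T ≤ K := hTL.trans hLK
  have hdecomp : ∀ s ∈ S, ∃ t ∈ T, ∃ d ∈ D, t * d = s := by
    have hinj : Function.Injective
        (fun z : T × D => (⟨(z.1 : G) * z.2, S.mul_mem (hTS z.1.2) (hDS z.2.2)⟩ : S)) := by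
      intro a b hab
      refine Subgroup.mul_injective_of_disjoint (H₁ := T) (H₂ := D) ?_ (congrArg Subtype.val hab)
      rw [disjoint_iff, inf_comm, hDT]
    have hbij := (Nat.bijective_iff_injective_and_card _).2 ⟨hinj, by rw [Nat.card_prod, hTDc]⟩
    intro s hs
    obtain ⟨⟨t, d⟩, htd⟩ := hbij.2 ⟨s, hs⟩
    exact ⟨t, t.2, d, d.2, congrArg Subtype.val htd⟩
  -- step one: `D ∩ K ≤ C`
  have hDK : D ⊓ K ≤ C := by
    rintro x ⟨hxD, hxK⟩
    by_contra hxC
    have hord := orderOf_eq_two D C hn e hCD hC hCi hxD hxC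
    have hMS : T ⊔ C ≤ S := sup_le hTS (hCD.trans hDS)
    have hne : T ⊔ C ≠ S := fun he => h1 x hxD hxC hord 1 (by
      rw [one_mul, inv_one, mul_one, he]; exact hDS hxD)
    have hcard : Nat.card T * Nat.card C ≤ Nat.card ↥(T ⊔ C) := by
      rw [← Nat.card_prod]
      refine Nat.card_le_card_of_injective
        (fun z : T × C => (⟨(z.1 : G) * z.2, Subgroup.mul_mem_sup z.1.2 z.2.2⟩ : ↥(T ⊔ C))) ?_
      intro a b hab
      refine Subgroup.mul_injective_of_disjoint (H₁ := T) (H₂ := C) ?_ (congrArg Subtype.val hab)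
      refine Disjoint.mono_right hCD ?_
      rw [disjoint_iff, inf_comm, hDT]
    have hri : (T ⊔ C).relIndex S = 2 := by
      have e1 := PBasic.card_mul_relIndex hMS
      have e2 := PBasic.card_mul_relIndex hCD
      rw [hCi] at e2
      have e3 : Nat.card ↥(T ⊔ C) * (T ⊔ C).relIndex S ≤ 2 * Nat.card ↥(T ⊔ C) := by
        rw [e1, ← hTDc, ← e2]
        calc Nat.card T * (Nat.card C * 2) = 2 * (Nat.card T * Nat.card C) := by ring
          _ ≤ _ := Nat.mul_le_mul_left 2 hcard
      have e4 : (T ⊔ C).relIndex S ≤ 2 := by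
        rw [mul_comm 2] at e3
        exact Nat.le_of_mul_le_mul_left e3 Nat.card_pos
      have e5 : (T ⊔ C).relIndex S ≠ 1 := fun he =>
        hne (le_antisymm hMS (Subgroup.relIndex_eq_one.1 he))
      have e6 : (T ⊔ C).relIndex S ≠ 0 := fun he => by
        rw [he, mul_zero] at e1
        exact Nat.card_pos.ne e1
      omega
    have hidx : (T ⊔ C).index = 2 ^ (0 + 1) * S.index := by
      rw [← Subgroup.relIndex_mul_index hMS, hri]
      ring
    obtain ⟨χ, hχ⟩ := exists_sign_hom (T ⊔ C) x 0 S.index (by rw [hord]; rfl)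
      (fun g hg => h1 x hxD hxC hord g⁻¹ (by
        rw [inv_inv]; simpa using hg))
      (Nat.odd_iff.2 (by omega)) hidx
    have h3 := hom_eq_one (G := K) (PBasic.pResidual_idem 2 G) (χ.comp K.subtype) ⟨x, hxK⟩
    rw [MonoidHom.comp_apply, Subgroup.subtype_apply, hχ] at h3
    exact absurd h3 (by decide)
  have hSK : ¬ 2 ∣ S.relIndex K := by
    rw [PBasic.relIndex_eq_relIndex_sup S K]
    exact fun h => hSsyl (h.trans (Subgroup.relIndex_dvd_index_of_le le_sup_right))
  -- step two: `D ∩ K = 1`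
  have hbot : D ⊓ K = ⊥ := by
    by_contra hne
    haveI : IsCyclic ↥(D ⊓ K) :=
      isCyclic_of_injective (Subgroup.inclusion hDK) (Subgroup.inclusion_injective hDK)
    obtain ⟨⟨u, huDK⟩, hgen⟩ := IsCyclic.exists_generator (α := ↥(D ⊓ K))
    have huord : orderOf u = Nat.card ↥(D ⊓ K) := by
      rw [← orderOf_eq_card_of_forall_mem_zpowers hgen, Subgroup.orderOf_mk]
    obtain ⟨j, hj⟩ := IsPGroup.iff_card.1 (hS2.to_le (inf_le_left.trans hDS : D ⊓ K ≤ S))
    obtain ⟨k, rfl⟩ : ∃ k, j = k + 1 := by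
      refine Nat.exists_eq_succ_of_ne_zero ?_
      rintro rfl
      exact hne (Subgroup.card_eq_one.1 (by rw [hj, pow_zero]))
    rw [hj] at huord
    have hTinf : Nat.card ↥(S ⊓ K) = Nat.card T * Nat.card ↥(D ⊓ K) := by
      rw [← Nat.card_prod]
      symm
      refine Nat.card_congr (Equiv.ofBijective (fun z : T × ↥(D ⊓ K) =>
        (⟨(z.1 : G) * z.2, ⟨S.mul_mem (hTS z.1.2) (hDS z.2.2.1),
          K.mul_mem (hTK z.1.2) z.2.2.2⟩⟩ : ↥(S ⊓ K))) ⟨?_, ?_⟩)
      · intro a b hab
        refine Subgroup.mul_injective_of_disjoint (H₁ := T) (H₂ := D ⊓ K) ?_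
          (congrArg Subtype.val hab)
        refine Disjoint.mono_right inf_le_left ?_
        rw [disjoint_iff, inf_comm, hDT]
      · rintro ⟨s, hsS, hsK⟩
        obtain ⟨t, ht, d, hd, rfl⟩ := hdecomp s hsS
        refine ⟨(⟨t, ht⟩, ⟨d, hd, ?_⟩), rfl⟩
        have := K.mul_mem (K.inv_mem (hTK ht)) hsK
        rwa [inv_mul_cancel_left] at this
    have hTle : T ≤ S ⊓ K := le_inf hTS hTK
    have hrel : T.relIndex (S ⊓ K) = 2 ^ (k + 1) := by
      have e1 := PBasic.card_mul_relIndex hTle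
      rw [hTinf, hj] at e1
      exact Nat.eq_of_mul_eq_mul_left Nat.card_pos e1
    have hidx : (T.subgroupOf K).index = 2 ^ (k + 1) * S.relIndex K := by
      rw [← hrel, ← Subgroup.inf_relIndex_right S K, Subgroup.relIndex_mul_relIndex T (S ⊓ K) K
        hTle inf_le_right]
      rfl
    have hu2 : orderOf (u ^ 2 ^ k) = 2 := by
      rw [orderOf_pow' u (Nat.two_pow_pos k).ne', huord,
        Nat.gcd_eq_right (pow_dvd_pow 2 (Nat.le_succ k)), Nat.pow_div (Nat.le_succ k) two_pos,
        Nat.succ_eq_add_one, Nat.add_sub_cancel_left, pow_one]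
    obtain ⟨χ, hχ⟩ := exists_sign_hom (T.subgroupOf K) (⟨u, huDK.2⟩ : K) k (S.relIndex K)
      (by rw [Subgroup.orderOf_mk, huord])
      (fun g hg => h2 (u ^ 2 ^ k) (C.pow_mem (hDK huDK) _) hu2 (g : G)⁻¹ (by
        rw [Subgroup.mem_subgroupOf] at hg
        simpa using hg))
      (Nat.odd_iff.2 (by omega)) hidx
    have h3 := hom_eq_one (G := K) (PBasic.pResidual_idem 2 G) χ ⟨u, huDK.2⟩
    rw [hχ] at h3
    exact absurd h3 (by decide)
  have hSKT : S ⊓ K ≤ T := by
    rintro s ⟨hsS, hsK⟩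
    obtain ⟨t, ht, d, hd, rfl⟩ := hdecomp s hsS
    have hdK : d ∈ K := by
      have := K.mul_mem (K.inv_mem (hTK ht)) hsK
      rwa [inv_mul_cancel_left] at this
    have hd1 : d ∈ D ⊓ K := ⟨hd, hdK⟩
    rw [hbot, Subgroup.mem_bot] at hd1
    rw [hd1, mul_one]
    exact ht
  refine ⟨K, inferInstance, ?_, ?_⟩
  · have hs := PBasic.sylow_sup_pResidual (hS2.toSylow hSsyl)
    change S ⊔ K = ⊤ at hs
    rw [eq_top_iff, ← hs]
    refine sup_le ?_ le_sup_left
    rw [← hTD]
    exact sup_le (hTK.trans le_sup_left) le_sup_right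
  · intro T' hT'L hT'2 hT'syl
    refine ⟨hT'L.trans hLK, ?_⟩
    have hTK2 : T.relIndex K = S.relIndex K := by
      rw [← Subgroup.inf_relIndex_right S K, le_antisymm hSKT (le_inf hTS hTK)]
    have hc : Nat.card T' = Nat.card T := by
      have ea := PBasic.card_mul_relIndex hT'L
      have eb := PBasic.card_mul_relIndex hTL
      rw [← eb] at ea
      obtain ⟨a, ha⟩ := IsPGroup.iff_card.1 hT'2
      obtain ⟨b, hb⟩ := IsPGroup.iff_card.1 hT2
      rw [ha, hb] at ea ⊢
      have c1 : (2 : ℕ) ^ a ∣ 2 ^ b := (Nat.Coprime.pow_left a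
        (Nat.prime_two.coprime_iff_not_dvd.2 hTsyl)).dvd_of_dvd_mul_right ⟨_, ea.symm⟩
      have c2 : (2 : ℕ) ^ b ∣ 2 ^ a := (Nat.Coprime.pow_left b
        (Nat.prime_two.coprime_iff_not_dvd.2 hT'syl)).dvd_of_dvd_mul_right ⟨_, ea⟩
      exact Nat.dvd_antisymm c1 c2
    have ea := PBasic.card_mul_relIndex (hT'L.trans hLK)
    have eb := PBasic.card_mul_relIndex hTK
    rw [← eb, hc, hTK2] at ea
    rw [Nat.eq_of_mul_eq_mul_left Nat.card_pos ea]
    exact hSK

end Cfsg.Agent.SignThompson
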