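import Mathlib.GroupTheory.Subgroup.Centralizer
import Mathlib.GroupTheory.SpecificGroups.Cyclic
import Cfsg.Agent.Lib.Transfer.Fusion

/-!
Transfer consequences for abelian Sylow subgroups.
-/

set_option autoImplicit false
set_option linter.style.haveILetI false

open scoped commutatorElement Pointwise

namespace Cfsg.Agent.AbelianSylow

open Cfsg.Agent

variable {G : Type*} [Group G] {p : ℕ}

/-- Decompose an element of a group as (element of a Sylow subgroup) * (element of the residual). -/
theorem exists_mul_sylow_pResidual [Finite G] [Fact p.Prime] (P : Sylow p G) (g : G) :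
    ∃ a ∈ P, ∃ w ∈ Cfsg.pResidual p G, a * w = g := by
  have hg : g ∈ ((P : Subgroup G) ⊔ Cfsg.pResidual p G : Subgroup G) := by
    rw [PBasic.sylow_sup_pResidual]; exact Subgroup.mem_top g
  rw [← SetLike.mem_coe, Subgroup.mul_normal] at hg
  obtain ⟨a, ha, w, hw, h⟩ := Set.mem_mul.1 hg
  exact ⟨a, ha, w, hw, h⟩

/-- An element normalizing `H`, of order prime to an exponent of `Aut H`, centralizes `H`. -/
theorem mem_centralizer_of_forall_pow {H : Subgroup G} {n : ℕ} {g : G}
    (hg : g ∈ Subgroup.normalizer (H : Set G)) (hn : ∀ a : MulAut H, orderOf a ∣ orderOf g → orderOf a ∣ n)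
    (hco : (orderOf g).Coprime n) : g ∈ Subgroup.centralizer (H : Set G) := by
  have h1 : H.normalizerMonoidHom ⟨g, hg⟩ = 1 := by
    rw [← orderOf_eq_one_iff]
    have h2 : orderOf (H.normalizerMonoidHom ⟨g, hg⟩) ∣ orderOf g :=
      (orderOf_map_dvd _ _).trans (by rw [Subgroup.orderOf_mk])
    exact Nat.eq_one_of_dvd_coprimes hco h2 (hn _ h2)
  have h3 : (⟨g, hg⟩ : Subgroup.normalizer (H : Set G)) ∈ H.normalizerMonoidHom.ker := h1
  rw [Subgroup.normalizerMonoidHom_ker] at h3
  exact h3

theorem normalizer_le_centralizer_of_coprime [Finite G] [Fact p.Prime] (P : Sylow p G)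
    (hP : IsMulCommutative P)
    (h : ∀ g ∈ Subgroup.normalizer (P : Set G), (orderOf g).Coprime p →
      g ∈ Subgroup.centralizer (P : Set G)) :
    Subgroup.normalizer (P : Set G) ≤ Subgroup.centralizer (P : Set G) := by
  intro g hg
  obtain ⟨a, ha, w, hw, haw⟩ := exists_mul_sylow_pResidual
    (P.subtype Subgroup.le_normalizer : Sylow p (Subgroup.normalizer (P : Set G))) ⟨g, hg⟩
  have h1 : Cfsg.pResidual p (Subgroup.normalizer (P : Set G)) ≤
      (Subgroup.centralizer (P : Set G)).comap (Subgroup.normalizer (P : Set G)).subtype := by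
    rw [Cfsg.pResidual, Subgroup.closure_le]
    intro y hy
    exact h y y.2 (by rwa [Subgroup.orderOf_coe])
  have h2 : (a : G) * (w : G) = g := congrArg Subtype.val haw
  rw [← h2]
  haveI := hP
  exact mul_mem ((P : Subgroup G).le_centralizer ha) (h1 hw)

/-- An abelian Sylow subgroup with the coprime elements of its normalizer acting trivially has a
normal complement. -/
theorem hasNormalPComplement_of_abelian [Finite G] [Fact p.Prime] (P : Sylow p G)
    (hP : IsMulCommutative P)
    (h : ∀ g ∈ Subgroup.normalizer (P : Set G), (orderOf g).Coprime p →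
      g ∈ Subgroup.centralizer (P : Set G)) :
    Cfsg.HasNormalPComplement p G :=
  Fusion.hasNormalPComplement_of_normalizer_le_centralizer P
    (normalizer_le_centralizer_of_coprime P hP h)

theorem fusion_normalizer [Finite G] [Fact p.Prime] (P : Sylow p G) (hP : IsMulCommutative P) :
    ∀ x ∈ P, ∀ g : G, g * x * g⁻¹ ∈ P →
      ∃ v ∈ Subgroup.normalizer (P : Set G), v * x * v⁻¹ = g * x * g⁻¹ := by
  intro x hx g hy
  obtain ⟨n, hn, he⟩ := P.conj_eq_normalizer_conj_of_mem (_hP := hP) x g⁻¹ hx (by simpa using hy)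
  exact ⟨n⁻¹, inv_mem hn, by simpa using he.symm⟩

/-- For an abelian Sylow subgroup, `P ∩ O^p(G) = [P, N(P)]`. -/
theorem inf_pResidual_eq_commutator [Finite G] [hp : Fact p.Prime] (P : Sylow p G)
    (hP : IsMulCommutative P) :
    (P : Subgroup G) ⊓ Cfsg.pResidual p G =
      ⁅(P : Subgroup G), Subgroup.normalizer (P : Set G)⁆ := by
  haveI := hP
  apply le_antisymm
  · have hker : Cfsg.pResidual p G ≤ (Subgroup.transferFocal (P : Subgroup G)).ker :=
      PBasic.pResidual_le (IsPGroup.of_equiv (P.isPGroup'.to_quotient _)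
        (Subgroup.transferFocal.quotientKerMulEquivQuotientFocalSubroupOf P).symm)
    have h1 : (P : Subgroup G) ⊓ Cfsg.pResidual p G ≤
        (Subgroup.transferFocal (P : Subgroup G)).ker ⊓ (P : Subgroup G) :=
      le_inf (inf_le_right.trans hker) inf_le_left
    rw [Subgroup.ker_transferFocal_inf_eq_focalSubgroup] at h1
    refine h1.trans ?_
    rw [Subgroup.focalSubgroup_def, Subgroup.closure_le]
    rintro _ ⟨hz, x, hx, u, rfl⟩
    have h2 : u * x⁻¹ * u⁻¹ ∈ (P : Subgroup G) := by
      have := mul_mem (inv_mem hx) hz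
      simpa [commutatorElement_def, mul_assoc] using this
    obtain ⟨v, hv, hvx⟩ := fusion_normalizer P hP x⁻¹ (inv_mem hx) u h2
    have : ⁅x, u⁆ = ⁅x, v⁆ := by
      simp only [commutatorElement_def, mul_assoc] at hvx ⊢
      rw [hvx]
    rw [SetLike.mem_coe, this]
    exact Subgroup.commutator_mem_commutator hx hv
  · rw [Subgroup.commutator_le]
    intro x hx n hn
    obtain ⟨a, ha, w, hw, haw⟩ := exists_mul_sylow_pResidual
      (P.subtype Subgroup.le_normalizer : Sylow p (Subgroup.normalizer (P : Set G))) ⟨n, hn⟩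
    have hn' : n = (a : G) * (w : G) := (congrArg Subtype.val haw).symm
    have hwK : (w : G) ∈ Cfsg.pResidual p G :=
      PBasic.map_pResidual_le _ (Subgroup.mem_map_of_mem (Subgroup.normalizer (P : Set G)).subtype hw)
    have hxa : (a : G)⁻¹ * x = x * (a : G)⁻¹ :=
      congrArg Subtype.val (hP.is_comm.comm (⟨a, ha⟩⁻¹ : (P : Subgroup G)) ⟨x, hx⟩)
    refine Subgroup.mem_inf.2 ⟨?_, ?_⟩
    · rw [commutatorElement_def, mul_assoc x n, mul_assoc x]
      exact mul_mem hx ((Subgroup.mem_normalizer_iff.1 hn _).1 (inv_mem hx))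
    · rw [commutatorElement_def, hn']
      have h3 : x * ((a : G) * (w : G)) * x⁻¹ * ((a : G) * (w : G))⁻¹ =
          (a : G) * ((x * (w : G) * x⁻¹) * (w : G)⁻¹) * (a : G)⁻¹ := by
        have h5 : x * (a : G) = (a : G) * x := by
          have := congrArg (fun t => (a : G) * t * (a : G)) hxa
          simpa [mul_assoc] using this
        rw [← mul_assoc, h5]; group
      rw [h3]
      exact (PBasic.pResidual_normal_inst p G).conj_mem _
        (mul_mem ((PBasic.pResidual_normal_inst p G).conj_mem _ hwK x) (inv_mem hwK)) _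

end Cfsg.Agent.AbelianSylow
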