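import Mathlib.Data.List.OfFn
import Cfsg.Agent.Lib.Transfer.Fusion

/-!
Alperin's fusion theorem with tame intersections.
-/

set_option autoImplicit false
set_option linter.style.haveILetI false

open scoped Pointwise

namespace Cfsg.Agent.Alperin

open Cfsg.Agent

variable {G : Type*} [Group G] {p : ℕ}

/-- `H^u = u⁻¹ H u`. -/
def cj (u : G) (H : Subgroup G) : Subgroup G := MulAut.conj u⁻¹ • H

/-- `A^u = u⁻¹ A u`. -/
def cjs (u : G) (A : Set G) : Set G := (fun a => u⁻¹ * a * u) '' A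

theorem mem_cj {u x : G} {H : Subgroup G} : x ∈ cj u H ↔ u * x * u⁻¹ ∈ H := by
  rw [cj, Subgroup.mem_pointwise_smul_iff_inv_smul_mem, ← map_inv, inv_inv, MulAut.smul_def,
    MulAut.conj_apply]

theorem coe_cj (u : G) (H : Subgroup G) : (cj u H : Set G) = cjs u (H : Set G) := by
  ext x
  rw [SetLike.mem_coe, mem_cj]
  refine ⟨fun h => ⟨_, h, by group⟩, ?_⟩
  rintro ⟨a, ha, rfl⟩
  rw [show u * (u⁻¹ * a * u) * u⁻¹ = a by group]
  exact ha

theorem cj_mono (u : G) {H K : Subgroup G} (h : H ≤ K) : cj u H ≤ cj u K :=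
  fun x hx => mem_cj.2 (h (mem_cj.1 hx))

theorem cj_inf (u : G) (H K : Subgroup G) : cj u (H ⊓ K) = cj u H ⊓ cj u K :=
  Subgroup.smul_inf _ _ _

theorem cj_cj (u v : G) (H : Subgroup G) : cj v (cj u H) = cj (u * v) H := by
  rw [cj, cj, cj, smul_smul, ← map_mul, mul_inv_rev]

theorem card_cj (u : G) (H : Subgroup G) : Nat.card (cj u H) = Nat.card H :=
  (Nat.card_congr (Subgroup.equivSMul (MulAut.conj u⁻¹) H).toEquiv).symm

theorem cj_normalizer (u : G) (H : Subgroup G) :
    cj u (Subgroup.normalizer (H : Set G)) = Subgroup.normalizer (cj u H : Set G) :=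
  Subgroup.map_equiv_normalizer_eq H (MulAut.conj u⁻¹)

theorem relIndex_cj (u : G) (H K : Subgroup G) :
    (cj u H).relIndex (cj u K) = H.relIndex K :=
  Subgroup.relIndex_map_map_of_injective _ _ (MulEquiv.injective _)

theorem cj_eq_of_mem_normalizer {u : G} {H : Subgroup G}
    (hu : u ∈ Subgroup.normalizer (H : Set G)) : cj u H = H :=
  Subgroup.mem_normalizer_iff_map_conj_eq.1 (Subgroup.inv_mem _ hu)

theorem mem_normalizer_of_cj_eq {u : G} {H : Subgroup G} (h : cj u H = H) :
    u ∈ Subgroup.normalizer (H : Set G) := by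
  have h1 : u⁻¹ ∈ Subgroup.normalizer (H : Set G) := Subgroup.mem_normalizer_iff_map_conj_eq.2 h
  simpa using Subgroup.inv_mem _ h1

theorem coe_smul_inv [Fact p.Prime] (u : G) (R : Sylow p G) :
    ((u⁻¹ • R : Sylow p G) : Subgroup G) = cj u (R : Subgroup G) :=
  Sylow.coe_subgroup_smul

theorem cjs_mul (u v : G) (A : Set G) : cjs v (cjs u A) = cjs (u * v) A := by
  rw [cjs, cjs, cjs, Set.image_image]
  apply congrArg (· '' A)
  funext a
  group

theorem cjs_one (A : Set G) : cjs 1 A = A := by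
  rw [cjs]; simp

theorem cjs_mono (u : G) {A B : Set G} (h : A ⊆ B) : cjs u A ⊆ cjs u B := Set.image_mono h

/-- The intersection `P ∩ Q` is tame. -/
def Tame (P Q : Sylow p G) : Prop :=
  ¬ p ∣ ((P : Subgroup G) ⊓ Subgroup.normalizer ((((P : Subgroup G) ⊓ (Q : Subgroup G)) : Subgroup G) : Set G)).relIndex (Subgroup.normalizer ((((P : Subgroup G) ⊓ (Q : Subgroup G)) : Subgroup G) : Set G)) ∧
    ¬ p ∣ ((Q : Subgroup G) ⊓ Subgroup.normalizer ((((P : Subgroup G) ⊓ (Q : Subgroup G)) : Subgroup G) : Set G)).relIndex (Subgroup.normalizer ((((P : Subgroup G) ⊓ (Q : Subgroup G)) : Subgroup G) : Set G))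

/-- `g` is a product of elements of normalizers of tame intersections, carrying `A` along. -/
inductive Chain (P : Sylow p G) : Set G → G → Prop
  | nil {A : Set G} : Chain P A 1
  | cons {A : Set G} {x g : G} (Q : Sylow p G) : Tame P Q →
      x ∈ Subgroup.normalizer ((((P : Subgroup G) ⊓ (Q : Subgroup G)) : Subgroup G) : Set G) →
      A ⊆ (((P : Subgroup G) ⊓ (Q : Subgroup G) : Subgroup G) : Set G) →
      Chain P (cjs x A) g → Chain P A (x * g)

theorem Chain.mono {P : Sylow p G} {A B : Set G} {g : G} (h : Chain P A g) (hB : B ⊆ A) :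
    Chain P B g := by
  induction h generalizing B with
  | nil => exact .nil
  | cons Q hQ hx hA _ ih => exact .cons Q hQ hx (hB.trans hA) (ih (cjs_mono _ hB))

theorem Chain.trans {P : Sylow p G} {A : Set G} {g h : G} (h1 : Chain P A g)
    (h2 : Chain P (cjs g A) h) : Chain P A (g * h) := by
  induction h1 with
  | nil => rw [one_mul]; rwa [cjs_one] at h2
  | cons Q hQ hx hA _ ih =>
    rw [mul_assoc]
    exact .cons Q hQ hx hA (ih (by rwa [cjs_mul]))

theorem tame_self [Finite G] [Fact p.Prime] (P : Sylow p G) : Tame P P := by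
  have h : ¬ p ∣ ((P : Subgroup G) ⊓ Subgroup.normalizer ((P : Subgroup G) : Set G)).relIndex
      (Subgroup.normalizer ((P : Subgroup G) : Set G)) := by
    rw [inf_eq_left.2 Subgroup.le_normalizer]
    exact (P.subtype Subgroup.le_normalizer).not_dvd_index
  unfold Tame
  rw [inf_idem]
  exact ⟨h, h⟩

/-- A Sylow subgroup of a subgroup, extended. -/
theorem exists_sylow_inf [Finite G] [Fact p.Prime] (N : Subgroup G) (X : Subgroup G)
    (hX : IsPGroup p X) (hXN : X ≤ N) :
    ∃ U : Sylow p G, X ≤ (U : Subgroup G) ∧ ¬ p ∣ ((U : Subgroup G) ⊓ N).relIndex N := by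
  obtain ⟨T, hT⟩ := (hX.comap_subtype (K := N)).exists_le_sylow
  obtain ⟨U, hU⟩ := T.exists_comap_subtype_eq
  refine ⟨U, fun x hx => ?_, ?_⟩
  · have h1 : (⟨x, hXN hx⟩ : N) ∈ (U : Subgroup G).comap N.subtype := by
      rw [hU]; exact hT hx
    exact h1
  · rw [Subgroup.inf_relIndex_right]
    change ¬ p ∣ ((U : Subgroup G).comap N.subtype).index
    rw [hU]
    exact T.not_dvd_index

/-- Two Sylow subgroups of a subgroup are conjugate in it. -/
theorem exists_conj_sylow [Finite G] [Fact p.Prime] {N A B : Subgroup G}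
    (hA : IsPGroup p A) (hB : IsPGroup p B) (hAN : A ≤ N) (hBN : B ≤ N)
    (hA' : ¬ p ∣ A.relIndex N) (hB' : ¬ p ∣ B.relIndex N) : ∃ w ∈ N, cj w A = B := by
  let SA : Sylow p N := (hA.comap_subtype (K := N)).toSylow hA'
  let SB : Sylow p N := (hB.comap_subtype (K := N)).toSylow hB'
  obtain ⟨c, hc⟩ := MulAction.exists_smul_eq N SA SB
  refine ⟨(c : G)⁻¹, N.inv_mem c.2, ?_⟩
  have hmem : ∀ x : G, ∀ hx : x ∈ N, (x ∈ B ↔ (c : G)⁻¹ * x * (c : G) ∈ A) := by
    intro x hx
    have h1 : ((⟨x, hx⟩ : N) ∈ ((SB : Subgroup N))) ↔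
        (⟨x, hx⟩ : N) ∈ ((c • SA : Sylow p N) : Subgroup N) := by rw [hc]
    rw [Sylow.coe_subgroup_smul, Subgroup.mem_pointwise_smul_iff_inv_smul_mem, ← map_inv,
      MulAut.smul_def, MulAut.conj_apply, inv_inv] at h1
    exact h1
  ext x
  rw [mem_cj, inv_inv]
  constructor
  · intro h
    have hx : x ∈ N := by
      have := N.mul_mem (N.mul_mem c.2 (hAN h)) (N.inv_mem c.2)
      simpa [mul_assoc] using this
    exact (hmem x hx).2 h
  · intro h
    exact (hmem x (hBN h)).1 h

/-- Every Sylow subgroup is carried to `P` by a chain defined on the intersection. -/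
theorem exists_chain [Finite G] [Fact p.Prime] (P R : Sylow p G) :
    ∃ x : G, Chain P (((P : Subgroup G) ⊓ (R : Subgroup G) : Subgroup G) : Set G) x ∧
      x⁻¹ • R = P := by
  suffices h : ∀ n : ℕ, ∀ R : Sylow p G,
      Nat.card G < n + Nat.card ((P : Subgroup G) ⊓ (R : Subgroup G) : Subgroup G) →
      ∃ x : G, Chain P (((P : Subgroup G) ⊓ (R : Subgroup G) : Subgroup G) : Set G) x ∧
        x⁻¹ • R = P by
    exact h (Nat.card G + 1) R (by omega)
  intro n
  induction n with
  | zero =>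
    intro R hR
    have := Subgroup.card_le_card_group ((P : Subgroup G) ⊓ (R : Subgroup G))
    omega
  | succ n ih =>
    intro R hR
    by_cases hRP : R = P
    · exact ⟨1, .nil, by rw [inv_one, one_smul, hRP]⟩
    have ih' : ∀ (S : Sylow p G) (X : Subgroup G),
        Nat.card ((P : Subgroup G) ⊓ (R : Subgroup G) : Subgroup G) < Nat.card X →
        X ≤ (P : Subgroup G) → X ≤ (S : Subgroup G) →
        ∃ x : G, Chain P (((P : Subgroup G) ⊓ (S : Subgroup G) : Subgroup G) : Set G) x ∧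
          x⁻¹ • S = P := by
      intro S X hX hXP hXS
      have := Nat.le_of_dvd Nat.card_pos (Subgroup.card_dvd_of_le (le_inf hXP hXS))
      exact ih S (by omega)
    set D := (P : Subgroup G) ⊓ (R : Subgroup G) with hD
    have hDP : D < (P : Subgroup G) := by
      refine lt_of_le_of_ne inf_le_left fun h => hRP ?_
      exact Sylow.ext (P.is_maximal' R.isPGroup' (inf_eq_left.1 h))
    have hcard : ∀ {X Y : Subgroup G}, X < Y → Nat.card X < Nat.card Y := fun {X Y} h =>
      Set.ncard_lt_ncard (SetLike.coe_ssubset_coe.2 h) (Set.toFinite _)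
    -- move `D` to a fully normalized position
    have hstep := Fusion.lt_inf_normalizer (Fusion.sylow_isNilpotent P) hDP
    obtain ⟨S, hS, hSidx⟩ := exists_sylow_inf (p := p) (Subgroup.normalizer (D : Set G))
      ((P : Subgroup G) ⊓ Subgroup.normalizer (D : Set G)) (P.isPGroup'.to_le inf_le_left)
      inf_le_right
    obtain ⟨u, huc, huS⟩ := ih' S _ (hcard hstep) inf_le_left hS
    have hSP : cj u (S : Subgroup G) = (P : Subgroup G) := by rw [← coe_smul_inv, huS]
    set E := cj u D with hE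
    have hDS : D ≤ (P : Subgroup G) ⊓ (S : Subgroup G) :=
      le_inf inf_le_left ((le_inf inf_le_left Subgroup.le_normalizer).trans hS)
    have huD : Chain P (D : Set G) u := huc.mono hDS
    have hEcoe : (E : Set G) = cjs u (D : Set G) := coe_cj u D
    have hEP : E ≤ (P : Subgroup G) := hSP ▸ cj_mono u (hDS.trans inf_le_right)
    set R' : Sylow p G := u⁻¹ • R with hR'
    have hR'coe : (R' : Subgroup G) = cj u (R : Subgroup G) := coe_smul_inv u R
    have hER' : E ≤ (R' : Subgroup G) := hR'coe ▸ cj_mono u inf_le_right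
    have hcardE : Nat.card E = Nat.card D := card_cj u D
    -- it suffices to find a chain on `E`
    suffices hE' : ∃ v : G, Chain P (E : Set G) v ∧ v⁻¹ • R' = P by
      obtain ⟨v, hv, hvR⟩ := hE'
      refine ⟨u * v, huD.trans (hEcoe ▸ hv), ?_⟩
      rw [mul_inv_rev, mul_smul, ← hR', hvR]
    have hfull : ¬ p ∣ ((P : Subgroup G) ⊓ Subgroup.normalizer (E : Set G)).relIndex
        (Subgroup.normalizer (E : Set G)) := by
      rw [← hSP, hE, ← cj_normalizer, ← cj_inf, relIndex_cj]
      exact hSidx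
    by_cases hbig : E < (P : Subgroup G) ⊓ (R' : Subgroup G)
    · obtain ⟨v, hv, hvR⟩ := ih' R' _ (hcardE ▸ hcard hbig) inf_le_left inf_le_right
      exact ⟨v, hv.mono hbig.le, hvR⟩
    have hPR' : (P : Subgroup G) ⊓ (R' : Subgroup G) = E :=
      ((le_inf hEP hER').eq_of_not_lt hbig).symm
    have hER'lt : E < (R' : Subgroup G) := by
      refine lt_of_le_of_ne hER' fun h => ?_
      have h1 := hcard hDP
      have h2 : Nat.card (P : Subgroup G) = Nat.card (R' : Subgroup G) := by
        rw [P.card_eq_multiplicity, R'.card_eq_multiplicity]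
      rw [← hcardE, h, ← h2] at h1
      exact h1.ne rfl
    set NR := (R' : Subgroup G) ⊓ Subgroup.normalizer (E : Set G) with hNR
    have hNRlt : E < NR := Fusion.lt_inf_normalizer (Fusion.sylow_isNilpotent R') hER'lt
    obtain ⟨U, hU, hUidx⟩ := exists_sylow_inf (p := p) (Subgroup.normalizer (E : Set G)) NR
      (R'.isPGroup'.to_le inf_le_left) inf_le_right
    have hEU : E ≤ (P : Subgroup G) ⊓ (U : Subgroup G) := le_inf hEP (hNRlt.le.trans hU)
    by_cases hbigU : E < (P : Subgroup G) ⊓ (U : Subgroup G)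
    · obtain ⟨v, hv, hvU⟩ := ih' U _ (hcardE ▸ hcard hbigU) inf_le_left inf_le_right
      have hUP : cj v (U : Subgroup G) = (P : Subgroup G) := by rw [← coe_smul_inv, hvU]
      have hbig2 : Nat.card D < Nat.card (cj v NR) := by
        rw [card_cj, ← hcardE]; exact hcard hNRlt
      obtain ⟨w, hw, hwR⟩ := ih' (v⁻¹ • R') (cj v NR) hbig2 (hUP ▸ cj_mono v hU)
        (by rw [coe_smul_inv]; exact cj_mono v inf_le_left)
      refine ⟨v * w, (hv.mono hEU).trans (hw.mono ?_), by rw [mul_inv_rev, mul_smul, hwR]⟩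
      rw [← coe_cj, SetLike.coe_subset_coe, le_inf_iff, coe_smul_inv]
      exact ⟨hUP ▸ cj_mono v (hEU.trans inf_le_right), cj_mono v hER'⟩
    have hPU : (P : Subgroup G) ⊓ (U : Subgroup G) = E :=
      ((hEU.eq_of_not_lt hbigU)).symm
    have htame : Tame P U := by
      unfold Tame
      rw [hPU]
      exact ⟨hfull, hUidx⟩
    obtain ⟨w, hwN, hw⟩ := exists_conj_sylow
      (U.isPGroup'.to_le inf_le_left : IsPGroup p
        ((U : Subgroup G) ⊓ Subgroup.normalizer (E : Set G) : Subgroup G))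
      (P.isPGroup'.to_le inf_le_left) inf_le_right inf_le_right hUidx hfull
    have hwE : cj w E = E := cj_eq_of_mem_normalizer hwN
    have hbig3 : Nat.card D < Nat.card (cj w NR) := by
      rw [card_cj, ← hcardE]; exact hcard hNRlt
    obtain ⟨v, hv, hvR⟩ := ih' (w⁻¹ • R') (cj w NR) hbig3
      ((cj_mono w (le_inf hU inf_le_right)).trans (hw.le.trans inf_le_left))
      (by rw [coe_smul_inv]; exact cj_mono w inf_le_left)
    refine ⟨w * v, .cons U htame (hPU.symm ▸ hwN) (hPU ▸ subset_rfl) (hv.mono ?_),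
      by rw [mul_inv_rev, mul_smul, hvR]⟩
    rw [← coe_cj, SetLike.coe_subset_coe, le_inf_iff, coe_smul_inv]
    exact ⟨by rw [hwE]; exact hEP, cj_mono w hER'⟩

/-- Alperin's fusion theorem. -/
theorem chain_of_conj [Finite G] [Fact p.Prime] (P : Sylow p G) (A : Set G) (g : G)
    (hA : A ⊆ (P : Set G)) (hAg : cjs g A ⊆ (P : Set G)) : Chain P A g := by
  obtain ⟨x, hx, hxR⟩ := exists_chain P (g • P)
  have hgP : A ⊆ ((g • P : Sylow p G) : Set G) := by
    intro a ha
    show a ∈ ((g • P : Sylow p G) : Subgroup G)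
    rw [Sylow.coe_subgroup_smul, Subgroup.mem_pointwise_smul_iff_inv_smul_mem, ← map_inv,
      MulAut.smul_def, MulAut.conj_apply, inv_inv]
    exact hAg ⟨a, ha, rfl⟩
  rw [smul_smul, Sylow.smul_eq_iff_mem_normalizer] at hxR
  have hAPR : A ⊆ (((P : Subgroup G) ⊓ ((g • P : Sylow p G) : Subgroup G) : Subgroup G) : Set G) :=
    fun a ha => ⟨hA ha, hgP ha⟩
  rw [show g = x * ((x⁻¹ * g) * 1) by group]
  refine (hx.mono hAPR).trans (.cons P (tame_self P) (by rw [inf_idem]; exact hxR) ?_ .nil)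
  rintro _ ⟨a, ha, rfl⟩
  have h1 : g⁻¹ * a * g ∈ (P : Subgroup G) := hAg ⟨a, ha, rfl⟩
  have h2 := (Subgroup.mem_normalizer_iff.1 hxR _).1 h1
  have h3 : x⁻¹ * g * (g⁻¹ * a * g) * (x⁻¹ * g)⁻¹ = x⁻¹ * a * x := by group
  rw [inf_idem]
  show x⁻¹ * a * x ∈ (P : Subgroup G)
  rw [← h3]
  exact h2

/-- Unfold a chain into a finite sequence. -/
theorem Chain.exists_fin {P : Sylow p G} {A : Set G} {g : G} (h : Chain P A g) :
    ∃ (n : ℕ) (Q : Fin n → Sylow p G) (x : Fin n → G), (List.ofFn x).prod = g ∧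
      (∀ i : Fin n, x i ∈ Subgroup.normalizer ((((P : Subgroup G) ⊓ (Q i : Subgroup G)) : Subgroup G) : Set G) ∧ Tame P (Q i)) ∧
      (∀ h : 0 < n, A ⊆ (((P : Subgroup G) ⊓ (Q ⟨0, h⟩ : Subgroup G) : Subgroup G) : Set G)) ∧
      ∀ i : Fin n, ∀ h : i.val + 1 < n, cjs (((List.ofFn x).take (i.val + 1)).prod) A ⊆
        (((P : Subgroup G) ⊓ (Q ⟨i.val + 1, h⟩ : Subgroup G) : Subgroup G) : Set G) := by
  induction h with
  | nil => exact ⟨0, Fin.elim0, Fin.elim0, by simp, fun i => i.elim0, fun h => absurd h (by omega),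
      fun i => i.elim0⟩
  | @cons A x g Q hQ hx hA _ ih =>
    obtain ⟨n, Qs, xs, hprod, hall, hfirst, hnext⟩ := ih
    refine ⟨n + 1, Fin.cons Q Qs, Fin.cons x xs, by simp [List.ofFn_succ, hprod], ?_, ?_, ?_⟩
    · intro i
      refine Fin.cases ?_ (fun j => ?_) i
      · simpa using ⟨hx, hQ⟩
      · simpa using hall j
    · intro h
      simpa using hA
    · intro i
      refine Fin.cases ?_ (fun j => ?_) i
      · intro h
        have h1 : (⟨(0 : Fin (n + 1)).val + 1, h⟩ : Fin (n + 1)) =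
            Fin.succ ⟨0, Nat.lt_of_succ_lt_succ h⟩ := rfl
        rw [h1, Fin.cons_succ, List.ofFn_succ, Fin.cons_zero]
        simpa using hfirst (Nat.lt_of_succ_lt_succ h)
      · intro h
        have h1 : (⟨(Fin.succ j).val + 1, h⟩ : Fin (n + 1)) =
            Fin.succ ⟨j.val + 1, Nat.lt_of_succ_lt_succ h⟩ := rfl
        rw [h1, Fin.cons_succ, List.ofFn_succ, Fin.cons_zero, Fin.val_succ, List.take_succ_cons,
          List.prod_cons, ← cjs_mul]
        simp only [Fin.cons_succ]
        exact hnext j (Nat.lt_of_succ_lt_succ h)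

end Cfsg.Agent.Alperin
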