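import Cfsg.Agent.Lib.Transfer.PGroup
import Mathlib.Tactic.NormNum

/-!
Extraspecial groups: splitting off a non-commuting pair, gluing isomorphisms, uniqueness.
-/

set_option autoImplicit false
set_option linter.style.haveILetI false
set_option linter.unusedSectionVars false
open scoped commutatorElement

namespace Cfsg.Agent.XSUnique

open Cfsg.Agent

/-- `z` generates the centre, which has order `p` and contains all commutators and `p`-th powers. -/
structure XS {E : Type*} [Group E] (p : ℕ) (z : E) : Prop where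
  ord : orderOf z = p
  central : ∀ x : E, z * x = x * z
  comm : ∀ x y : E, ∃ s : ℤ, y * x = x * y * z ^ s
  pow : ∀ x : E, x ^ p ∈ Subgroup.zpowers z
  cen : ∀ x : E, (∀ y : E, x * y = y * x) → x ∈ Subgroup.zpowers z

variable {E : Type*} [Group E] [Finite E] {p : ℕ} {z : E}

theorem exists_xs [hp : Fact p.Prime] (h : Cfsg.IsExtraspecial p E) : ∃ z : E, XS p z := by
  obtain ⟨h1, h2, -⟩ := PGroupBasics.special_center h.1
  obtain ⟨⟨z, hz⟩, hz1⟩ : ∃ z : Subgroup.center E, z ≠ 1 := by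
    by_contra hcon
    push Not at hcon
    have := h.2
    rw [Nat.card_eq_one_iff_unique.2 ⟨⟨fun a b => by rw [hcon a, hcon b]⟩, ⟨1⟩⟩] at this
    exact hp.out.ne_one this.symm
  have hord : orderOf z = p := by
    have hd : orderOf z ∣ p := h.2 ▸ Subgroup.orderOf_dvd_natCard _ hz
    exact ((Nat.dvd_prime hp.out).1 hd).resolve_left fun h0 =>
      hz1 (Subtype.ext (orderOf_eq_one_iff.1 h0))
  have hzp : Subgroup.zpowers z = Subgroup.center E := by
    refine Subgroup.eq_of_le_of_card_ge (Subgroup.zpowers_le.2 hz) ?_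
    rw [Nat.card_zpowers, hord, h.2]
  refine ⟨z, hord, fun x => (Subgroup.mem_center_iff.1 hz x).symm, fun x y => ?_,
    fun x => hzp ▸ h2 x, fun x hx => hzp ▸ Subgroup.mem_center_iff.2 fun y => (hx y).symm⟩
  obtain ⟨s, hs⟩ := hzp.ge (h1 y x)
  refine ⟨s, ?_⟩
  have hc : ∀ g, g * ⁅y, x⁆ = ⁅y, x⁆ * g := Subgroup.mem_center_iff.1 (h1 y x)
  rw [show z ^ s = ⁅y, x⁆ from hs, hc (x * y), commutatorElement_def]
  group

theorem XS.commute_z (h : XS p z) (s : ℤ) (x : E) : Commute (z ^ s) x :=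
  Commute.zpow_left (h.central x) s

theorem XS.zpow_p (h : XS p z) : z ^ p = 1 := h.ord ▸ pow_orderOf_eq_one z

theorem XS.dvd_of_zpow (h : XS p z) {s : ℤ} (hs : z ^ s = 1) : (p : ℤ) ∣ s :=
  h.ord ▸ orderOf_dvd_iff_zpow_eq_one.2 hs

/-- Commuting `b ^ j` past `a ^ k`. -/
theorem XS.zpow_comm (h : XS p z) {a b : E} (hab : b * a = a * b * z) (j k : ℤ) :
    b ^ j * a ^ k = a ^ k * b ^ j * z ^ (j * k) := by
  have h1 : a⁻¹ * b * a = b * z := by rw [mul_assoc, hab]; group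
  have h2 : ∀ n : ℤ, a ^ (-n) * b * a ^ n = b * z ^ n := by
    intro n
    induction n using Int.induction_on with
    | zero => simp
    | succ n ih =>
      calc a ^ (-((n : ℤ) + 1)) * b * a ^ ((n : ℤ) + 1)
          = a⁻¹ * (a ^ (-(n : ℤ)) * b * a ^ (n : ℤ)) * a := by group
        _ = a⁻¹ * b * (z ^ (n : ℤ) * a) := by rw [ih]; group
        _ = (a⁻¹ * b * a) * z ^ (n : ℤ) := by rw [(h.commute_z _ a).eq]; group
        _ = b * z ^ ((n : ℤ) + 1) := by rw [h1, mul_assoc, ← zpow_one_add, add_comm]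
    | pred n ih =>
      have h3 : a * b * a⁻¹ = b * z⁻¹ := by
        rw [eq_mul_inv_iff_mul_eq]
        calc a * b * a⁻¹ * z = a * b * z * a⁻¹ := by rw [mul_assoc (a * b), ← h.central, ← mul_assoc]
          _ = b := by rw [← hab]; group
      calc a ^ (-(-(n : ℤ) - 1)) * b * a ^ (-(n : ℤ) - 1)
          = a * (a ^ (-(-(n : ℤ))) * b * a ^ (-(n : ℤ))) * a⁻¹ := by group
        _ = a * b * (z ^ (-(n : ℤ)) * a⁻¹) := by rw [ih]; group
        _ = (a * b * a⁻¹) * z ^ (-(n : ℤ)) := by rw [(h.commute_z _ a⁻¹).eq]; group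
        _ = b * z ^ (-(n : ℤ) - 1) := by rw [h3]; group
  have h3 : a ^ (-k) * b ^ j * a ^ k = b ^ j * z ^ (j * k) := by
    have := map_zpow (MulAut.conj (a ^ (-k))) b j
    rw [MulAut.conj_apply, MulAut.conj_apply, ← zpow_neg, neg_neg, h2 k,
      (h.commute_z k b).symm.mul_zpow, ← zpow_mul, mul_comm k j] at this
    exact this
  calc b ^ j * a ^ k = a ^ k * (a ^ (-k) * b ^ j * a ^ k) := by group
    _ = a ^ k * b ^ j * z ^ (j * k) := by rw [h3, mul_assoc]

theorem XS.exists_pair [hp : Fact p.Prime] (h : XS p z) {x y : E} (hne : x * y ≠ y * x) :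
    ∃ a b : E, b * a = a * b * z := by
  obtain ⟨s, hs⟩ := h.comm x y
  have hps : ¬ (p : ℤ) ∣ s := fun hd => hne (by
    rw [hs, orderOf_dvd_iff_zpow_eq_one.1 (h.ord ▸ hd), mul_one])
  obtain ⟨m, t, hmt⟩ : IsCoprime s (p : ℤ) :=
    ((Prime.coprime_iff_not_dvd (Nat.prime_iff_prime_int.1 hp.out)).2 hps).symm
  refine ⟨x, y ^ m, ?_⟩
  have h1 : x⁻¹ * y * x = y * z ^ s := by rw [mul_assoc, hs]; group
  have h2 : x⁻¹ * y ^ m * x = y ^ m * z ^ (s * m) := by
    have := map_zpow (MulAut.conj x⁻¹) y m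
    rw [MulAut.conj_apply, MulAut.conj_apply, inv_inv, h1, (h.commute_z s y).symm.mul_zpow,
      ← zpow_mul] at this
    exact this
  have h3 : z ^ (s * m) = z := by
    have e : s * m = (p : ℤ) * (-t) + 1 := by rw [← hmt]; ring
    rw [e, zpow_add, zpow_mul, zpow_natCast, h.zpow_p, one_zpow, one_mul, zpow_one]
  rw [h3] at h2
  calc y ^ m * x = x * (x⁻¹ * y ^ m * x) := by group
    _ = x * y ^ m * z := by rw [h2, mul_assoc]

/-- The centralizer of a pair. -/
abbrev cent (a b : E) : Subgroup E := Subgroup.centralizer ({a, b} : Set E)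

theorem mem_cent {a b x : E} : x ∈ cent a b ↔ a * x = x * a ∧ b * x = x * b := by
  rw [cent, Subgroup.mem_centralizer_iff]
  constructor
  · exact fun h => ⟨h a (by simp), h b (by simp)⟩
  · rintro ⟨h1, h2⟩ m (rfl | rfl) <;> assumption

theorem XS.z_mem (h : XS p z) (a b : E) : z ∈ cent a b :=
  mem_cent.2 ⟨(h.central a).symm, (h.central b).symm⟩

theorem XS.decomp (h : XS p z) {a b : E} (hab : b * a = a * b * z) (x : E) :
    ∃ i j : ℤ, ∃ c ∈ cent a b, x = a ^ i * b ^ j * c := by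
  obtain ⟨s, hs⟩ := h.comm a x
  obtain ⟨t, ht⟩ := h.comm b x
  -- `x a = a x z^s` and `x b = b x z^t`
  refine ⟨-t, s, (a ^ (-t) * b ^ s)⁻¹ * x, mem_cent.2 ⟨?_, ?_⟩, (mul_inv_cancel_left _ _).symm⟩
  all_goals set w := a ^ (-t) * b ^ s with hw
  · have hwa : w * a = a * w * z ^ s := by
      have := h.zpow_comm hab s 1
      rw [zpow_one, mul_one] at this
      rw [hw, mul_assoc, this]; group
    have e1 : a * w⁻¹ = w⁻¹ * a * (z ^ s)⁻¹⁻¹ := by
      rw [inv_inv, mul_assoc, ← (h.commute_z s a).eq]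
      calc a * w⁻¹ = w⁻¹ * (w * a) * w⁻¹ := by group
        _ = w⁻¹ * (a * (w * z ^ s)) * w⁻¹ := by rw [hwa, mul_assoc a]
        _ = w⁻¹ * (a * (z ^ s * w)) * w⁻¹ := by rw [(h.commute_z s w).eq]
        _ = w⁻¹ * (a * z ^ s) := by group
        _ = w⁻¹ * (z ^ s * a) := by rw [(h.commute_z s a).eq]
    rw [inv_inv] at e1
    calc a * (w⁻¹ * x) = a * w⁻¹ * x := by group
      _ = w⁻¹ * (a * (z ^ s * x)) := by rw [e1]; group
      _ = w⁻¹ * (a * x * z ^ s) := by rw [(h.commute_z s x).eq]; group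
      _ = w⁻¹ * x * a := by rw [← hs]; group
  · have hwb : w * b = b * w * z ^ t := by
      have := h.zpow_comm hab 1 (-t)
      rw [zpow_one, one_mul] at this
      have e : a ^ (-t) * b = b * a ^ (-t) * z ^ t := by
        rw [this, zpow_neg z t]; group
      calc w * b = a ^ (-t) * b * b ^ s := by rw [hw]; group
        _ = b * a ^ (-t) * (z ^ t * b ^ s) := by rw [e]; group
        _ = b * w * z ^ t := by rw [(h.commute_z t _).eq, hw]; group
    calc b * (w⁻¹ * x) = w⁻¹ * (w * b) * w⁻¹ * x := by group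
      _ = w⁻¹ * (b * (w * z ^ t)) * w⁻¹ * x := by rw [hwb, mul_assoc b]
      _ = w⁻¹ * (b * (z ^ t * w)) * w⁻¹ * x := by rw [(h.commute_z t w).eq]
      _ = w⁻¹ * (b * (z ^ t * x)) := by group
      _ = w⁻¹ * (b * x * z ^ t) := by rw [(h.commute_z t x).eq]; group
      _ = w⁻¹ * x * b := by rw [← ht]; group

theorem XS.indep (h : XS p z) {a b : E} (hab : b * a = a * b * z) {i j : ℤ}
    (hc : a ^ i * b ^ j ∈ cent a b) : (p : ℤ) ∣ i ∧ (p : ℤ) ∣ j := by
  obtain ⟨h1, h2⟩ := mem_cent.1 hc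
  have e1 := h.zpow_comm hab j 1
  have e2 := h.zpow_comm hab 1 i
  rw [zpow_one, mul_one] at e1
  rw [zpow_one, one_mul] at e2
  constructor
  · refine h.dvd_of_zpow ?_
    have : b * (a ^ i * b ^ j) = a ^ i * b ^ j * b * z ^ i := by
      rw [← mul_assoc, e2, mul_assoc (a ^ i * b), (h.commute_z i _).eq]; group
    rw [h2] at this
    exact (mul_eq_left.1 this.symm)
  · refine h.dvd_of_zpow ?_
    have : a ^ i * b ^ j * a = a * (a ^ i * b ^ j) * z ^ j := by
      rw [mul_assoc, e1]; group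
    rw [← h1] at this
    exact (mul_eq_left.1 this.symm)

theorem XS.sub (h : XS p z) {a b : E} (hab : b * a = a * b * z) :
    XS p (⟨z, h.z_mem a b⟩ : cent a b) := by
  have hmem : ∀ {x : cent a b}, (x : E) ∈ Subgroup.zpowers z →
      x ∈ Subgroup.zpowers (⟨z, h.z_mem a b⟩ : cent a b) := by
    rintro x ⟨s, hs⟩
    exact ⟨s, Subtype.ext (by simpa using hs)⟩
  refine ⟨by rw [Subgroup.orderOf_mk]; exact h.ord, fun x => Subtype.ext (h.central x), fun x y => ?_,
    fun x => hmem (by rw [Subgroup.coe_pow]; exact h.pow x), fun x hx => hmem (h.cen x fun y => ?_)⟩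
  · obtain ⟨s, hs⟩ := h.comm x y
    exact ⟨s, Subtype.ext (by simpa using hs)⟩
  obtain ⟨i, j, c, hc, rfl⟩ := h.decomp hab y
  obtain ⟨h1, h2⟩ := mem_cent.1 x.2
  exact (((Commute.zpow_right (h1.symm : Commute (x : E) a) i)).mul_right
    (Commute.zpow_right (h2.symm : Commute (x : E) b) j)).mul_right (congrArg Subtype.val (hx ⟨c, hc⟩))

theorem XS.card_eq [hp : Fact p.Prime] (h : XS p z) {a b : E} (hab : b * a = a * b * z) :
    Nat.card E = p ^ 2 * Nat.card (cent a b) := by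
  have hap : ∀ {g : E}, g = a ∨ g = b → ∀ m : ℤ, g ^ ((p : ℤ) * m) ∈ cent a b := by
    intro g _ m
    obtain ⟨s, hs⟩ := h.pow g
    rw [zpow_mul, zpow_natCast, ← hs, ← zpow_mul]
    exact zpow_mem (h.z_mem a b) _
  let F : (Fin p × Fin p) × cent a b → E := fun x => a ^ (x.1.1 : ℤ) * b ^ (x.1.2 : ℤ) * x.2
  have hF : Function.Bijective F := by
    refine ⟨?_, ?_⟩
    · rintro ⟨⟨i, j⟩, c⟩ ⟨⟨i', j'⟩, c'⟩ he
      have he' : a ^ (i : ℤ) * b ^ (j : ℤ) * c = a ^ (i' : ℤ) * b ^ (j' : ℤ) * c' := he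
      have hk := h.zpow_comm hab (-(j' : ℤ)) ((i : ℤ) - i')
      have h1 : a ^ ((i : ℤ) - i') * b ^ ((j : ℤ) - j') * z ^ (-(j' : ℤ) * ((i : ℤ) - i')) =
          (a ^ (i' : ℤ) * b ^ (j' : ℤ))⁻¹ * (a ^ (i : ℤ) * b ^ (j : ℤ)) := by
        calc _ = a ^ ((i : ℤ) - i') * b ^ (-(j' : ℤ)) * (b ^ (j : ℤ) * z ^ (-(j' : ℤ) * ((i : ℤ) - i'))) := by group
          _ = a ^ ((i : ℤ) - i') * b ^ (-(j' : ℤ)) * z ^ (-(j' : ℤ) * ((i : ℤ) - i')) * b ^ (j : ℤ) := by
            rw [← (h.commute_z _ (b ^ (j : ℤ))).eq]; group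
          _ = _ := by rw [← hk]; group
      have h2 : (a ^ (i' : ℤ) * b ^ (j' : ℤ))⁻¹ * (a ^ (i : ℤ) * b ^ (j : ℤ)) = (c' : E) * (c : E)⁻¹ := by
        rw [eq_mul_inv_iff_mul_eq, mul_assoc, he', inv_mul_cancel_left]
      have h3 : a ^ ((i : ℤ) - i') * b ^ ((j : ℤ) - j') ∈ cent a b := by
        have := h1.trans h2
        rw [← eq_mul_inv_iff_mul_eq] at this
        rw [this]
        exact mul_mem (mul_mem c'.2 (inv_mem c.2)) (inv_mem (zpow_mem (h.z_mem a b) _))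
      obtain ⟨h4, h5⟩ := h.indep hab h3
      have hi : i = i' := Fin.ext (by
        have hi1 := i.2; have hi2 := i'.2
        have := Int.eq_zero_of_abs_lt_dvd h4 (by rw [abs_lt]; omega)
        omega)
      have hj : j = j' := Fin.ext (by
        have hi1 := j.2; have hi2 := j'.2
        have := Int.eq_zero_of_abs_lt_dvd h5 (by rw [abs_lt]; omega)
        omega)
      subst hi hj
      exact Prod.ext rfl (Subtype.ext (mul_left_cancel he'))
    · intro x
      obtain ⟨i, j, c, hc, rfl⟩ := h.decomp hab x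
      have hp0 : (0 : ℤ) < p := by exact_mod_cast hp.out.pos
      set i' := i % (p : ℤ) with hi'
      set j' := j % (p : ℤ) with hj'
      refine ⟨⟨⟨⟨i'.toNat, ?_⟩, ⟨j'.toNat, ?_⟩⟩,
        ⟨(a ^ i' * b ^ j')⁻¹ * (a ^ i * b ^ j * c), ?_⟩⟩, ?_⟩
      · have := Int.emod_lt_of_pos i hp0; have := Int.emod_nonneg i hp0.ne'; omega
      · have := Int.emod_lt_of_pos j hp0; have := Int.emod_nonneg j hp0.ne'; omega
      · have e : a ^ i * b ^ j = a ^ i' * b ^ j' * (a ^ ((p : ℤ) * (i / p)) * b ^ ((p : ℤ) * (j / p))) := by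
          obtain ⟨s, hs⟩ := h.pow a
          have hcm : Commute (a ^ ((p : ℤ) * (i / p))) (b ^ j') := by
            rw [zpow_mul, zpow_natCast, ← hs, ← zpow_mul]; exact h.commute_z _ _
          conv_lhs => rw [← Int.emod_add_mul_ediv i p, ← Int.emod_add_mul_ediv j p, ← hi', ← hj']
          rw [zpow_add, zpow_add, mul_assoc, ← mul_assoc (a ^ ((p : ℤ) * (i / p))), hcm.eq]
          group
        rw [e, ← mul_assoc, ← mul_assoc (a ^ i' * b ^ j')⁻¹, inv_mul_cancel, one_mul]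
        exact mul_mem (mul_mem (hap (Or.inl rfl) _) (hap (Or.inr rfl) _)) hc
      · show a ^ ((i'.toNat : ℕ) : ℤ) * b ^ ((j'.toNat : ℕ) : ℤ) * _ = _
        rw [Int.toNat_of_nonneg (Int.emod_nonneg i hp0.ne'), Int.toNat_of_nonneg (Int.emod_nonneg j hp0.ne'),
          mul_inv_cancel_left]
  rw [← Nat.card_congr (Equiv.ofBijective F hF), Nat.card_prod, Nat.card_prod, Nat.card_fin, sq]

/-- An isomorphism matching the marked central elements. -/
def Iso {E' : Type*} [Group E'] (z : E) (z' : E') : Prop := ∃ φ : E ≃* E', φ z = z'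

theorem Iso.symm {E' : Type*} [Group E'] {z : E} {z' : E'} (h : Iso z z') : Iso z' z := by
  obtain ⟨φ, hφ⟩ := h
  exact ⟨φ.symm, by rw [← hφ, φ.symm_apply_apply]⟩

/-- Gluing along a pair. -/
theorem glue {E' : Type*} [Group E'] [Finite E'] {z' : E'} (h : XS p z) (h' : XS p z') {a b : E}
    (hab : b * a = a * b * z) {a' b' : E'} (hab' : b' * a' = a' * b' * z') {α β : ℤ}
    (ha : a ^ p = z ^ α) (ha' : a' ^ p = z' ^ α) (hb : b ^ p = z ^ β) (hb' : b' ^ p = z' ^ β)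
    (hC : Iso (⟨z, h.z_mem a b⟩ : cent a b) (⟨z', h'.z_mem a' b'⟩ : cent a' b')) : Iso z z' := by
  obtain ⟨φ, hφ⟩ := hC
  have hφz : ∀ s : ℤ, ((φ ((⟨z, h.z_mem a b⟩ : cent a b) ^ s) : cent a' b') : E') = z' ^ s := fun s => by
    rw [map_zpow, hφ, Subgroup.coe_zpow]
  let G' : Subgroup (E × E') :=
    { carrier := {x | ∃ i j : ℤ, ∃ c : cent a b, x.1 = a ^ i * b ^ j * c ∧ x.2 = a' ^ i * b' ^ j * (φ c : E')}
      one_mem' := ⟨0, 0, 1, by simp, by simp⟩
      mul_mem' := by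
        rintro ⟨x, x'⟩ ⟨y, y'⟩ ⟨i, j, c, hx, hx'⟩ ⟨k, l, d, hy, hy'⟩
        simp only at hx hx' hy hy'
        refine ⟨i + k, j + l, (⟨z, h.z_mem a b⟩ : cent a b) ^ (j * k) * c * d, ?_, ?_⟩
        · show x * y = _
          rw [hx, hy, Subgroup.coe_mul, Subgroup.coe_mul, Subgroup.coe_zpow]
          obtain ⟨h1, h2⟩ := mem_cent.1 c.2
          have hca : Commute (c : E) (a ^ k) := Commute.zpow_right h1.symm k
          have hcb : Commute (c : E) (b ^ l) := Commute.zpow_right h2.symm l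
          calc a ^ i * b ^ j * c * (a ^ k * b ^ l * d) = a ^ i * b ^ j * ((c : E) * a ^ k) * b ^ l * d := by group
            _ = a ^ i * (b ^ j * a ^ k) * ((c : E) * b ^ l) * d := by rw [hca.eq]; group
            _ = a ^ i * a ^ k * b ^ j * (z ^ (j * k) * b ^ l) * c * d := by
              rw [h.zpow_comm hab, hcb.eq]; group
            _ = a ^ (i + k) * b ^ (j + l) * (z ^ (j * k) * c * d) := by
              rw [(h.commute_z _ _).eq]; group
        · show x' * y' = _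
          rw [hx', hy', map_mul, map_mul, Subgroup.coe_mul, Subgroup.coe_mul, hφz]
          obtain ⟨h1, h2⟩ := mem_cent.1 (φ c).2
          have hca : Commute (φ c : E') (a' ^ k) := Commute.zpow_right h1.symm k
          have hcb : Commute (φ c : E') (b' ^ l) := Commute.zpow_right h2.symm l
          calc a' ^ i * b' ^ j * (φ c : E') * (a' ^ k * b' ^ l * (φ d : E'))
              = a' ^ i * b' ^ j * ((φ c : E') * a' ^ k) * b' ^ l * (φ d : E') := by group
            _ = a' ^ i * (b' ^ j * a' ^ k) * ((φ c : E') * b' ^ l) * (φ d : E') := by rw [hca.eq]; group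
            _ = a' ^ i * a' ^ k * b' ^ j * (z' ^ (j * k) * b' ^ l) * (φ c : E') * (φ d : E') := by
              rw [h'.zpow_comm hab', hcb.eq]; group
            _ = a' ^ (i + k) * b' ^ (j + l) * (z' ^ (j * k) * (φ c : E') * (φ d : E')) := by
              rw [(h'.commute_z _ _).eq]; group
      inv_mem' := by
        rintro ⟨x, x'⟩ ⟨i, j, c, hx, hx'⟩
        simp only at hx hx'
        refine ⟨-i, -j, (⟨z, h.z_mem a b⟩ : cent a b) ^ (j * i) * c⁻¹, ?_, ?_⟩
        · show x⁻¹ = _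
          rw [hx, Subgroup.coe_mul, Subgroup.coe_zpow, Subgroup.coe_inv]
          obtain ⟨h1, h2⟩ := mem_cent.1 c.2
          have hc' : Commute (c : E)⁻¹ (b ^ (-j) * a ^ (-i)) :=
            ((Commute.zpow_right h2.symm (-j)).mul_right (Commute.zpow_right h1.symm (-i))).inv_left
          calc (a ^ i * b ^ j * (c : E))⁻¹ = (c : E)⁻¹ * (b ^ (-j) * a ^ (-i)) := by group
            _ = b ^ (-j) * a ^ (-i) * (c : E)⁻¹ := hc'.eq
            _ = a ^ (-i) * b ^ (-j) * (z ^ (j * i) * (c : E)⁻¹) := by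
              rw [h.zpow_comm hab, neg_mul_neg]; group
        · show x'⁻¹ = _
          rw [hx', map_mul, map_inv, Subgroup.coe_mul, hφz, Subgroup.coe_inv]
          obtain ⟨h1, h2⟩ := mem_cent.1 (φ c).2
          have hc' : Commute (φ c : E')⁻¹ (b' ^ (-j) * a' ^ (-i)) :=
            ((Commute.zpow_right h2.symm (-j)).mul_right (Commute.zpow_right h1.symm (-i))).inv_left
          calc (a' ^ i * b' ^ j * (φ c : E'))⁻¹ = (φ c : E')⁻¹ * (b' ^ (-j) * a' ^ (-i)) := by group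
            _ = b' ^ (-j) * a' ^ (-i) * (φ c : E')⁻¹ := hc'.eq
            _ = a' ^ (-i) * b' ^ (-j) * (z' ^ (j * i) * (φ c : E')⁻¹) := by
              rw [h'.zpow_comm hab', neg_mul_neg]; group }
  let π : G' →* E := (MonoidHom.fst E E').comp G'.subtype
  let π' : G' →* E' := (MonoidHom.snd E E').comp G'.subtype
  have hs : Function.Surjective π := fun x => by
    obtain ⟨i, j, c, hc, rfl⟩ := h.decomp hab x
    exact ⟨⟨(_, a' ^ i * b' ^ j * (φ ⟨c, hc⟩ : E')), i, j, ⟨c, hc⟩, rfl, rfl⟩, rfl⟩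
  have hs' : Function.Surjective π' := fun x => by
    obtain ⟨i, j, c, hc, rfl⟩ := h'.decomp hab' x
    exact ⟨⟨(a ^ i * b ^ j * (φ.symm ⟨c, hc⟩ : E), _), i, j, φ.symm ⟨c, hc⟩, rfl,
      by simp [φ.apply_symm_apply]; rfl⟩, rfl⟩
  have hinj : Function.Injective π := by
    rw [injective_iff_map_eq_one]
    rintro ⟨⟨x, x'⟩, i, j, c, hx, hx'⟩ h1
    change x = 1 at h1
    simp only at hx hx'
    subst h1
    have hmem : a ^ i * b ^ j ∈ cent a b := by
      rw [show a ^ i * b ^ j = (c : E)⁻¹ from mul_eq_one_iff_eq_inv.1 hx.symm]; exact inv_mem c.2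
    obtain ⟨⟨m, rfl⟩, ⟨n, rfl⟩⟩ := h.indep hab hmem
    have hc : c = (⟨z, h.z_mem a b⟩ : cent a b) ^ (-(α * m + β * n)) := by
      refine Subtype.ext ?_
      rw [zpow_mul, zpow_natCast, ha, zpow_mul, zpow_natCast, hb, ← zpow_mul, ← zpow_mul, ← zpow_add] at hx
      rw [Subgroup.coe_zpow, zpow_neg]
      exact eq_inv_of_mul_eq_one_right hx.symm
    refine Subtype.ext (Prod.ext rfl ?_)
    show x' = 1
    rw [hx', hc, hφz, zpow_mul, zpow_natCast, ha', zpow_mul, zpow_natCast, hb', ← zpow_mul, ← zpow_mul,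
      ← zpow_add, ← zpow_add, add_neg_cancel, zpow_zero]
  have hinj' : Function.Injective π' := by
    rw [injective_iff_map_eq_one]
    rintro ⟨⟨x, x'⟩, i, j, c, hx, hx'⟩ h1
    change x' = 1 at h1
    simp only at hx hx'
    subst h1
    have hmem : a' ^ i * b' ^ j ∈ cent a' b' := by
      rw [show a' ^ i * b' ^ j = (φ c : E')⁻¹ from mul_eq_one_iff_eq_inv.1 hx'.symm]; exact inv_mem (φ c).2
    obtain ⟨⟨m, rfl⟩, ⟨n, rfl⟩⟩ := h'.indep hab' hmem
    have hc : c = (⟨z, h.z_mem a b⟩ : cent a b) ^ (-(α * m + β * n)) := by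
      refine φ.injective (Subtype.ext ?_)
      rw [zpow_mul, zpow_natCast, ha', zpow_mul, zpow_natCast, hb', ← zpow_mul, ← zpow_mul, ← zpow_add] at hx'
      rw [hφz, zpow_neg]
      exact eq_inv_of_mul_eq_one_right hx'.symm
    refine Subtype.ext (Prod.ext ?_ rfl)
    show x = 1
    rw [hx, hc, Subgroup.coe_zpow, zpow_mul, zpow_natCast, ha, zpow_mul, zpow_natCast, hb, ← zpow_mul,
      ← zpow_mul, ← zpow_add, ← zpow_add, add_neg_cancel, zpow_zero]
  refine ⟨(MulEquiv.ofBijective π ⟨hinj, hs⟩).symm.trans (MulEquiv.ofBijective π' ⟨hinj', hs'⟩), ?_⟩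
  have e : (MulEquiv.ofBijective π ⟨hinj, hs⟩).symm z =
      ⟨(z, z'), 0, 0, ⟨z, h.z_mem a b⟩, by simp, by simp [hφ]⟩ := by
    rw [MulEquiv.symm_apply_eq]; rfl
  rw [MulEquiv.trans_apply, e]; rfl

/-- A commutative one is `⟨z⟩`. -/
theorem XS.card_of_comm (h : XS p z) (hc : ∀ x y : E, x * y = y * x) :
    Subgroup.zpowers z = ⊤ ∧ Nat.card E = p := by
  have e : Subgroup.zpowers z = ⊤ := eq_top_iff.2 fun x _ => h.cen x (hc x)
  refine ⟨e, ?_⟩
  have h1 := Nat.card_zpowers z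
  rwa [e, Subgroup.card_top, h.ord] at h1

theorem iso_of_card {E' : Type*} [Group E'] [Finite E'] [hp : Fact p.Prime] {z' : E'} (h : XS p z)
    (h' : XS p z') (hE : Nat.card E = p) (hE' : Nat.card E' = p) : Iso z z' := by
  have e : Subgroup.zpowers z = ⊤ := Subgroup.eq_top_of_card_eq _ (by rw [Nat.card_zpowers, h.ord, hE])
  refine ⟨mulEquivOfOrderOfEq (fun x => e ▸ Subgroup.mem_top x)
    (fun x => (Subgroup.eq_top_of_card_eq (Subgroup.zpowers z') (by rw [Nat.card_zpowers, h'.ord, hE'])) ▸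
      Subgroup.mem_top x) (h.ord.trans h'.ord.symm), ?_⟩
  simp

theorem XS.card_cases [hp : Fact p.Prime] (h : XS p z) :
    Nat.card E = p ∨ ∃ a b : E, b * a = a * b * z := by
  by_cases hc : ∀ x y : E, x * y = y * x
  · exact Or.inl (h.card_of_comm hc).2
  · push Not at hc
    obtain ⟨x, y, hxy⟩ := hc
    exact Or.inr (h.exists_pair hxy)

/-- Odd `p`, exponent `p`. -/
theorem unique_exponent.{u, v} [hp : Fact p.Prime] : ∀ (n : ℕ) (E : Type u) (E' : Type v) [Group E] [Finite E]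
    [Group E'] [Finite E'] (z : E) (z' : E'), XS p z → XS p z' → (∀ x : E, x ^ p = 1) →
    (∀ x : E', x ^ p = 1) → Nat.card E = n → Nat.card E' = n → Iso z z' := by
  intro n
  induction n using Nat.strong_induction_on with
  | _ n ih =>
    intro E E' _ _ _ _ z z' h h' he he' hn hn'
    have hp2 : 1 < p ^ 2 := Nat.one_lt_pow two_ne_zero hp.out.one_lt
    rcases h.card_cases with h1 | ⟨a, b, hab⟩
    · exact iso_of_card h h' h1 (by omega)
    have hce := h.card_eq hab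
    rcases h'.card_cases with h1 | ⟨a', b', hab'⟩
    · exfalso
      have hle : p ≤ Nat.card (cent a b) := by
        have := Nat.le_of_dvd Nat.card_pos (Subgroup.orderOf_dvd_natCard (cent a b) (h.z_mem a b))
        rwa [h.ord] at this
      have := hp.out.pos
      nlinarith
    have hce' := h'.card_eq hab'
    have hlt : Nat.card (cent a b) < n := by
      rw [← hn, hce]; exact lt_mul_of_one_lt_left Nat.card_pos hp2
    have hcc : Nat.card (cent a' b') = Nat.card (cent a b) :=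
      Nat.eq_of_mul_eq_mul_left (zero_lt_one.trans hp2) (by omega)
    exact glue h h' hab hab' (α := 0) (β := 0) (by simp [he]) (by simp [he']) (by simp [he]) (by simp [he'])
      (ih _ hlt _ _ _ _ (h.sub hab) (h'.sub hab') (fun x => Subtype.ext (he x))
        (fun x => Subtype.ext (he' x)) rfl hcc)

/-- For `p = 2` there is a dihedral or a quaternion pair. -/
theorem pair_two (h : XS 2 z) {a b : E} (hab : b * a = a * b * z) :
    (∃ a b : E, b * a = a * b * z ∧ a ^ 2 = 1 ∧ b ^ 2 = 1) ∨ (a ^ 2 = z ∧ b ^ 2 = z) := by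
  haveI : Fact (Nat.Prime 2) := ⟨Nat.prime_two⟩
  have hz2 : z * z = 1 := by rw [← pow_two]; exact h.zpow_p
  have hval : ∀ x : E, x * x = 1 ∨ x * x = z := fun x => by
    obtain ⟨s, hs⟩ := h.pow x
    have hs' : z ^ s = x * x := hs.trans (pow_two x)
    rw [← hs']
    rcases Int.even_or_odd' s with ⟨m, rfl | rfl⟩
    · left; rw [zpow_mul, zpow_two, hz2, one_zpow]
    · right; rw [zpow_add, zpow_mul, zpow_two, hz2, one_zpow, one_mul, zpow_one]
  have habab : a * b * (a * b) = a * a * (b * b) * z := by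
    calc a * b * (a * b) = a * (b * a) * b := by group
      _ = a * a * b * (z * b) := by rw [hab]; group
      _ = _ := by rw [h.central b]; group
  rcases hval a with ha | ha <;> rcases hval b with hb | hb
  · exact Or.inl ⟨a, b, hab, by rw [pow_two, ha], by rw [pow_two, hb]⟩
  · refine Or.inl ⟨a, a * b, ?_, by rw [pow_two, ha], by rw [pow_two, habab, ha, hb, one_mul, hz2]⟩
    rw [mul_assoc a b a, hab]; group
  · refine Or.inl ⟨a * b, b, ?_, by rw [pow_two, habab, ha, hb, mul_one, hz2], by rw [pow_two, hb]⟩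
    calc b * (a * b) = b * a * b := by group
      _ = a * b * (z * b) := by rw [hab]; group
      _ = _ := by rw [h.central b]; group
  · exact Or.inr ⟨by rw [pow_two, ha], by rw [pow_two, hb]⟩

/-- Above order `8` there is a dihedral pair. -/
theorem pair_dihedral (h : XS 2 z) (h8 : 8 < Nat.card E) :
    ∃ a b : E, b * a = a * b * z ∧ a ^ 2 = 1 ∧ b ^ 2 = 1 := by
  haveI : Fact (Nat.Prime 2) := ⟨Nat.prime_two⟩
  rcases h.card_cases with h1 | ⟨a, b, hab⟩
  · omega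
  rcases pair_two h hab with hd | ⟨ha, hb⟩
  · exact hd
  have hce := h.card_eq hab
  rcases (h.sub hab).card_cases with h1 | ⟨c, d, hcd⟩
  · omega
  rcases pair_two (h.sub hab) hcd with ⟨c', d', h1, h2, h3⟩ | ⟨hc, -⟩
  · exact ⟨c', d', congrArg Subtype.val h1, congrArg Subtype.val h2, congrArg Subtype.val h3⟩
  obtain ⟨h1, h2⟩ := mem_cent.1 c.2
  have hcz : (c : E) * c = z := by rw [← pow_two]; exact congrArg Subtype.val hc
  have hz2 : z * z = 1 := by rw [← pow_two]; exact h.zpow_p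
  have e1 : ∀ g : E, g * (c : E) = (c : E) * g → g ^ 2 = z → (g * c) ^ 2 = 1 := by
    intro g hg hg2
    rw [(show Commute g (c : E) from hg).mul_pow, hg2, pow_two, hcz, hz2]
  refine ⟨a * c, b * c, ?_, e1 a h1 ha, e1 b h2 hb⟩
  calc b * c * (a * c) = b * ((c : E) * a) * c := by group
    _ = b * a * ((c : E) * c) := by rw [← h1]; group
    _ = a * b * (z * z) := by rw [hab, hcz]; group
    _ = a * b * ((c : E) * c) * z := by rw [hcz]; group
    _ = a * ((c : E) * b) * c * z := by rw [← h2]; group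
    _ = a * c * (b * c) * z := by group

/-- At most two types for `p = 2`. -/
theorem two_classes.{u, v, w} : ∀ (n : ℕ) (E₁ : Type u) (E₂ : Type v) (E₃ : Type w) [Group E₁] [Finite E₁]
    [Group E₂] [Finite E₂] [Group E₃] [Finite E₃] (z₁ : E₁) (z₂ : E₂) (z₃ : E₃), XS 2 z₁ → XS 2 z₂ →
    XS 2 z₃ → Nat.card E₁ = n → Nat.card E₂ = n → Nat.card E₃ = n →
    Iso z₁ z₂ ∨ Iso z₂ z₃ ∨ Iso z₁ z₃ := by
  intro n
  haveI : Fact (Nat.Prime 2) := ⟨Nat.prime_two⟩
  induction n using Nat.strong_induction_on with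
  | _ n ih =>
    intro E₁ E₂ E₃ _ _ _ _ _ _ z₁ z₂ z₃ x₁ x₂ x₃ n₁ n₂ n₃
    rcases le_or_gt n 8 with hle | hgt
    swap
    · obtain ⟨a₁, b₁, c₁, s₁, t₁⟩ := pair_dihedral x₁ (by omega)
      obtain ⟨a₂, b₂, c₂, s₂, t₂⟩ := pair_dihedral x₂ (by omega)
      obtain ⟨a₃, b₃, c₃, s₃, t₃⟩ := pair_dihedral x₃ (by omega)
      have e₁ := x₁.card_eq c₁
      have e₂ := x₂.card_eq c₂
      have e₃ := x₃.card_eq c₃
      rcases ih (Nat.card (cent a₁ b₁)) (by omega) _ _ _ _ _ _ (x₁.sub c₁) (x₂.sub c₂) (x₃.sub c₃) rfl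
        (by omega) (by omega) with hi | hi | hi
      · exact Or.inl (glue x₁ x₂ c₁ c₂ (α := 0) (β := 0) (by simp [s₁]) (by simp [s₂]) (by simp [t₁])
          (by simp [t₂]) hi)
      · exact Or.inr (Or.inl (glue x₂ x₃ c₂ c₃ (α := 0) (β := 0) (by simp [s₂]) (by simp [s₃])
          (by simp [t₂]) (by simp [t₃]) hi))
      · exact Or.inr (Or.inr (glue x₁ x₃ c₁ c₃ (α := 0) (β := 0) (by simp [s₁]) (by simp [s₃])
          (by simp [t₁]) (by simp [t₃]) hi))
    -- order at most eight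
    rcases x₁.card_cases with k₁ | ⟨a₁, b₁, c₁⟩
    · exact Or.inl (iso_of_card x₁ x₂ k₁ (by omega))
    have e₁ := x₁.card_eq c₁
    have hz : 2 ≤ Nat.card (cent a₁ b₁) := by
      have := Nat.le_of_dvd Nat.card_pos (Subgroup.orderOf_dvd_natCard (cent a₁ b₁) (x₁.z_mem a₁ b₁))
      rwa [x₁.ord] at this
    rcases x₂.card_cases with k₂ | ⟨a₂, b₂, c₂⟩
    · omega
    rcases x₃.card_cases with k₃ | ⟨a₃, b₃, c₃⟩
    · omega
    have two : ∀ {A B : ℕ}, A = 2 ^ 2 * B → A = n → B = 2 := fun hA hB => by omega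
    -- each is dihedral or quaternion
    obtain ⟨α₁, a₁, b₁, c₁, s₁, t₁⟩ : ∃ α : Fin 2, ∃ a b : E₁, b * a = a * b * z₁ ∧
        a ^ 2 = z₁ ^ (α : ℤ) ∧ b ^ 2 = z₁ ^ (α : ℤ) := by
      rcases pair_two x₁ c₁ with ⟨a, b, h1, h2, h3⟩ | ⟨h2, h3⟩
      · exact ⟨0, a, b, h1, by simpa using h2, by simpa using h3⟩
      · exact ⟨1, _, _, c₁, by simpa using h2, by simpa using h3⟩
    obtain ⟨α₂, a₂, b₂, c₂, s₂, t₂⟩ : ∃ α : Fin 2, ∃ a b : E₂, b * a = a * b * z₂ ∧
        a ^ 2 = z₂ ^ (α : ℤ) ∧ b ^ 2 = z₂ ^ (α : ℤ) := by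
      rcases pair_two x₂ c₂ with ⟨a, b, h1, h2, h3⟩ | ⟨h2, h3⟩
      · exact ⟨0, a, b, h1, by simpa using h2, by simpa using h3⟩
      · exact ⟨1, _, _, c₂, by simpa using h2, by simpa using h3⟩
    obtain ⟨α₃, a₃, b₃, c₃, s₃, t₃⟩ : ∃ α : Fin 2, ∃ a b : E₃, b * a = a * b * z₃ ∧
        a ^ 2 = z₃ ^ (α : ℤ) ∧ b ^ 2 = z₃ ^ (α : ℤ) := by
      rcases pair_two x₃ c₃ with ⟨a, b, h1, h2, h3⟩ | ⟨h2, h3⟩
      · exact ⟨0, a, b, h1, by simpa using h2, by simpa using h3⟩
      · exact ⟨1, _, _, c₃, by simpa using h2, by simpa using h3⟩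
    have d₁ := two (x₁.card_eq c₁) n₁
    have d₂ := two (x₂.card_eq c₂) n₂
    have d₃ := two (x₃.card_eq c₃) n₃
    rcases (show α₁ = α₂ ∨ α₂ = α₃ ∨ α₁ = α₃ by omega) with rfl | rfl | rfl
    · exact Or.inl (glue x₁ x₂ c₁ c₂ s₁ s₂ t₁ t₂ (iso_of_card (x₁.sub c₁) (x₂.sub c₂) d₁ d₂))
    · exact Or.inr (Or.inl (glue x₂ x₃ c₂ c₃ s₂ s₃ t₂ t₃ (iso_of_card (x₂.sub c₂) (x₃.sub c₃) d₂ d₃)))
    · exact Or.inr (Or.inr (glue x₁ x₃ c₁ c₃ s₁ s₃ t₁ t₃ (iso_of_card (x₁.sub c₁) (x₃.sub c₃) d₁ d₃)))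

end Cfsg.Agent.XSUnique
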