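import Mathlib.GroupTheory.Frattini
import Mathlib.GroupTheory.Transfer
import Cfsg.Agent.Lib.Transfer.Fusion

/-!
Tate's theorem: if the residual of a group meets a Sylow subgroup `P` inside the Frattini subgroup
of `P`, then the group has a normal `p`-complement.
-/

set_option autoImplicit false
set_option linter.style.haveILetI false

open scoped commutatorElement Pointwise IsMulCommutative

namespace Cfsg.Agent.Tate

open Cfsg.Agent

variable {G : Type*} [Group G] {p : ℕ}

/-- Gaschütz' splitting for a central extension, given by a fibre product: if `r : E →* T` has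
central kernel, `E` is a `p`-group and the pull-back along `q : G →* T` splits over a Sylow
`p`-subgroup, then `q` lifts to `E`. -/
theorem exists_lift {E T : Type*} [Group E] [Group T] [Finite G] [Finite E] [hp : Fact p.Prime]
    (q : G →* T) (r : E →* T) (hr : Function.Surjective r) (hE : IsPGroup p E)
    (hcen : r.ker ≤ Subgroup.center E) (P : Sylow p G) (s : (P : Subgroup G) →* E)
    (hs : ∀ x : (P : Subgroup G), r (s x) = q x) :
    ∃ σ : G →* E, ∀ g, r (σ g) = q g := by
  classical
  let X : Subgroup (G × E) := MonoidHom.eqLocus (q.comp (MonoidHom.fst G E)) (r.comp (MonoidHom.snd G E))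
  have hX : ∀ x : G × E, x ∈ X ↔ q x.1 = r x.2 := fun x => Iff.rfl
  haveI : Finite X := inferInstance
  let f : X →* G := (MonoidHom.fst G E).comp X.subtype
  have hf : Function.Surjective f := by
    intro g
    obtain ⟨e, he⟩ := hr (q g)
    exact ⟨⟨(g, e), (hX _).2 he.symm⟩, rfl⟩
  let PX : Subgroup X := (P : Subgroup G).comap f
  have hidx : PX.index = (P : Subgroup G).index := Subgroup.index_comap_of_surjective _ hf
  haveI : IsMulCommutative r.ker :=
    ⟨⟨fun a b => Subtype.ext (Subgroup.mem_center_iff.1 (hcen b.2) a)⟩⟩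
  let π : PX →* r.ker :=
    { toFun := fun x => ⟨(s ⟨(x : X).1.1, x.2⟩)⁻¹ * (x : X).1.2, by
        rw [MonoidHom.mem_ker, map_mul, map_inv, hs, inv_mul_eq_one]
        exact (hX _).1 (x : X).2⟩
      map_one' := by
        apply Subtype.ext
        change (s 1)⁻¹ * 1 = 1
        rw [map_one, inv_one, mul_one]
      map_mul' := fun x y => by
        apply Subtype.ext
        have key : ∀ a b c d : E, a⁻¹ * c ∈ Subgroup.center E →
            (a * b)⁻¹ * (c * d) = a⁻¹ * c * (b⁻¹ * d) := by
          intro a b c d h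
          rw [mul_inv_rev, mul_assoc, ← mul_assoc a⁻¹ c d, ← mul_assoc, Subgroup.mem_center_iff.1 h,
            mul_assoc (a⁻¹ * c)]
        have hxX : q (x : X).1.1 = r (x : X).1.2 := (hX _).1 (x : X).2
        change (s (⟨(x : X).1.1, x.2⟩ * ⟨(y : X).1.1, y.2⟩))⁻¹ * ((x : X).1.2 * (y : X).1.2) =
          (s ⟨(x : X).1.1, x.2⟩)⁻¹ * (x : X).1.2 * ((s ⟨(y : X).1.1, y.2⟩)⁻¹ * (y : X).1.2)
        rw [map_mul]
        refine key _ _ _ _ (hcen ?_)
        rw [MonoidHom.mem_ker, map_mul, map_inv, hs, inv_mul_eq_one]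
        exact hxX }
  let ι : r.ker →* X :=
    { toFun := fun z => ⟨(1, (z : E)), (hX _).2 (by rw [map_one]; exact (MonoidHom.mem_ker.1 z.2).symm)⟩
      map_one' := rfl
      map_mul' := fun a b => Subtype.ext (Prod.ext (one_mul 1).symm rfl) }
  haveI : PX.FiniteIndex := Subgroup.finiteIndex_of_finite
  let τ : X →* r.ker := MonoidHom.transfer π
  have hι : ∀ z, τ (ι z) = z ^ PX.index := by
    intro z
    have hz : ∀ g : X, ι z * g = g * ι z := fun g => by
      apply Subtype.ext
      refine Prod.ext ?_ ?_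
      · change 1 * g.1.1 = g.1.1 * 1
        rw [one_mul, mul_one]
      · exact (Subgroup.mem_center_iff.1 (hcen z.2) g.1.2).symm
    have hkey : ∀ (k : ℕ) (g₀ : X), g₀⁻¹ * ι z ^ k * g₀ ∈ PX → g₀⁻¹ * ι z ^ k * g₀ = ι z ^ k := by
      intro k g₀ _
      rw [mul_assoc, (Commute.pow_left (hz g₀) k).eq, inv_mul_cancel_left]
    rw [show τ (ι z) = _ from MonoidHom.transfer_eq_pow π (ι z) hkey]
    apply Subtype.ext
    change (s ⟨(ι z ^ PX.index).1.1, _⟩)⁻¹ * (ι z ^ PX.index).1.2 = _
    have h1 : ι z ^ PX.index = ι (z ^ PX.index) := (map_pow ι z _).symm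
    simp only [h1]
    change (s 1)⁻¹ * ((z ^ PX.index : r.ker) : E) = _
    rw [map_one, inv_one, one_mul]
  have hbij : Function.Bijective (fun z : r.ker => z ^ PX.index) := by
    have : Nat.Coprime (Nat.card r.ker) PX.index := by
      obtain ⟨k, hk⟩ := IsPGroup.iff_card.1 (hE.to_subgroup r.ker)
      rw [hk, hidx]
      exact Nat.Coprime.pow_left k (hp.out.coprime_iff_not_dvd.2 P.not_dvd_index)
    exact (powCoprime this).bijective
  let C : Subgroup X := τ.ker
  let fC : C →* G := f.comp C.subtype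
  have hfC : Function.Bijective fC := by
    constructor
    · rw [injective_iff_map_eq_one]
      intro c hc
      have h1 : (c : X).1.1 = 1 := hc
      have h2 : (c : X).1.2 ∈ r.ker := by
        rw [MonoidHom.mem_ker, ← (hX _).1 (c : X).2, h1, map_one]
      have h3 : (c : X) = ι ⟨_, h2⟩ := Subtype.ext (Prod.ext h1 rfl)
      have h4 : τ (c : X) = 1 := c.2
      rw [h3, hι] at h4
      have h5 : (⟨_, h2⟩ : r.ker) = 1 := hbij.1 (h4.trans (one_pow _).symm)
      apply Subtype.ext
      rw [h3, h5, map_one]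
      rfl
    · intro g
      obtain ⟨x, rfl⟩ := hf g
      obtain ⟨z, hz⟩ := hbij.2 (τ x)
      refine ⟨⟨x * (ι z)⁻¹, ?_⟩, ?_⟩
      · change τ _ = 1
        rw [map_mul, map_inv, hι]
        exact mul_inv_eq_one.2 hz.symm
      · change f (x * (ι z)⁻¹) = f x
        rw [map_mul, map_inv, show f (ι z) = 1 from rfl, inv_one, mul_one]
  let e : C ≃* G := MulEquiv.ofBijective fC hfC
  refine ⟨((MonoidHom.snd G E).comp (X.subtype.comp C.subtype)).comp e.symm.toMonoidHom, fun g => ?_⟩
  have h1 : (e.symm g : X).1.1 = g := e.apply_symm_apply g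
  conv_rhs => rw [← h1]
  exact ((hX _).1 (e.symm g : X).2).symm

/-- Tate's theorem for the residual. -/
theorem hasNormalPComplement [Finite G] [hp : Fact p.Prime] (P : Sylow p G)
    (h : (Cfsg.pResidual p G).subgroupOf (P : Subgroup G) ≤ frattini (P : Subgroup G)) :
    Cfsg.HasNormalPComplement p G := by
  rw [PBasic.hasNormalPComplement_iff_inf P]
  set K := Cfsg.pResidual p G with hK
  set Q := K.subgroupOf (P : Subgroup G) with hQ
  haveI := Fusion.sylow_isNilpotent P
  have hPK : (P : Subgroup G) ⊔ K = ⊤ := PBasic.sylow_sup_pResidual P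
  set L := ⁅Q, (⊤ : Subgroup (P : Subgroup G))⁆ with hL
  have hLQ : L ≤ Q := Subgroup.commutator_le_left Q ⊤
  suffices hQL : Q ≤ L by
    have := Fusion.le_of_le_commutator_sup_normal Q ⊥ (by rwa [sup_bot_eq])
    rw [le_bot_iff, hQ, Subgroup.subgroupOf_eq_bot, disjoint_iff] at this
    exact this
  let mk : (P : Subgroup G) →* (P : Subgroup G) ⧸ L := QuotientGroup.mk' L
  have hmk : Function.Surjective mk := QuotientGroup.mk'_surjective L
  let q : G →* G ⧸ K := QuotientGroup.mk' K
  let r : (P : Subgroup G) ⧸ L →* G ⧸ K :=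
    QuotientGroup.lift L (q.comp (P : Subgroup G).subtype) fun x hx => by
      rw [MonoidHom.mem_ker, MonoidHom.comp_apply, QuotientGroup.mk'_apply, QuotientGroup.eq_one_iff]
      exact hLQ hx
  have hrmk : ∀ x, r (mk x) = q (x : G) := fun x => rfl
  have hr : Function.Surjective r := by
    intro t
    obtain ⟨g, rfl⟩ := QuotientGroup.mk'_surjective K t
    have hg : g ∈ ((P : Subgroup G) ⊔ K : Subgroup G) := hPK ▸ Subgroup.mem_top g
    rw [← SetLike.mem_coe, Subgroup.mul_normal] at hg
    obtain ⟨a, ha, w, hw, rfl⟩ := Set.mem_mul.1 hg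
    refine ⟨mk ⟨a, ha⟩, ?_⟩
    rw [hrmk]
    simp only [q, QuotientGroup.mk'_apply, QuotientGroup.mk_mul, (QuotientGroup.eq_one_iff w).2 hw,
      mul_one]
  have hker : ∀ x, r (mk x) = 1 → x ∈ Q := fun x hx => by
    rw [hrmk] at hx
    exact (QuotientGroup.eq_one_iff (N := K) (x : G)).1 hx
  have hcen : r.ker ≤ Subgroup.center ((P : Subgroup G) ⧸ L) := by
    intro y hy
    obtain ⟨x, rfl⟩ := hmk y
    rw [Subgroup.mem_center_iff]
    intro z
    obtain ⟨w, rfl⟩ := hmk z
    rw [← map_mul, ← map_mul]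
    refine (QuotientGroup.eq (s := L)).2 ?_
    have := Subgroup.commutator_mem_commutator (inv_mem (hker x hy)) (Subgroup.mem_top w⁻¹)
      (H₁ := Q) (H₂ := ⊤)
    simpa [commutatorElement_def, mul_assoc, hL] using this
  obtain ⟨σ, hσ⟩ := exists_lift q r hr (P.isPGroup'.to_quotient L) hcen P mk hrmk
  have hσK : ∀ k ∈ K, σ k = 1 := fun k hk => by
    have h1 := PBasic.map_pResidual_le σ (Subgroup.mem_map_of_mem σ hk)
    have h2 : Cfsg.pResidual p ((P : Subgroup G) ⧸ L) = ⊥ := by
      rw [Cfsg.pResidual, Subgroup.closure_eq_bot_iff]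
      intro x hx
      exact (PBasic.isPGroup_iff_forall_coprime.1 (P.isPGroup'.to_quotient L)) x hx
    rw [h2] at h1
    exact Subgroup.mem_bot.1 h1
  let φ : (P : Subgroup G) →* (P : Subgroup G) ⧸ L := σ.comp (P : Subgroup G).subtype
  have hφQ : Q ≤ φ.ker := fun x hx => hσK x hx
  have htop : φ.range.comap mk ⊔ frattini (P : Subgroup G) = ⊤ := by
    rw [eq_top_iff]
    intro x _
    obtain ⟨y, hy⟩ := hmk (φ x)
    have h1 : y⁻¹ * x ∈ Q := by
      apply hker
      rw [map_mul, map_inv, hy, map_mul, map_inv, hrmk, show r (φ x) = q x from hσ _, inv_mul_cancel]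
    rw [show x = y * (y⁻¹ * x) by group]
    exact mul_mem (Subgroup.mem_sup_left ⟨x, hy.symm⟩) (Subgroup.mem_sup_right (h h1))
  have hφs : Function.Surjective φ := by
    have := frattini_nongenerating htop
    intro y
    obtain ⟨x, rfl⟩ := hmk y
    have h3 : x ∈ φ.range.comap mk := by rw [this]; exact Subgroup.mem_top x
    exact h3
  have h1 : L.index ≤ Q.index := by
    have h2 : φ.ker.index = L.index := by
      rw [Subgroup.index_ker, MonoidHom.range_eq_top.2 hφs, Subgroup.card_top]
      rfl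
    rw [← h2]
    exact Nat.le_of_dvd (Nat.pos_of_ne_zero Subgroup.index_ne_zero_of_finite)
      (Subgroup.index_dvd_of_le hφQ)
  by_contra hne
  exact (Subgroup.index_strictAnti (lt_of_le_not_ge hLQ hne)).not_ge h1

/-- Tate's theorem: a normal subgroup meeting a Sylow subgroup `P` inside `Φ(P)` has a normal
`p`-complement. -/
theorem hasNormalPComplement_of_inf_le [Finite G] [hp : Fact p.Prime] (P : Sylow p G)
    (N : Subgroup G) [N.Normal]
    (h : N ⊓ (P : Subgroup G) ≤ (frattini (P : Subgroup G)).map (P : Subgroup G).subtype) :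
    Cfsg.HasNormalPComplement p N := by
  set M := (P : Subgroup G) ⊔ N with hM
  have hPM : (P : Subgroup G) ≤ M := le_sup_left
  let P' : Sylow p M := P.subtype hPM
  haveI : (N.subgroupOf M).Normal := inferInstance
  have hres : Cfsg.pResidual p M ≤ N.subgroupOf M := by
    refine PBasic.pResidual_le ?_
    have h1 : (N.subgroupOf M).index ∣ Nat.card (P : Subgroup G) := by
      change N.relIndex M ∣ _
      rw [hM, Subgroup.relIndex_sup_right]
      exact Subgroup.relIndex_dvd_card _ _
    obtain ⟨k, hk⟩ := IsPGroup.iff_card.1 P.isPGroup'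
    rw [hk] at h1
    obtain ⟨j, -, hj⟩ := (Nat.dvd_prime_pow hp.out).1 h1
    exact IsPGroup.of_card (n := j) hj
  let e : (P : Subgroup G) ≃* (P' : Subgroup M) := (Subgroup.subgroupOfEquivOfLe hPM).symm
  have hNM : Cfsg.HasNormalPComplement p M := by
    refine hasNormalPComplement P' fun x hx => ?_
    have hxN : ((x : M) : G) ∈ N := hres hx
    have hxP : ((x : M) : G) ∈ (P : Subgroup G) := x.2
    obtain ⟨y, hy, hye⟩ := h ⟨hxN, hxP⟩
    have h2 := frattini_le_comap_frattini_of_surjective (φ := e.toMonoidHom) e.surjective hy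
    have h3 : e y = x := Subtype.ext (Subtype.ext hye)
    rwa [Subgroup.mem_comap, MulEquiv.coe_toMonoidHom, h3] at h2
  exact PBasic.hasNormalPComplement_of_injective (Subgroup.inclusion (le_sup_right : N ≤ M))
    (Subgroup.inclusion_injective _) hNM

end Cfsg.Agent.Tate
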