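import Cfsg.Agent.Lib.Transfer.Abelian
import Cfsg.Agent.Lib.Solvable.SchurZassenhaus

/-!
Normal complements of Hall subgroups from normal `p`-complements, and Burnside's theorem for Hall
subgroups.
-/

set_option autoImplicit false
set_option linter.style.haveILetI false

open scoped commutatorElement Pointwise

namespace Cfsg.Agent.HallComplement

open Cfsg.Agent

universe u

variable {G : Type u} [Group G]

/-- A Hall subgroup contains a Sylow subgroup for each prime dividing its order. -/
theorem exists_sylow_le [Finite G] (H : Subgroup G) (hHall : Nat.Coprime (Nat.card H) H.index)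
    (p : ℕ) [hp : Fact p.Prime] (hd : p ∣ Nat.card H) :
    ∃ P : Sylow p G, (P : Subgroup G) ≤ H := by
  obtain ⟨S⟩ : Nonempty (Sylow p H) := inferInstance
  have hS : IsPGroup p ((S : Subgroup H).map H.subtype) := S.isPGroup'.map _
  refine ⟨hS.toSylow ?_, Subgroup.map_subtype_le _⟩
  rw [Subgroup.index_map_of_injective _ Subtype.coe_injective, Subgroup.range_subtype,
    hp.out.dvd_mul]
  rintro (h | h)
  · exact S.not_dvd_index h
  · exact hp.out.coprime_iff_not_dvd.1 (hHall.coprime_dvd_left hd) h

/-- If `G` is `p`-nilpotent for all primes dividing the order of the Hall subgroup `H`, then `H`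
has a normal complement. -/
theorem exists_complement [Finite G] (H : Subgroup G) (hHall : Nat.Coprime (Nat.card H) H.index)
    (hnpc : ∀ p : ℕ, p.Prime → p ∣ Nat.card H → Cfsg.HasNormalPComplement p G) :
    ∃ N : Subgroup G, N.Normal ∧ N.IsComplement' H := by
  let ι := {p : ℕ // p ∈ (Nat.card H).primeFactors}
  let N : Subgroup G := ⨅ i : ι, Cfsg.pResidual i.1 G
  have hkey : ∀ i : ι, (Nat.card (Cfsg.pResidual i.1 G)).Coprime i.1 ∧
      (Cfsg.pResidual i.1 G).index ≤ i.1 ^ (Nat.card H).factorization i.1 := by
    rintro ⟨p, hp⟩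
    haveI : Fact p.Prime := ⟨Nat.prime_of_mem_primeFactors hp⟩
    obtain ⟨P, hPH⟩ := exists_sylow_le H hHall p (Nat.dvd_of_mem_primeFactors hp)
    have h1 := PBasic.hasNormalPComplement_iff_pResidual.1
      (hnpc p (Fact.out : p.Prime) (Nat.dvd_of_mem_primeFactors hp))
    refine ⟨h1, ?_⟩
    obtain ⟨k, hk⟩ := PBasic.exists_index_pow_of_isPGroup_quotient
      (PBasic.quotient_pResidual_isPGroup p G)
    rw [hk]
    refine Nat.pow_le_pow_right (Fact.out : p.Prime).pos ?_
    rw [← (Fact.out : p.Prime).pow_dvd_iff_le_factorization Nat.card_pos.ne', ← hk]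
    have h3 : (Cfsg.pResidual p G).index ∣ Nat.card (P : Subgroup G) := by
      rw [← Subgroup.relIndex_top_right, ← PBasic.sylow_sup_pResidual P,
        Subgroup.relIndex_sup_right]
      exact Subgroup.relIndex_dvd_card _ _
    exact h3.trans (Subgroup.card_dvd_of_le hPH)
  have hdisj : N ⊓ H = ⊥ := by
    rw [Subgroup.eq_bot_iff_forall]
    rintro x ⟨hxN, hxH⟩
    rw [← orderOf_eq_one_iff]
    by_contra hne
    obtain ⟨p, hp, hpd⟩ := Nat.exists_prime_and_dvd hne
    have hmem : p ∈ (Nat.card H).primeFactors :=
      Nat.mem_primeFactors.2 ⟨hp, hpd.trans (H.orderOf_dvd_natCard hxH), Nat.card_pos.ne'⟩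
    exact hp.coprime_iff_not_dvd.1 ((hkey ⟨p, hmem⟩).1.symm.coprime_dvd_right
      (((Cfsg.pResidual p G).orderOf_dvd_natCard
        (Subgroup.mem_iInf.1 hxN ⟨p, hmem⟩)))) hpd
  haveI hNn : N.Normal := Subgroup.normal_iInf_normal fun i => inferInstance
  have hidx : N.index ≤ Nat.card H := by
    refine (Subgroup.index_iInf_le _).trans ((Finset.prod_le_prod (fun i _ => Nat.zero_le _)
      fun i _ => (hkey i).2).trans (le_of_eq ?_))
    rw [Finset.prod_coe_sort (Nat.card H).primeFactors
      (fun p => p ^ (Nat.card H).factorization p)]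
    exact (Nat.prod_factorization_pow_eq_self Nat.card_pos.ne')
  refine ⟨N, hNn, Subgroup.isComplement'_of_card_mul_and_disjoint ?_ (disjoint_iff.2 hdisj)⟩
  have h4 : Nat.card H ∣ N.index := by
    rw [← Subgroup.relIndex_bot_left, ← hdisj, Subgroup.inf_relIndex_right]
    exact Subgroup.relIndex_dvd_index_of_normal N H
  have h5 : Nat.card H = N.index :=
    le_antisymm (Nat.le_of_dvd (Nat.pos_of_ne_zero Subgroup.index_ne_zero_of_finite) h4) hidx
  rw [h5, Subgroup.card_mul_index]

/-- The hypotheses of Burnside's theorem for Hall subgroups pass to subgroups containing `H`. -/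
theorem hyps_subgroup [Finite G] {H L : Subgroup G} (hHL : H ≤ L)
    (hHall : Nat.Coprime (Nat.card H) H.index)
    (h : Subgroup.normalizer (H : Set G) ≤ Subgroup.centralizer (H : Set G)) :
    Nat.Coprime (Nat.card (H.subgroupOf L)) (H.subgroupOf L).index ∧
      Subgroup.normalizer (H.subgroupOf L : Set L) ≤
        Subgroup.centralizer (H.subgroupOf L : Set L) := by
  constructor
  · rw [Nat.card_congr (Subgroup.subgroupOfEquivOfLe hHL).toEquiv]
    exact hHall.coprime_dvd_right (Subgroup.relIndex_dvd_index_of_le hHL)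
  · intro x hx
    rw [Subgroup.mem_centralizer_iff]
    intro y hy
    rw [← Subgroup.subgroupOf_normalizer_eq hHL, Subgroup.mem_subgroupOf] at hx
    exact Subtype.ext (h hx y hy)

theorem npc_aux (n : ℕ) : ∀ (G : Type u) [Group G] [Finite G], Nat.card G ≤ n →
    ∀ (H : Subgroup G), Nat.Coprime (Nat.card H) H.index →
    Subgroup.normalizer (H : Set G) ≤ Subgroup.centralizer (H : Set G) →
    ∀ p : ℕ, p.Prime → p ∣ Nat.card H → Cfsg.HasNormalPComplement p G := by
  induction n with
  | zero => intro G _ _ hn; exact absurd hn (Nat.not_le.2 Nat.card_pos)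
  | succ n ih =>
    intro G _ _ hn H hHall h p hp hd
    haveI := Fact.mk hp
    have hHc : H ≤ Subgroup.centralizer (H : Set G) := Subgroup.le_normalizer.trans h
    obtain ⟨P, hPH⟩ := exists_sylow_le H hHall p hd
    refine Fusion.hasNormalPComplement_of_normalizer_le_centralizer P ?_
    have hHCP : H ≤ Subgroup.centralizer (P : Set G) :=
      hHc.trans (Subgroup.centralizer_le hPH)
    have hHNP : H ≤ Subgroup.normalizer (P : Set G) :=
      hHCP.trans (Subgroup.centralizer_le_normalizer _)
    have hsub : ∀ L : Subgroup G, L ≠ ⊤ → H ≤ L →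
        ∃ K : Subgroup L, K.Normal ∧ K.IsComplement' (H.subgroupOf L) := by
      intro L hL hHL
      obtain ⟨h1, h2⟩ := hyps_subgroup hHL hHall h
      refine exists_complement (H.subgroupOf L) h1 (ih L ?_ _ h1 h2)
      exact Nat.lt_succ_iff.1 (lt_of_lt_of_le ((Subgroup.card_le_card_group L).lt_of_ne
        fun he => hL (Subgroup.eq_top_of_card_eq L he)) hn)
    by_cases hN : Subgroup.normalizer (P : Set G) = ⊤
    · by_cases hC : Subgroup.centralizer (P : Set G) = ⊤
      · rw [hC]; exact le_top
      exfalso
      haveI : (P : Subgroup G).Normal := Subgroup.normalizer_eq_top_iff.1 hN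
      haveI hCn : (Subgroup.centralizer (P : Set G)).Normal := Subgroup.normal_centralizer
      set C := Subgroup.centralizer (P : Set G) with hC'
      obtain ⟨K, hKn, hKc⟩ := hsub C hC hHCP
      have hcardK : (Nat.card K).Coprime (Nat.card (H.subgroupOf C)) := by
        rw [← hKc.index_eq_card]
        exact (hyps_subgroup hHCP hHall h).1.symm
      set N := K.map C.subtype with hN'
      have hHN : N ⊔ H = C := by
        have h1 := congrArg (Subgroup.map C.subtype) hKc.sup_eq_top
        rwa [Subgroup.map_sup, Subgroup.map_subgroupOf_eq_of_le hHCP, ← MonoidHom.range_eq_map,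
          Subgroup.range_subtype] at h1
      have hHnN : H ≤ Subgroup.normalizer (N : Set G) := by
        intro x hx
        rw [Subgroup.mem_normalizer_iff_map_conj_eq, hN', Subgroup.map_map]
        rw [show ((MulAut.conj x : G ≃* G) : G →* G).comp C.subtype =
          C.subtype.comp ((MulAut.conj (⟨x, hHCP hx⟩ : C) : C ≃* C) : C →* C) from
          MonoidHom.ext fun y => rfl, ← Subgroup.map_map]
        exact congrArg _ (Subgroup.mem_normalizer_iff_map_conj_eq.1
          (by rw [Subgroup.normalizer_eq_top_iff.2 hKn]; exact Subgroup.mem_top _))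
      have hcop : (Nat.card H).Coprime (Nat.card N) := by
        rw [hN', Subgroup.card_map_of_injective Subtype.coe_injective,
          ← Nat.card_congr (Subgroup.subgroupOfEquivOfLe hHCP).toEquiv]
        exact hcardK.symm
      have hsolv : Group.IsSolvable H ∨ Group.IsSolvable N := Or.inl (by
        letI : CommGroup H :=
          { (inferInstance : Group H) with
            mul_comm := fun a b => Subtype.ext (hHc b.2 a a.2) }
        infer_instance)
      refine hC (eq_top_iff.2 fun g _ => ?_)
      obtain ⟨k, hk, hke⟩ := SchurZ.conj_in hHnN hcop hsolv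
        (B := MulAut.conj g • H) (by
          rw [hHN]
          intro y hy
          obtain ⟨z, hz, rfl⟩ := hy
          exact hCn.conj_mem z (hHCP hz) g)
        (Nat.card_congr (Subgroup.equivSMul (MulAut.conj g) H).toEquiv).symm
      have hg : k⁻¹ * g ∈ Subgroup.normalizer (H : Set G) := by
        rw [Subgroup.mem_normalizer_iff_map_conj_eq]
        change MulAut.conj (k⁻¹ * g) • H = H
        rw [map_mul, mul_smul, ← hke, smul_smul, ← map_mul, inv_mul_cancel, map_one, one_smul]
      rw [show g = k * (k⁻¹ * g) by group]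
      exact mul_mem (Subgroup.map_subtype_le _ hk) (Subgroup.centralizer_le hPH (h hg))
    · set L := Subgroup.normalizer (P : Set G) with hL
      obtain ⟨K, hKn, hKc⟩ := hsub L hN hHNP
      haveI : ((P : Subgroup G).subgroupOf L).Normal := Subgroup.normal_in_normalizer
      intro x hx
      have hx' : (⟨x, hx⟩ : L) ∈ K ⊔ H.subgroupOf L := by rw [hKc.sup_eq_top]; exact Subgroup.mem_top _
      have hle : K ⊔ H.subgroupOf L ≤ Subgroup.centralizer ((P : Subgroup G).subgroupOf L : Set L) := by
        refine sup_le ?_ ?_
        · intro k hk y hy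
          exact (Subgroup.commute_of_normal_of_disjoint _ K inferInstance hKn
            (disjoint_iff.2 (eq_bot_iff.2 ((inf_le_inf_right K fun z hz => hPH hz).trans
              (by rw [inf_comm, hKc.disjoint.eq_bot])))) y k hy hk)
        · intro k hk y hy
          exact Subtype.ext (hHc hk (y : G) (hPH hy))
      exact fun y hy => congrArg Subtype.val (hle hx' ⟨y, Subgroup.le_normalizer hy⟩ hy)

/-- Burnside's theorem for Hall subgroups. -/
theorem burnside [Finite G] (H : Subgroup G) (hHall : Nat.Coprime (Nat.card H) H.index)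
    (h : Subgroup.normalizer (H : Set G) ≤ Subgroup.centralizer (H : Set G)) :
    ∃ N : Subgroup G, N.Normal ∧ N.IsComplement' H :=
  exists_complement H hHall (npc_aux (Nat.card G) G le_rfl H hHall h)

end Cfsg.Agent.HallComplement
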