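import Cfsg.Agent.Lib.OddOrder.OmegaCentral
import Cfsg.Agent.Lib.Transfer.PGroup

/-!
For odd `p`, a `p`-group with an elementary abelian subgroup of order `p ^ 4` has a normal one.
-/

set_option autoImplicit false
set_option linter.style.haveILetI false
set_option linter.unusedSectionVars false
open scoped commutatorElement Pointwise

namespace Cfsg.Agent.RankFour

open Cfsg.Agent

variable {G : Type*} [Group G] [Finite G] {p : ℕ} [hp : Fact p.Prime]

theorem comm_ea {A : Subgroup G} (hA : Cfsg.IsElementaryAbelian p A) {x y : G} (hx : x ∈ A) (hy : y ∈ A) :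
    x * y = y * x := congrArg Subtype.val (hA.1.is_comm.comm (⟨x, hx⟩ : A) ⟨y, hy⟩)

/-- A plane `D` of a maximal normal elementary abelian subgroup `A` of order `p ^ 3`. -/
structure Hyp (p : ℕ) (A D : Subgroup G) (a : G) : Prop where
  hG : IsPGroup p G
  hA : Cfsg.IsElementaryAbelian p A
  hAn : A.Normal
  hcard : Nat.card A = p ^ 3
  hself : ∀ x ∈ Subgroup.centralizer (A : Set G), x ^ p = 1 → x ∈ A
  hDA : D ≤ A
  hDn : D.Normal
  hDcard : Nat.card D = p ^ 2
  haA : a ∈ A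
  haD : a ∉ D

variable {A D : Subgroup G} {a : G}

theorem Hyp.span (h : Hyp p A D a) : D ⊔ Subgroup.zpowers a = A := by
  have hle : D ⊔ Subgroup.zpowers a ≤ A := sup_le h.hDA (Subgroup.zpowers_le.2 h.haA)
  refine Subgroup.eq_of_le_of_card_ge hle ?_
  obtain ⟨j, hj⟩ := IsPGroup.iff_card.1 (h.hG.to_subgroup (D ⊔ Subgroup.zpowers a))
  rw [h.hcard, hj]
  refine Nat.pow_le_pow_right hp.out.pos ?_
  by_contra hlt
  have h1 : p ^ j ≤ p ^ 2 := Nat.pow_le_pow_right hp.out.pos (by omega)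
  have h2 : D = D ⊔ Subgroup.zpowers a :=
    Subgroup.eq_of_le_of_card_ge le_sup_left (by rw [hj, h.hDcard]; exact h1)
  exact h.haD (h2 ▸ Subgroup.mem_sup_right (Subgroup.mem_zpowers a))

theorem Hyp.comm_mem (h : Hyp p A D a) (g : G) {x : G} (hx : x ∈ A) : ⁅g, x⁆ ∈ D := by
  haveI := h.hDn
  set π := QuotientGroup.mk' D with hπ
  haveI : (A.map π).Normal := h.hAn.map π (QuotientGroup.mk'_surjective D)
  have hcard : Nat.card (A.map π) = p := by
    have h1 : D.relIndex A * Nat.card D = Nat.card A := by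
      rw [Subgroup.relIndex, ← Nat.card_congr (Subgroup.subgroupOfEquivOfLe h.hDA).toEquiv]
      exact Subgroup.index_mul_card _
    rw [h.hDcard, h.hcard, show p ^ 3 = p * p ^ 2 by ring] at h1
    rw [← Subgroup.relIndex_ker, hπ, QuotientGroup.ker_mk']
    exact Nat.eq_of_mul_eq_mul_right (pow_pos hp.out.pos 2) h1
  rw [← QuotientGroup.eq_one_iff]
  show π ⁅g, x⁆ = 1
  rw [map_commutatorElement, commutatorElement_eq_one_iff_mul_comm]
  exact Subgroup.mem_center_iff.1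
    (OddOrder.OmegaCen.le_center_of_prime_card (h.hG.to_quotient D) hcard ⟨x, hx, rfl⟩) (π g)

theorem Hyp.comm_D (h : Hyp p A D a) {x y : G} (hx : x ∈ D) (hy : y ∈ D) : x * y = y * x :=
  comm_ea h.hA (h.hDA hx) (h.hDA hy)

/-- The action on `A / D`. -/
def Hyp.chi (h : Hyp p A D a) : Subgroup.centralizer (D : Set G) →* G :=
  MonoidHom.mk' (fun g => ⁅(g : G), a⁆) fun g k => by
    show ⁅((g * k : Subgroup.centralizer (D : Set G)) : G), a⁆ = ⁅(g : G), a⁆ * ⁅(k : G), a⁆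
    have e : ⁅((g * k : Subgroup.centralizer (D : Set G)) : G), a⁆ =
        (g : G) * ⁅(k : G), a⁆ * (g : G)⁻¹ * ⁅(g : G), a⁆ := by
      rw [Subgroup.coe_mul]; simp only [commutatorElement_def]; group
    rw [e, ← Subgroup.mem_centralizer_iff.1 g.2 _ (h.comm_mem k h.haA), mul_inv_cancel_right,
      h.comm_D (h.comm_mem _ h.haA) (h.comm_mem _ h.haA)]

theorem Hyp.chi_apply (h : Hyp p A D a) (g : Subgroup.centralizer (D : Set G)) :
    h.chi g = ⁅(g : G), a⁆ := rfl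

theorem Hyp.mem_centralizer (h : Hyp p A D a) {g : G} (hg : g ∈ Subgroup.centralizer (D : Set G))
    (hga : ⁅g, a⁆ = 1) : g ∈ Subgroup.centralizer (A : Set G) := by
  rw [← h.span, Subgroup.mem_centralizer_iff]
  have hle : D ⊔ Subgroup.zpowers a ≤ Subgroup.centralizer ({g} : Set G) := sup_le
    (fun d hd => Subgroup.mem_centralizer_singleton_iff.2 (Subgroup.mem_centralizer_iff.1 hg d hd))
    (Subgroup.zpowers_le.2 (Subgroup.mem_centralizer_singleton_iff.2
      (commutatorElement_eq_one_iff_mul_comm.1 hga).symm))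
  exact fun x hx => Subgroup.mem_centralizer_singleton_iff.1 (hle hx)

/-- Every elementary abelian subgroup of order `p ^ 4` meets `A` in `D` and moves `a` arbitrarily. -/
theorem Hyp.face (h : Hyp p A D a) {F : Subgroup G} (hF : Cfsg.IsElementaryAbelian p F)
    (hF4 : Nat.card F = p ^ 4) :
    F ⊓ A = D ∧ F ≤ Subgroup.centralizer (D : Set G) ∧ ∀ d ∈ D, ∃ f ∈ F, ⁅f, a⁆ = d := by
  haveI := h.hDn
  have hcA : F ⊓ Subgroup.centralizer (A : Set G) ≤ F ⊓ A := fun x hx =>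
    ⟨hx.1, h.hself x hx.2 (hF.2 x hx.1)⟩
  set F₃ := F ⊓ Subgroup.centralizer (D : Set G) with hF₃
  have h3 : Nat.card F ≤ p * Nat.card F₃ := OddOrder.OmegaCen.card_le_mul_inf_centralizer h.hG D
    h.hDcard.le (.of_setLike_mul_comm fun x hx y hy => h.comm_D hx hy) F
  rw [hF4, show p ^ 4 = p * p ^ 3 by ring] at h3
  have h3' : p ^ 3 ≤ Nat.card F₃ := Nat.le_of_mul_le_mul_left h3 hp.out.pos
  let ψ : F₃ →* G := h.chi.comp (Subgroup.inclusion inf_le_right)
  have hψD : ψ.range ≤ D := by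
    rintro _ ⟨f, rfl⟩
    exact h.comm_mem _ h.haA
  have hker : ψ.ker.map F₃.subtype ≤ F ⊓ A := by
    rintro _ ⟨f, hf, rfl⟩
    exact hcA ⟨f.2.1, h.mem_centralizer f.2.2 hf⟩
  have hmul := ψ.ker.index_mul_card
  rw [Subgroup.index_ker, ← Subgroup.card_map_of_injective (K := ψ.ker) F₃.subtype_injective] at hmul
  have hrc : Nat.card ψ.range ≤ p ^ 2 := h.hDcard ▸ Subgroup.card_le_of_le hψD
  have hkc := Subgroup.card_le_of_le hker
  obtain ⟨j, hj⟩ := IsPGroup.iff_card.1 (h.hG.to_subgroup (F ⊓ A))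
  have hj3 : j < 3 := by
    by_contra hge
    have e : F ⊓ A = A := Subgroup.eq_of_le_of_card_ge inf_le_right
      (by rw [hj, h.hcard]; exact Nat.pow_le_pow_right hp.out.pos (by omega))
    have hFA : F ≤ A := fun x hx => h.hself x (Subgroup.mem_centralizer_iff.2 fun y hy =>
      comm_ea hF (e.ge hy).1 hx) (hF.2 x hx)
    have := Subgroup.card_le_of_le hFA
    rw [hF4, h.hcard] at this
    exact absurd ((Nat.pow_le_pow_iff_right hp.out.one_lt).1 this) (by omega)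
  have hj2 : j = 2 := by
    by_contra hne
    have hj1 : p ^ j ≤ p := by
      have : p ^ j ≤ p ^ 1 := Nat.pow_le_pow_right hp.out.pos (by omega)
      simpa using this
    have h5 : Nat.card ψ.range = p ^ 2 := by
      refine le_antisymm hrc (Nat.le_of_mul_le_mul_right ?_ hp.out.pos)
      calc p ^ 2 * p = p ^ 3 := by ring
        _ ≤ Nat.card F₃ := h3'
        _ = _ := hmul.symm
        _ ≤ Nat.card ψ.range * p := Nat.mul_le_mul_left _ (hkc.trans (hj ▸ hj1))
    have hsurj : ψ.range = D := Subgroup.eq_of_le_of_card_ge hψD (by rw [h5, h.hDcard])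
    have hFC : F ≤ Subgroup.centralizer (D : Set G) := by
      intro f hf
      rw [Subgroup.mem_centralizer_iff]
      intro z hz
      obtain ⟨g, hg⟩ := hsurj.ge hz
      have hgf : (g : G) * f = f * g := comm_ea hF g.2.1 hf
      have hgw : ⁅f, a⁆ * (g : G) = g * ⁅f, a⁆ :=
        Subgroup.mem_centralizer_iff.1 g.2.2 _ (h.comm_mem f h.haA)
      set w := ⁅f, a⁆ with hw
      have key : f * z * f⁻¹ = z := by
        have hz' : z = (g : G) * a * (g : G)⁻¹ * a⁻¹ := hg.symm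
        have e1 : f * a * f⁻¹ = w * a := by rw [hw, commutatorElement_def]; group
        have e2 : f * (g : G) * f⁻¹ = g := by rw [← hgf, mul_inv_cancel_right]
        calc f * z * f⁻¹ = (f * g * f⁻¹) * (f * a * f⁻¹) * (f * g * f⁻¹)⁻¹ * (f * a * f⁻¹)⁻¹ := by
              rw [hz']; group
          _ = ((g : G) * w) * a * (g : G)⁻¹ * a⁻¹ * w⁻¹ := by rw [e1, e2]; group
          _ = w * z * w⁻¹ := by rw [← hgw, hz']; group
          _ = z := by rw [h.comm_D (h.comm_mem f h.haA) hz, mul_inv_cancel_right]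
      exact (mul_inv_eq_iff_eq_mul.1 key).symm
    have e : F₃ = F := inf_eq_left.2 hFC
    have hle : Nat.card F ≤ p ^ 2 * p := by
      calc Nat.card F = Nat.card F₃ := by rw [e]
        _ = _ := hmul.symm
        _ ≤ p ^ 2 * p := Nat.mul_le_mul hrc (hkc.trans (hj ▸ hj1))
    rw [hF4, ← pow_succ] at hle
    exact absurd ((Nat.pow_le_pow_iff_right hp.out.one_lt).1 hle) (by omega)
  subst hj2
  -- the intersection is `D`
  have hD : F ⊓ A = D := by
    by_contra hne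
    have hlt : D < D ⊔ (F ⊓ A) := lt_of_le_of_ne le_sup_left fun e => hne
      (Subgroup.eq_of_le_of_card_ge (e ▸ le_sup_right) (by rw [hj, h.hDcard]))
    obtain ⟨i, hi⟩ := IsPGroup.iff_card.1 (h.hG.to_subgroup (D ⊔ (F ⊓ A)))
    have h2i : 2 < i := by
      by_contra hle
      exact hlt.ne (Subgroup.eq_of_le_of_card_ge le_sup_left
        (by rw [hi, h.hDcard]; exact Nat.pow_le_pow_right hp.out.pos (by omega)))
    have htop : D ⊔ (F ⊓ A) = A := Subgroup.eq_of_le_of_card_ge (sup_le h.hDA inf_le_right)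
      (by rw [hi, h.hcard]; exact Nat.pow_le_pow_right hp.out.pos (by omega))
    have hle : F₃ ≤ F ⊓ A := by
      intro x hx
      refine hcA ⟨hx.1, ?_⟩
      rw [← htop]
      refine Subgroup.mem_centralizer_iff.2 ?_
      have hcl : D ⊔ (F ⊓ A) ≤ Subgroup.centralizer ({x} : Set G) := sup_le
        (fun d hd => Subgroup.mem_centralizer_singleton_iff.2 (Subgroup.mem_centralizer_iff.1 hx.2 d hd))
        (fun d hd => Subgroup.mem_centralizer_singleton_iff.2 (comm_ea hF hd.1 hx.1))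
      exact fun y hy => Subgroup.mem_centralizer_singleton_iff.1 (hcl hy)
    have := h3'.trans (Subgroup.card_le_of_le hle)
    rw [hj] at this
    exact absurd ((Nat.pow_le_pow_iff_right hp.out.one_lt).1 this) (by omega)
  have hFC : F ≤ Subgroup.centralizer (D : Set G) := fun f hf =>
    Subgroup.mem_centralizer_iff.2 fun d hd => comm_ea hF (hD.ge hd).1 hf
  refine ⟨hD, hFC, fun d hd => ?_⟩
  have e : F₃ = F := inf_eq_left.2 hFC
  have hsurj : ψ.range = D := by
    refine Subgroup.eq_of_le_of_card_ge hψD (Nat.le_of_mul_le_mul_right ?_ (pow_pos hp.out.pos 2))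
    calc Nat.card D * p ^ 2 = p ^ 4 := by rw [h.hDcard]; ring
      _ = Nat.card F₃ := by rw [e, hF4]
      _ = _ := hmul.symm
      _ ≤ _ := Nat.mul_le_mul_left _ (hj ▸ hkc)
  obtain ⟨f, hf⟩ := hsurj.ge hd
  exact ⟨f, f.2.1, hf⟩

/-- A subgroup of order `p ^ 4` normal in a normal subgroup is normal. -/
theorem Hyp.normal (h : Hyp p A D a) (hp2 : p ≠ 2) {M E₀ : Subgroup G} [M.Normal] (hEM : E₀ ≤ M)
    (hn : M ≤ Subgroup.normalizer (E₀ : Set G)) (hE : Cfsg.IsElementaryAbelian p E₀)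
    (hE4 : Nat.card E₀ = p ^ 4) : E₀.Normal := by
  classical
  haveI := h.hDn
  haveI := h.hAn
  let cj : G → Subgroup G := fun g => E₀.map (MulAut.conj g).toMonoidHom
  have hcjE : ∀ g, Cfsg.IsElementaryAbelian p (cj g) := by
    intro g
    refine ⟨.of_setLike_mul_comm ?_, ?_⟩
    · rintro _ ⟨x, hx, rfl⟩ _ ⟨y, hy, rfl⟩
      rw [← map_mul, ← map_mul, comm_ea hE hx hy]
    · rintro _ ⟨x, hx, rfl⟩
      rw [← map_pow, hE.2 x hx, map_one]
  have hcj4 : ∀ g, Nat.card (cj g) = p ^ 4 := fun g => by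
    rw [Subgroup.card_map_of_injective (MulAut.conj g).injective, hE4]
  have hcjM : ∀ g, cj g ≤ M := by
    rintro g _ ⟨x, hx, rfl⟩
    exact ‹M.Normal›.conj_mem x (hEM hx) g
  have hcjN : ∀ g, ∀ m ∈ M, ∀ x ∈ cj g, m * x * m⁻¹ ∈ cj g := by
    rintro g m hm _ ⟨x, hx, rfl⟩
    have hm' : g⁻¹ * m * g ∈ M := by
      simpa using ‹M.Normal›.conj_mem m hm g⁻¹
    refine ⟨g⁻¹ * m * g * x * (g⁻¹ * m * g)⁻¹, (Subgroup.mem_normalizer_iff.1 (hn hm') x).1 hx, ?_⟩
    simp only [MulEquiv.coe_toMonoidHom, MulAut.conj_apply]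
    group
  set S : Set G := (A : Set G) ∪ {x | ∃ g, x ∈ cj g} with hS
  have hSC : ∀ x ∈ S, x ∈ Subgroup.centralizer (D : Set G) := by
    rintro x (hx | ⟨g, hx⟩)
    · exact Subgroup.mem_centralizer_iff.2 fun d hd => comm_ea h.hA (h.hDA hd) hx
    · exact (h.face (hcjE g) (hcj4 g)).2.1 hx
  have hSp : ∀ x ∈ S, x ^ p = 1 := by
    rintro x (hx | ⟨g, hx⟩)
    · exact h.hA.2 x hx
    · exact (hcjE g).2 x hx
  have hScomm : ∀ x ∈ S, ∀ y ∈ S, ⁅x, y⁆ ∈ D := by
    rintro x hxS y hyS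
    rcases hyS with hy | ⟨g', hy⟩
    · exact h.comm_mem x hy
    rcases hxS with hx | ⟨g, hx⟩
    · rw [← commutatorElement_inv]; exact inv_mem (h.comm_mem y hx)
    have hmem : ⁅x, y⁆ ∈ cj g := by
      rw [commutatorElement_def, show x * y * x⁻¹ * y⁻¹ = x * (y * x⁻¹ * y⁻¹) by group]
      exact mul_mem hx (hcjN g y (hcjM g' hy) _ (inv_mem hx))
    have hxC := (h.face (hcjE g) (hcj4 g)).2.1 hx
    have hyC := (h.face (hcjE g') (hcj4 g')).2.1 hy
    have hA' : ⁅x, y⁆ ∈ Subgroup.centralizer (A : Set G) := by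
      refine h.mem_centralizer ((h.face (hcjE g) (hcj4 g)).2.1 hmem) ?_
      have e : h.chi ⁅(⟨x, hxC⟩ : Subgroup.centralizer (D : Set G)), ⟨y, hyC⟩⁆ = 1 := by
        rw [map_commutatorElement, commutatorElement_eq_one_iff_mul_comm]
        exact h.comm_D (h.comm_mem _ h.haA) (h.comm_mem _ h.haA)
      exact e
    exact (h.face (hcjE g) (hcj4 g)).1.le ⟨hmem, h.hself _ hA' ((hcjE g).2 _ hmem)⟩
  set U := Subgroup.closure S with hU
  have hUC : U ≤ Subgroup.centralizer (D : Set G) := (Subgroup.closure_le _).2 hSC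
  have hUd : ∀ u ∈ U, ∀ v ∈ U, ⁅u, v⁆ ∈ D := by
    intro u hu v hv
    have hc : IsMulCommutative (U.map (QuotientGroup.mk' D)) := by
      rw [hU, MonoidHom.map_closure]
      refine Subgroup.isMulCommutative_closure ?_
      rintro _ ⟨x, hx, rfl⟩ _ ⟨y, hy, rfl⟩
      rw [← commutatorElement_eq_one_iff_mul_comm, ← map_commutatorElement]
      exact (QuotientGroup.eq_one_iff _).2 (hScomm x hx y hy)
    rw [← QuotientGroup.eq_one_iff]
    show QuotientGroup.mk' D ⁅u, v⁆ = 1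
    rw [map_commutatorElement, commutatorElement_eq_one_iff_mul_comm]
    exact congrArg Subtype.val (hc.is_comm.comm (⟨_, u, hu, rfl⟩ : U.map (QuotientGroup.mk' D)) ⟨_, v, hv, rfl⟩)
  have hcl : ∀ u v : U, ⁅u, v⁆ ∈ Subgroup.center U := fun u v =>
    Subgroup.mem_center_iff.2 fun w => Subtype.ext
      (Subgroup.mem_centralizer_iff.1 (hUC w.2) _ (hUd u u.2 v v.2)).symm
  have hUp : ∀ u ∈ U, u ^ p = 1 := by
    intro u hu
    induction hu using Subgroup.closure_induction with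
    | mem x hx => exact hSp x hx
    | one => exact one_pow p
    | mul x y hx hy ihx ihy =>
      exact congrArg Subtype.val (PGroupBasics.mul_pow_eq_one hp2 hcl
        (x := (⟨x, hx⟩ : U)) (y := (⟨y, hy⟩ : U)) (Subtype.ext ihx) (Subtype.ext ihy))
    | inv x _ ihx => rw [inv_pow, ihx, inv_one]
  obtain ⟨hD0, hE0C, hsurj0⟩ := h.face hE hE4
  have hE0S : ∀ e ∈ E₀, e ∈ S := fun e he => Or.inr ⟨1, ⟨e, he, by simp⟩⟩
  refine ⟨fun x hx g => ?_⟩
  set F := cj g with hF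
  have hgx : g * x * g⁻¹ ∈ F := ⟨x, hx, rfl⟩
  obtain ⟨-, hFC, hsurjF⟩ := h.face (hcjE g) (hcj4 g)
  -- decomposition inside `E₀ A`
  have hdec : ∀ f ∈ F, ∃ e ∈ E₀, ∃ k : ℤ, f = e * a ^ k := by
    intro f hf
    obtain ⟨e, he, hee⟩ := hsurj0 _ (h.comm_mem f h.haA)
    have hef : e⁻¹ * f ∈ U := mul_mem (inv_mem (Subgroup.subset_closure (hE0S e he)))
      (Subgroup.subset_closure (Or.inr ⟨g, hf⟩))
    have hA' : e⁻¹ * f ∈ Subgroup.centralizer (A : Set G) := by
      refine h.mem_centralizer (mul_mem (inv_mem (hE0C he)) (hFC hf)) ?_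
      have e' : h.chi ((⟨e, hE0C he⟩ : Subgroup.centralizer (D : Set G))⁻¹ * ⟨f, hFC hf⟩) = 1 := by
        rw [map_mul, map_inv, h.chi_apply, h.chi_apply, hee, inv_mul_cancel]
      exact e'
    have hAmem := h.hself _ hA' (hUp _ hef)
    rw [← h.span, ← SetLike.mem_coe, Subgroup.normal_mul] at hAmem
    obtain ⟨d, hd, b, ⟨k, rfl⟩, hdb⟩ := Set.mem_mul.1 hAmem
    refine ⟨e * d, mul_mem he (hD0.ge hd).1, k, ?_⟩
    rw [mul_assoc, hdb, mul_inv_cancel_left]
  obtain ⟨e, he, k, hk⟩ := hdec _ hgx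
  have hconjA : ∀ v ∈ E₀, ∀ n : ℤ, v * a ^ n = ⁅v, a⁆ ^ n * a ^ n * v := by
    intro v hv n
    have h1 : v * a * v⁻¹ = ⁅v, a⁆ * a := by rw [commutatorElement_def]; group
    have h2 := map_zpow (MulAut.conj v) a n
    rw [MulAut.conj_apply, MulAut.conj_apply, h1,
      (show Commute ⁅v, a⁆ a from comm_ea h.hA (h.hDA (h.comm_mem v h.haA)) h.haA).mul_zpow] at h2
    rw [← h2, inv_mul_cancel_right]
  by_cases hchi : ⁅e, a⁆ = 1
  · -- then `e ∈ D`
    have heD : e ∈ D := hD0.le ⟨he, h.hself _ (h.mem_centralizer (hE0C he) hchi) (hE.2 e he)⟩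
    have hfA : g * x * g⁻¹ ∈ F ⊓ A := ⟨hgx, hk ▸ mul_mem (h.hDA heD) (zpow_mem h.haA k)⟩
    rw [(h.face (hcjE g) (hcj4 g)).1] at hfA
    exact (hD0.ge hfA).1
  obtain ⟨d', hd', hnot⟩ : ∃ d' ∈ D, d' ∉ Subgroup.zpowers ⁅e, a⁆ := by
    by_contra hcon
    push Not at hcon
    have h1 := Subgroup.card_le_of_le (show D ≤ Subgroup.zpowers ⁅e, a⁆ from hcon)
    rw [h.hDcard, Nat.card_zpowers,
      orderOf_eq_prime (h.hA.2 _ (h.hDA (h.comm_mem e h.haA))) hchi] at h1
    have := Nat.pow_le_pow_iff_right hp.out.one_lt (n := 2) (m := 1) |>.1 (by simpa using h1)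
    omega
  obtain ⟨f', hf', hff⟩ := hsurjF d' hd'
  obtain ⟨e', he', l, hl⟩ := hdec f' hf'
  have hE0mem : ∀ v ∈ E₀, ∀ n : ℤ, ⁅v * a ^ n, a⁆ = ⁅v, a⁆ := fun v hv n => by
    simp only [commutatorElement_def]; group
  have he'd : ⁅e', a⁆ = d' := by rw [← hff, hl, hE0mem e' he' l]
  have hcomm : (e * a ^ k) * (e' * a ^ l) = (e' * a ^ l) * (e * a ^ k) := by
    rw [← hk, ← hl]; exact comm_ea (hcjE g) hgx hf'
  have hpow : d' ^ k = ⁅e, a⁆ ^ l := by
    have hee : e * e' = e' * e := comm_ea hE he he'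
    have hdD : ∀ v : G, ∀ n : ℤ, ⁅v, a⁆ ^ n ∈ D := fun v n => zpow_mem (h.comm_mem v h.haA) n
    have hcD : ∀ {w : G}, w ∈ D → ∀ n : ℤ, Commute w (a ^ n) := fun hw n =>
      comm_ea h.hA (h.hDA hw) (zpow_mem h.haA n)
    have e1 : a ^ k * e' = (⁅e', a⁆ ^ k)⁻¹ * e' * a ^ k := by
      rw [mul_assoc, hconjA e' he' k]; group
    have e2 : a ^ l * e = (⁅e, a⁆ ^ l)⁻¹ * e * a ^ l := by
      rw [mul_assoc, hconjA e he l]; group
    have hL : (e * a ^ k) * (e' * a ^ l) = (⁅e', a⁆ ^ k)⁻¹ * (e * e') * (a ^ k * a ^ l) := by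
      have hc := Subgroup.mem_centralizer_iff.1 (hE0C he) _ (inv_mem (hdD e' k))
      calc _ = e * (a ^ k * e') * a ^ l := by group
        _ = (e * (⁅e', a⁆ ^ k)⁻¹) * e' * a ^ k * a ^ l := by rw [e1]; group
        _ = _ := by rw [← hc]; group
    have hR : (e' * a ^ l) * (e * a ^ k) = (⁅e, a⁆ ^ l)⁻¹ * (e' * e) * (a ^ l * a ^ k) := by
      have hc := Subgroup.mem_centralizer_iff.1 (hE0C he') _ (inv_mem (hdD e l))
      calc _ = e' * (a ^ l * e) * a ^ k := by group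
        _ = (e' * (⁅e, a⁆ ^ l)⁻¹) * e * a ^ l * a ^ k := by rw [e2]; group
        _ = _ := by rw [← hc]; group
    rw [hL, hR, hee, Commute.zpow_zpow_self a k l, mul_left_inj, mul_left_inj, inv_inj, he'd] at hcomm
    exact hcomm
  have hpk : (p : ℤ) ∣ k := by
    by_contra hndvd
    obtain ⟨s, t, hst⟩ : IsCoprime k (p : ℤ) :=
      ((Prime.coprime_iff_not_dvd (Nat.prime_iff_prime_int.1 hp.out)).2 hndvd).symm
    apply hnot
    have hd'p : d' ^ (p : ℤ) = 1 := by rw [zpow_natCast]; exact h.hA.2 _ (h.hDA hd')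
    have : d' = (d' ^ k) ^ s := by
      calc d' = d' ^ (s * k + t * (p : ℤ)) := by rw [hst, zpow_one]
        _ = (d' ^ k) ^ s := by
          rw [zpow_add, mul_comm t, zpow_mul d' (p : ℤ), hd'p, one_zpow, mul_one, mul_comm, zpow_mul]
    rw [this, hpow]
    exact zpow_mem (zpow_mem (Subgroup.mem_zpowers _) l) s
  obtain ⟨m, rfl⟩ := hpk
  rw [hk, zpow_mul, zpow_natCast, h.hA.2 a h.haA, one_zpow, mul_one]
  exact he

/-- **A normal elementary abelian subgroup of order `p ^ 4`.** -/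
theorem main (hp2 : p ≠ 2) : ∀ (n : ℕ) (G : Type*) [Group G] [Finite G], Nat.card G ≤ n → IsPGroup p G →
    ∀ E : Subgroup G, Cfsg.IsElementaryAbelian p E → Nat.card E = p ^ 4 →
      ∃ A : Subgroup G, A.Normal ∧ Cfsg.IsElementaryAbelian p A ∧ Nat.card A = p ^ 4 := by
  intro n
  induction n with
  | zero => intro G _ _ hn; exact absurd hn (Nat.not_le.2 Nat.card_pos)
  | succ n ih =>
    intro G _ _ hn hG E hE hE4
    classical
    rcases eq_top_or_exists_le_coatom E with rfl | ⟨M, hM, hEM⟩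
    · exact ⟨⊤, inferInstance, hE, hE4⟩
    obtain ⟨A₁, -, hA₁⟩ := Finite.exists_le_maximal (a := (⊥ : Subgroup G))
      (p := fun A : Subgroup G => A.Normal ∧ Cfsg.IsElementaryAbelian p A)
      ⟨inferInstance, inferInstance, fun a ha => by rw [Subgroup.mem_bot.1 ha, one_pow]⟩
    obtain ⟨⟨hAn, hAe⟩, hAmax⟩ := hA₁
    haveI := hAn
    haveI := hG.isNilpotent
    have hmax : ∀ B : Subgroup G, B.Normal → Cfsg.IsElementaryAbelian p B → A₁ ≤ B → B = A₁ :=
      fun B hBn hB hAB => le_antisymm (hAmax ⟨hBn, hB⟩ hAB) hAB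
    by_cases h4 : p ^ 4 ≤ Nat.card A₁
    · obtain ⟨B, hBn, hBA, hB⟩ := OddOrder.OmegaCen.exists_normal_card hG A₁ (k := 4) h4
      refine ⟨B, hBn, ⟨.of_setLike_mul_comm fun x hx y hy => comm_ea hAe (hBA hx) (hBA hy),
        fun b hb => hAe.2 b (hBA hb)⟩, hB⟩
    have hself : ∀ x ∈ Subgroup.centralizer (A₁ : Set G), x ^ p = 1 → x ∈ A₁ := fun x hx hxp =>
      OddOrder.OmegaCen.mem_of_centralizes hp2 hG A₁ hAe hmax hx hxp
    obtain ⟨j, hj⟩ := IsPGroup.iff_card.1 (hG.to_subgroup A₁)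
    have hj4 : j < 4 := by
      by_contra hge
      exact h4 (hj ▸ Nat.pow_le_pow_right hp.out.pos (not_lt.1 hge))
    have hj3 : 3 ≤ j := by
      by_contra hlt
      have hA2 : Nat.card A₁ ≤ p ^ 2 := hj ▸ Nat.pow_le_pow_right hp.out.pos (by omega)
      have h1 := OddOrder.OmegaCen.card_le_mul_inf_centralizer hG A₁ hA2 hAe.1 E
      have h2 : Nat.card (E ⊓ Subgroup.centralizer (A₁ : Set G) : Subgroup G) ≤ p ^ 2 :=
        (Subgroup.card_le_of_le (show E ⊓ Subgroup.centralizer (A₁ : Set G) ≤ A₁ from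
          fun x hx => hself x hx.2 (hE.2 x hx.1))).trans hA2
      have h3 := h1.trans (Nat.mul_le_mul_left p h2)
      rw [hE4, ← pow_succ'] at h3
      exact absurd ((Nat.pow_le_pow_iff_right hp.out.one_lt).1 h3) (by omega)
    have hA3 : Nat.card A₁ = p ^ 3 := by rw [hj, show j = 3 by omega]
    obtain ⟨D, hDn, hDA, hD⟩ := OddOrder.OmegaCen.exists_normal_card hG A₁ (k := 2)
      (by rw [hA3]; exact Nat.pow_le_pow_right hp.out.pos (by omega))
    obtain ⟨a, haA, haD⟩ := SetLike.not_le_iff_exists.1 (fun hle : A₁ ≤ D => by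
      have := Subgroup.card_le_of_le hle
      rw [hA3, hD] at this
      exact absurd ((Nat.pow_le_pow_iff_right hp.out.one_lt).1 this) (by omega))
    have hyp : Hyp p A₁ D a := ⟨hG, hAe, hAn, hA3, hself, hDA, hDn, hD, haA, haD⟩
    haveI hMn : M.Normal := Subgroup.NormalizerCondition.normal_of_coatom M
      (Group.normalizerCondition_of_isNilpotent) hM
    have hMcard : Nat.card M ≤ n := by
      have : Nat.card M < Nat.card G := lt_of_le_of_ne (Subgroup.card_le_card_group M)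
        fun e => hM.1 (Subgroup.eq_top_of_card_eq M e)
      omega
    obtain ⟨E₁, hE₁n, hE₁, hE₁4⟩ := ih M hMcard (hG.to_subgroup M) (E.subgroupOf M)
      ⟨.of_setLike_mul_comm fun x hx y hy => Subtype.ext (comm_ea hE hx hy),
        fun x hx => Subtype.ext (hE.2 x hx)⟩
      (by rw [Nat.card_congr (Subgroup.subgroupOfEquivOfLe hEM).toEquiv, hE4])
    have hEA : Cfsg.IsElementaryAbelian p (E₁.map M.subtype) := by
      refine ⟨.of_setLike_mul_comm ?_, ?_⟩
      · rintro _ ⟨x, hx, rfl⟩ _ ⟨y, hy, rfl⟩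
        rw [← map_mul, ← map_mul, comm_ea hE₁ hx hy]
      · rintro _ ⟨x, hx, rfl⟩
        rw [← map_pow, hE₁.2 x hx, map_one]
    have h4' : Nat.card (E₁.map M.subtype) = p ^ 4 := by
      rw [Subgroup.card_map_of_injective M.subtype_injective, hE₁4]
    refine ⟨_, hyp.normal hp2 (Subgroup.map_subtype_le E₁) ?_ hEA h4', hEA, h4'⟩
    intro m hm
    rw [Subgroup.mem_normalizer_iff_map_conj_eq]
    refine Subgroup.eq_of_le_of_card_ge ?_ (Subgroup.card_map_of_injective (MulAut.conj m).injective).ge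
    rintro _ ⟨_, ⟨x, hx, rfl⟩, rfl⟩
    exact ⟨⟨m, hm⟩ * x * (⟨m, hm⟩ : M)⁻¹, hE₁n.conj_mem x hx _, rfl⟩

end Cfsg.Agent.RankFour
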