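import Cfsg.Agent.Lib.TwoGroups.CyclicMax
import Cfsg.Agent.Lib.LocalEven.SolvDih
import Cfsg.Agent.Lib.NearField.TypeTwo

/-!
Generalized quaternion Sylow 2-subgroups: a normal 2-complement or a section `SL(2, 3)`.
-/

set_option autoImplicit false
set_option linter.style.haveILetI false
set_option linter.unusedSectionVars false

open scoped Pointwise

namespace Cfsg.Agent.QuatSylow

open Cfsg.Agent

variable {G : Type*} [Group G] [Finite G]

theorem quat_sq {k : ℕ} [NeZero k] (v : QuaternionGroup k) (h : v * v = 1) :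
    v = 1 ∨ v = QuaternionGroup.a (k : ZMod (2 * k)) := by
  have hk := NeZero.pos k
  cases v with
  | a i =>
    rw [QuaternionGroup.a_mul_a, QuaternionGroup.one_def, QuaternionGroup.a.injEq] at h
    have hi := ZMod.natCast_zmod_val i
    have hlt := ZMod.val_lt i
    have h2 : 2 * k ∣ 2 * i.val := by
      rw [← ZMod.natCast_eq_zero_iff, Nat.cast_mul, hi]
      push_cast; rw [two_mul i, h]
    obtain ⟨c, hc⟩ := (Nat.mul_dvd_mul_iff_left two_pos).1 h2
    have hc2 : c < 2 := by
      by_contra hge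
      have := Nat.mul_le_mul_left k (not_lt.1 hge)
      omega
    interval_cases c
    · left; rw [QuaternionGroup.one_def, ← hi, hc]; simp
    · right; rw [← hi, hc, mul_one]
  | xa i =>
    exfalso
    rw [QuaternionGroup.xa_mul_xa, QuaternionGroup.one_def, QuaternionGroup.a.injEq,
      add_sub_cancel_right, ZMod.natCast_eq_zero_iff] at h
    have := Nat.le_of_dvd hk h
    omega

theorem cycMax_of_quaternion {T : Subgroup G} (hTp : IsPGroup 2 T) {k : ℕ} [NeZero k]
    (e : T ≃* QuaternionGroup k) :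
    TwoFus.CycMax T ((e.symm (QuaternionGroup.a 1) : T) : G) ∧
      ∀ U : Subgroup G, U ≤ T → ¬ IsKleinFour U := by
  have hno : ∀ U : Subgroup G, U ≤ T → ¬ IsKleinFour U := by
    intro U hU hK
    classical
    let f : U → Fin 2 := fun u => if e ⟨(u : G), hU u.2⟩ = 1 then 0 else 1
    have hf : Function.Injective f := by
      intro u v huv
      have key : ∀ w : U, e ⟨(w : G), hU w.2⟩ = 1 ∨ e ⟨(w : G), hU w.2⟩ =
          QuaternionGroup.a (k : ZMod (2 * k)) := fun w => quat_sq _ (by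
        rw [← map_mul, ← e.map_one]
        congr 1
        exact Subtype.ext (congrArg (fun x : U => (x : G)) (IsKleinFour.mul_self w)))
      refine Subtype.ext (congrArg (fun x : T => (x : G))
        (e.injective (a₁ := ⟨(u : G), hU u.2⟩) (a₂ := ⟨(v : G), hU v.2⟩) ?_))
      by_cases h1 : e ⟨(u : G), hU u.2⟩ = 1 <;> by_cases h2 : e ⟨(v : G), hU v.2⟩ = 1
      · rw [h1, h2]
      · simp only [f] at huv; rw [if_pos h1, if_neg h2] at huv; exact absurd huv (by decide)
      · simp only [f] at huv; rw [if_neg h1, if_pos h2] at huv; exact absurd huv (by decide)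
      · rw [(key u).resolve_left h1, (key v).resolve_left h2]
    have := Nat.card_le_card_of_injective f hf
    rw [hK.card_four, Nat.card_fin] at this
    omega
  set c : G := ((e.symm (QuaternionGroup.a 1) : T) : G) with hc
  have hmem : ∀ (v : G) (hv : v ∈ T), v ∈ Subgroup.zpowers c ↔ ∃ i, e ⟨v, hv⟩ = QuaternionGroup.a i := by
    intro v hv
    constructor
    · rintro ⟨j, hj⟩
      have h1 : (⟨v, hv⟩ : T) = (e.symm (QuaternionGroup.a 1)) ^ j := Subtype.ext hj.symm
      rw [h1, map_zpow, e.apply_symm_apply]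
      obtain ⟨m, hm⟩ : ∃ m : ℕ, (QuaternionGroup.a 1 : QuaternionGroup k) ^ m = QuaternionGroup.a 1 ^ j :=
        ⟨(j % (orderOf (QuaternionGroup.a 1 : QuaternionGroup k) : ℤ)).toNat, by
          rw [← zpow_natCast, Int.toNat_of_nonneg (Int.emod_nonneg _ (by
            exact_mod_cast (orderOf_pos (QuaternionGroup.a 1 : QuaternionGroup k)).ne')), zpow_mod_orderOf]⟩
      exact ⟨_, by rw [← hm]; exact QuaternionGroup.a_one_pow m⟩
    · rintro ⟨i, hi⟩
      refine ⟨(i.val : ℤ), ?_⟩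
      have h1 : (e.symm (QuaternionGroup.a 1)) ^ i.val = (⟨v, hv⟩ : T) := e.injective (by
        rw [map_pow, e.apply_symm_apply, QuaternionGroup.a_one_pow, ZMod.natCast_zmod_val, hi])
      show c ^ (i.val : ℤ) = v
      rw [zpow_natCast, hc]
      exact congrArg Subtype.val h1
  have hxa : ∀ (v : G) (hv : v ∈ T), v ∉ Subgroup.zpowers c → ∃ i, e ⟨v, hv⟩ = QuaternionGroup.xa i := by
    intro v hv h
    cases hh : e ⟨v, hv⟩ with
    | a i => exact absurd ((hmem v hv).2 ⟨i, hh⟩) h
    | xa i => exact ⟨i, rfl⟩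
  refine ⟨⟨hTp, Subtype.mem _, ?_, ?_, fun U hU hK => absurd hK (hno U hU)⟩, hno⟩
  · intro a ha b hb h1 h2
    obtain ⟨i, hi⟩ := hxa a ha h1
    obtain ⟨j, hj⟩ := hxa b hb h2
    refine (hmem _ (mul_mem (inv_mem ha) hb)).2 ?_
    rw [show (⟨a⁻¹ * b, _⟩ : T) = (⟨a, ha⟩ : T)⁻¹ * ⟨b, hb⟩ from rfl, map_mul, map_inv, hi, hj]
    exact ⟨_, QuaternionGroup.xa_mul_xa ((k : ZMod (2 * k)) + i) j⟩
  · intro a ha h1
    obtain ⟨i, hi⟩ := hxa a ha h1
    have h4 : (⟨a, ha⟩ : T) ^ 4 = 1 := e.injective (by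
      rw [map_pow, hi, map_one, ← QuaternionGroup.orderOf_xa i, pow_orderOf_eq_one])
    exact congrArg Subtype.val h4

/-- An element of odd order moving a quaternion group gives a section `SL(2, 3)`. -/
theorem exists_section {E : Subgroup G} (e : E ≃* QuaternionGroup 2) {w : G}
    (hw : w ∈ Subgroup.normalizer (E : Set G)) (ho : Odd (orderOf w))
    (hwC : w ∉ Subgroup.centralizer (E : Set G)) :
    ∃ (H K : Subgroup G) (hK : (K.subgroupOf H).Normal),
      Nonempty ((H ⧸ K.subgroupOf H) ≃* Matrix.SpecialLinearGroup (Fin 2) (ZMod 3)) := by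
  classical
  haveI h3p : Fact (Nat.Prime 3) := ⟨Nat.prime_three⟩
  set f := E.normalizerMonoidHom with hf
  have haut : Nat.card (MulAut E) = 24 := by
    rw [Nat.card_congr (MulAut.congr e).toEquiv, NearField.card_mulAut_q8]
  have hker : ∀ u : Subgroup.normalizer (E : Set G), f u = 1 ↔ (u : G) ∈ Subgroup.centralizer (E : Set G) := by
    intro u
    rw [← MonoidHom.mem_ker, Subgroup.normalizerMonoidHom_ker, Subgroup.mem_subgroupOf]
  obtain ⟨a, m, hm3, hcard⟩ : ∃ a m, ¬ 3 ∣ m ∧ orderOf w = 3 ^ a * m :=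
    ⟨_, _, Nat.not_dvd_ordCompl Nat.prime_three (orderOf_pos w).ne',
      (Nat.ordProj_mul_ordCompl_eq_self (orderOf w) 3).symm⟩
  set W : Subgroup.normalizer (E : Set G) := ⟨w, hw⟩ with hW
  have hWo : orderOf W = 3 ^ a * m := by rw [hW, Subgroup.orderOf_mk, hcard]
  have hmodd : Odd m := by rw [hcard, Nat.odd_mul] at ho; exact ho.2
  have h1 : f (W ^ 3 ^ a) = 1 := by
    rw [← orderOf_eq_one_iff]
    refine Nat.eq_one_of_dvd_coprimes (k := orderOf (f (W ^ 3 ^ a))) (show (24 : ℕ).Coprime m from ?_)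
      (haut ▸ orderOf_dvd_natCard _) (orderOf_dvd_of_pow_eq_one ?_)
    · rw [show (24 : ℕ) = 2 ^ 3 * 3 by norm_num]
      exact Nat.Coprime.mul_left ((Nat.coprime_two_left.2 hmodd).pow_left 3)
        ((Nat.Prime.coprime_iff_not_dvd Nat.prime_three).2 hm3)
    · rw [← map_pow, ← pow_mul, ← hWo, pow_orderOf_eq_one, map_one]
  set y : Subgroup.normalizer (E : Set G) := W ^ m with hy
  have hyC : f y ≠ 1 := by
    intro h
    apply hwC
    refine (hker W).1 ?_
    have hcop : (3 ^ a).Coprime m := ((Nat.Prime.coprime_iff_not_dvd Nat.prime_three).2 hm3).pow_left a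
    rw [← orderOf_eq_one_iff]
    exact Nat.eq_one_of_dvd_coprimes hcop (orderOf_dvd_of_pow_eq_one (by rw [← map_pow]; exact h1))
      (orderOf_dvd_of_pow_eq_one (by rw [← map_pow]; exact h))
  have hy3a : (y : G) ^ 3 ^ a = 1 := by
    rw [hy, Subgroup.coe_pow, ← pow_mul, mul_comm, ← hcard]; exact pow_orderOf_eq_one w
  have hy3 : f (y ^ 3) = 1 := by
    rw [map_pow, ← orderOf_dvd_iff_pow_eq_one]
    have h2 : orderOf (f y) ∣ 3 ^ a := orderOf_dvd_of_pow_eq_one (by
      rw [← map_pow, show y ^ 3 ^ a = 1 from Subtype.ext (by rw [Subgroup.coe_pow, hy3a]; rfl), map_one])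
    have h3 := Nat.dvd_gcd (haut ▸ orderOf_dvd_natCard (f y)) h2
    refine h3.trans ?_
    rcases Nat.eq_zero_or_pos a with rfl | ha
    · simp
    · obtain ⟨b, rfl⟩ : ∃ b, a = b + 1 := ⟨a - 1, by omega⟩
      rw [pow_succ', show (24 : ℕ) = 3 * 2 ^ 3 by norm_num, Nat.gcd_mul_left]
      rw [Nat.Coprime.pow 3 b (show Nat.Coprime 2 3 by norm_num), mul_one]
  -- the section
  set g : G := (y : G) with hg
  have hgN : g ∈ Subgroup.normalizer (E : Set G) := y.2
  have hg3 : g ^ 3 ∈ Subgroup.centralizer (E : Set G) := (hker (y ^ 3)).1 hy3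
  have hgC : g ∉ Subgroup.centralizer (E : Set G) := fun h => hyC ((hker y).2 h)
  set H := E ⊔ Subgroup.zpowers g with hH
  set K := Subgroup.zpowers (g ^ 3) with hK
  have hEH : E ≤ H := le_sup_left
  have hgH : g ∈ H := Subgroup.mem_sup_right (Subgroup.mem_zpowers g)
  have hHN : H ≤ Subgroup.normalizer (E : Set G) := sup_le Subgroup.le_normalizer (Subgroup.zpowers_le.2 hgN)
  have hEcard : Nat.card E = 8 := by
    rw [Nat.card_congr e.toEquiv, Nat.card_eq_fintype_card, QuaternionGroup.card]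
  have hEK : E ⊓ K = ⊥ := by
    refine Subgroup.inf_eq_bot_of_coprime ?_
    rw [hEcard, hK, Nat.card_zpowers, show (8 : ℕ) = 2 ^ 3 by norm_num]
    refine Nat.Coprime.coprime_dvd_right (m := 3 ^ a) ((orderOf_pow_dvd 3).trans
      (orderOf_dvd_of_pow_eq_one hy3a)) ?_
    exact Nat.Coprime.pow 3 a (by norm_num)
  haveI hKn : (K.subgroupOf H).Normal := by
    refine Subgroup.normal_subgroupOf_of_le_normalizer (sup_le ?_ ?_)
    · intro x hx
      refine Subgroup.centralizer_le_normalizer _ (Subgroup.mem_centralizer_iff.2 fun z hz => ?_)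
      obtain ⟨i, rfl⟩ := hz
      exact (Commute.zpow_left (Subgroup.mem_centralizer_iff.1 hg3 x hx).symm i).eq
    · rw [Subgroup.zpowers_le]
      refine Subgroup.centralizer_le_normalizer _ (Subgroup.mem_centralizer_iff.2 fun z hz => ?_)
      obtain ⟨i, rfl⟩ := hz
      exact (Commute.zpow_left (Commute.pow_self g 3) i).eq
  set q := QuotientGroup.mk' (K.subgroupOf H) with hq
  let j : E →* H ⧸ K.subgroupOf H := q.comp (Subgroup.inclusion hEH)
  have hj : Function.Injective j := by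
    rw [injective_iff_map_eq_one]
    intro x hx
    have h : (x : G) ∈ E ⊓ K := ⟨x.2, (QuotientGroup.eq_one_iff (N := K.subgroupOf H) (Subgroup.inclusion hEH x)).1 hx⟩
    rw [hEK, Subgroup.mem_bot] at h
    exact Subtype.ext h
  have hjr : j.range = (E.subgroupOf H).map q := by
    ext x
    constructor
    · rintro ⟨v, rfl⟩; exact ⟨Subgroup.inclusion hEH v, v.2, rfl⟩
    · rintro ⟨v, hv, rfl⟩; exact ⟨⟨v, hv⟩, rfl⟩
  haveI hRn : j.range.Normal := by
    rw [hjr]
    exact Subgroup.Normal.map (Subgroup.normal_subgroupOf_of_le_normalizer hHN) _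
      (QuotientGroup.mk'_surjective _)
  set c : H ⧸ K.subgroupOf H := q ⟨g, hgH⟩ with hc
  have hgK : ∀ i : ℕ, g ^ i ∈ K → g ^ i ∈ Subgroup.centralizer (E : Set G) := fun i h =>
    (Subgroup.zpowers_le.2 hg3) h
  have hc3 : orderOf c = 3 := by
    refine orderOf_eq_prime ?_ fun h => hgC ?_
    · rw [hc, ← map_pow]
      exact (QuotientGroup.eq_one_iff _).2 (Subgroup.mem_zpowers (g ^ 3))
    · have := hgK 1 (by rw [pow_one]; exact (QuotientGroup.eq_one_iff (⟨g, hgH⟩ : H)).1 h)
      rwa [pow_one] at this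
  have hform : ∀ x : H ⧸ K.subgroupOf H, ∃ r : E, ∃ i : ℤ, x = j r * c ^ i := by
    intro x
    obtain ⟨⟨h, hh⟩, rfl⟩ := QuotientGroup.mk'_surjective _ x
    have hh' : h ∈ (E : Set G) * (Subgroup.zpowers g : Set G) := by
      rw [← Subgroup.coe_mul_of_right_le_normalizer_left E _ (Subgroup.zpowers_le.2 hgN)]
      exact hh
    obtain ⟨r, hr, z, ⟨i, rfl⟩, rfl⟩ := Set.mem_mul.1 hh'
    refine ⟨⟨r, hr⟩, i, ?_⟩
    rw [hc, ← map_zpow]
    show q _ = q _ * q _
    rw [← map_mul]
    rfl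
  have hself : Subgroup.centralizer (j.range : Set (H ⧸ K.subgroupOf H)) ≤ j.range := by
    intro x hx
    obtain ⟨r, i, rfl⟩ := hform x
    by_cases hi : (3 : ℤ) ∣ i
    · have : c ^ i = 1 := orderOf_dvd_iff_zpow_eq_one.1 (by rw [hc3]; exact_mod_cast hi)
      rw [this, mul_one]; exact ⟨r, rfl⟩
    exfalso
    -- then `c` centralizes the image of `E`
    have hcomm : ∀ v : E, Commute c (j v) := by
      intro v
      have hcc : ∀ u : E, Commute (j r * c ^ i) (j u) := fun u =>
        (Subgroup.mem_centralizer_iff.1 hx (j u) ⟨u, rfl⟩).symm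
      have h1 : Commute (j r) (c ^ i) := by
        have := hcc r
        exact (mul_left_cancel (a := j r) (by rw [← mul_assoc]; exact this.eq)).symm
      have h4 : j r ^ 4 = 1 := by
        rw [← map_pow, show r ^ 4 = 1 from e.injective (by rw [map_pow, map_one, LESolvDih.q8_four]),
          map_one]
      have h5 : Commute (c ^ (i * 4)) (j v) := by
        have h6 := (hcc v).pow_left 4
        rw [h1.mul_pow, h4, one_mul, ← zpow_natCast, ← zpow_mul] at h6
        exact h6
      obtain ⟨s, t, hst⟩ : ∃ s t : ℤ, (i * 4) * s + 3 * t = 1 := by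
        have : IsCoprime (i * 4) (3 : ℤ) := by
          refine ((Prime.coprime_iff_not_dvd (Int.prime_three)).2 fun h => ?_).symm
          rcases Int.prime_three.dvd_mul.1 h with h | h
          · exact hi h
          · norm_num at h
        obtain ⟨s, t, hst⟩ := this
        exact ⟨s, t, by rw [← hst]; ring⟩
      have h7 : c = (c ^ (i * 4)) ^ s := by
        have h8 : c ^ ((3 : ℤ) * t) = 1 := by
          rw [zpow_mul, show c ^ (3 : ℤ) = 1 by rw [show (3 : ℤ) = ((3 : ℕ) : ℤ) from rfl, zpow_natCast,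
            ← hc3, pow_orderOf_eq_one], one_zpow]
        calc c = c ^ ((i * 4) * s + 3 * t) := by rw [hst, zpow_one]
          _ = _ := by rw [zpow_add, h8, mul_one, zpow_mul]
      rw [h7]
      exact h5.zpow_left s
    apply hgC
    rw [Subgroup.mem_centralizer_iff]
    intro v hv
    have h := hcomm ⟨v, hv⟩
    have hmem : g * v * g⁻¹ * v⁻¹ ∈ E ⊓ K := by
      refine ⟨Subgroup.mul_mem _ ((Subgroup.mem_normalizer_iff.1 hgN v).1 hv) (Subgroup.inv_mem _ hv), ?_⟩
      have : (⟨g, hgH⟩ : H) * ⟨v, hEH hv⟩ * (⟨g, hgH⟩ : H)⁻¹ * (⟨v, hEH hv⟩ : H)⁻¹ ∈ K.subgroupOf H := by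
        rw [← QuotientGroup.eq_one_iff]
        show q _ = 1
        rw [map_mul, map_mul, map_mul, map_inv, map_inv, mul_inv_eq_one, mul_inv_eq_iff_eq_mul]
        exact h.eq
      exact this
    rw [hEK, Subgroup.mem_bot, mul_inv_eq_one, mul_inv_eq_iff_eq_mul] at hmem
    exact hmem.symm
  obtain ⟨U, -, ⟨eU⟩⟩ := LESolvDih.exists_sl23 (R := j.range)
    ((MonoidHom.ofInjective hj).symm.trans e) hself hc3
  have hle : Nat.card (H ⧸ K.subgroupOf H) ≤ 24 := by
    have hs : Function.Surjective (fun x : E × Subgroup.zpowers c => j x.1 * (x.2 : H ⧸ K.subgroupOf H)) := by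
      intro x
      obtain ⟨r, i, rfl⟩ := hform x
      exact ⟨⟨r, ⟨_, ⟨i, rfl⟩⟩⟩, rfl⟩
    refine (Nat.card_le_card_of_surjective _ hs).trans ?_
    rw [Nat.card_prod, hEcard, Nat.card_zpowers, hc3]
  have hU : U = ⊤ := by
    refine Subgroup.eq_top_of_card_eq U (le_antisymm (Subgroup.card_le_card_group U) ?_)
    rw [Nat.card_congr eU.toEquiv, NearField.card_sl23]
    exact hle
  subst hU
  exact ⟨H, K, hKn, ⟨Subgroup.topEquiv.symm.trans eU⟩⟩

theorem main (T : Sylow 2 G) {k : ℕ} [NeZero k] (e : (T : Subgroup G) ≃* QuaternionGroup k) :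
    Cfsg.HasNormalPComplement 2 G ∨ ∃ (H K : Subgroup G) (hK : (K.subgroupOf H).Normal),
      Nonempty ((H ⧸ K.subgroupOf H) ≃* Matrix.SpecialLinearGroup (Fin 2) (ZMod 3)) := by
  obtain ⟨hC, hno⟩ := cycMax_of_quaternion T.2 e
  by_cases h : ∀ E : Subgroup G, E ≤ (T : Subgroup G) → TwoFus.OddTrivial E
  · exact Or.inl (TwoFus.hasNormalPComplement_of_oddTrivial T h)
  right
  push Not at h
  obtain ⟨E, hE, hne⟩ := h
  rcases hC.oddTrivial hE with h1 | h1 | ⟨⟨e'⟩⟩
  · exact absurd h1 hne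
  · exact absurd h1 (hno E hE)
  · simp only [TwoFus.OddTrivial, not_forall] at hne
    obtain ⟨w, hw, ho, hwC⟩ := hne
    exact exists_section e' hw ho hwC

end Cfsg.Agent.QuatSylow
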