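/-
A `p'`-element moving the elements of order `p` (order four for `p = 2`) only down a finite series
centralizes the `p`-group.
-/
import Cfsg.Agent.Lib.LocalEven.OmegaFour
import Cfsg.Agent.Lib.LocalEven.Coprime
import Cfsg.Agent.Lib.Transfer.Fusion

set_option autoImplicit false
set_option linter.style.haveILetI false
set_option linter.unusedSectionVars false

namespace Cfsg.Agent.SmallFusion

open scoped commutatorElement

variable {G : Type*} [Group G] [Finite G] {p : ℕ} [hp : Fact p.Prime]

/-- A `p'`-element moving small elements down a series of subgroups centralizes the `p`-group. -/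
theorem mem_centralizer_of_series {Q : Subgroup G} (hQ : IsPGroup p Q) {g : G}
    (hg : g ∈ Subgroup.normalizer (Q : Set G)) (hgc : (orderOf g).Coprime p)
    (K : ℕ → Subgroup G) (hK : ∀ i, Q ≤ Subgroup.normalizer (K i : Set G))
    (hK0 : ∀ a ∈ Q, (a ^ p = 1 ∨ p = 2 ∧ a ^ 4 = 1) → a ∈ K 0)
    (hKn : ∃ n, K n ⊓ Q = ⊥)
    (hstep : ∀ i, ∀ a ∈ Q, (a ^ p = 1 ∨ p = 2 ∧ a ^ 4 = 1) → a ∈ K i → g * a * g⁻¹ * a⁻¹ ∈ K (i + 1)) :
    g ∈ Subgroup.centralizer (Q : Set G) := by
  suffices key : ∀ (m : ℕ) (Q₀ : Subgroup G), Nat.card Q₀ ≤ m → Q₀ ≤ Q →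
      g ∈ Subgroup.normalizer (Q₀ : Set G) → ∀ q ∈ Q₀, g * q = q * g by
    exact Subgroup.mem_centralizer_iff.2 fun q hq => (key _ Q le_rfl le_rfl hg q hq).symm
  intro m
  induction m with
  | zero => intro Q₀ hm; exact absurd hm (Nat.not_le.2 Nat.card_pos)
  | succ m ih =>
    intro Q₀ hm hQ₀ hgQ₀
    by_contra hcon
    push Not at hcon
    obtain ⟨q₀, hq₀, hne⟩ := hcon
    have small : ∀ D : Subgroup G, D ≤ Q₀ → D ≠ Q₀ → g ∈ Subgroup.normalizer (D : Set G) →
        ∀ k ∈ D, g * k = k * g := by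
      intro D hD hDne hgD
      refine ih D ?_ (hD.trans hQ₀) hgD
      have : Nat.card D < Nat.card Q₀ :=
        lt_of_le_of_ne (Subgroup.card_le_of_le hD) fun h => hDne (Subgroup.eq_of_le_of_card_ge hD h.ge)
      omega
    have hQ₀p : IsPGroup p Q₀ := hQ.to_le hQ₀
    -- small elements generate
    set S₀ : Set G := {a | a ∈ Q₀ ∧ (a ^ p = 1 ∨ p = 2 ∧ a ^ 4 = 1)} with hS₀
    have hgen : Subgroup.closure S₀ = Q₀ := by
      by_contra h
      refine hne (LEOmega.commute_of_small hgc _ Q₀ le_rfl hQ₀p hgQ₀ (fun a ha ha' => ?_) q₀ hq₀)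
      refine small _ ((Subgroup.closure_le _).2 fun x hx => hx.1) h ?_ a (Subgroup.subset_closure ⟨ha, ha'⟩)
      have hconj : ∀ u y : G, (y ^ p = 1 ∨ p = 2 ∧ y ^ 4 = 1) →
          ((u * y * u⁻¹) ^ p = 1 ∨ p = 2 ∧ (u * y * u⁻¹) ^ 4 = 1) := fun u y hy =>
        hy.imp (fun e => by rw [conj_pow, e, mul_one, mul_inv_cancel])
          fun e => ⟨e.1, by rw [conj_pow, e.2, mul_one, mul_inv_cancel]⟩
      have himg : ((MulAut.conj g : G ≃* G) : G →* G) '' S₀ = S₀ := by
        ext x
        constructor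
        · rintro ⟨y, hy, rfl⟩
          exact ⟨(Subgroup.mem_normalizer_iff.1 hgQ₀ y).1 hy.1, hconj g y hy.2⟩
        · intro hx
          refine ⟨g⁻¹ * x * g⁻¹⁻¹, ⟨?_, hconj g⁻¹ x hx.2⟩, by simp [mul_assoc]⟩
          rw [inv_inv]
          exact (Subgroup.mem_normalizer_iff''.1 hgQ₀ x).1 hx.1
      rw [Subgroup.mem_normalizer_iff_map_conj_eq, MonoidHom.map_closure, himg]
    -- `[Q₀, g] = Q₀`
    have hZ : Subgroup.zpowers g ≤ Subgroup.normalizer (Q₀ : Set G) := Subgroup.zpowers_le.2 hgQ₀
    have hcop : ¬ p ∣ Nat.card (Subgroup.zpowers g) := by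
      rw [Nat.card_zpowers]; exact (Fact.out : p.Prime).coprime_iff_not_dvd.1 hgc.symm
    have hD : ⁅Q₀, Subgroup.zpowers g⁆ = Q₀ := by
      by_contra h
      have hDle : ⁅Q₀, Subgroup.zpowers g⁆ ≤ Q₀ := Subgroup.le_normalizer_iff_commutator_le_left.1 hZ
      have hgD : g ∈ Subgroup.normalizer ((⁅Q₀, Subgroup.zpowers g⁆ : Subgroup G) : Set G) :=
        Subgroup.normalizer_commutator_ge_right Q₀ (Subgroup.zpowers g) (Subgroup.mem_zpowers g)
      have h1 : ⁅⁅Q₀, Subgroup.zpowers g⁆, Subgroup.zpowers g⁆ = ⊥ := by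
        rw [Subgroup.commutator_eq_bot_iff_le_centralizer]
        intro d hd
        rw [Subgroup.mem_centralizer_iff]
        intro z hz
        exact ((Subgroup.zpowers_le.2 (show g ∈ Subgroup.centralizer ({d} : Set G) from
          Subgroup.mem_centralizer_singleton_iff.2 (small _ hDle h hgD d hd))) hz d rfl).symm
      rw [LECoprime.commutator_commutator_eq hQ₀p hcop hZ,
        Subgroup.commutator_eq_bot_iff_le_centralizer] at h1
      exact hne (Subgroup.mem_centralizer_iff.1 (h1 hq₀) g (Subgroup.mem_zpowers g))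
    -- descend
    have hall : ∀ i, Q₀ ≤ K i := by
      intro i
      induction i with
      | zero =>
        rw [← hgen, Subgroup.closure_le]
        exact fun a ha => hK0 a (hQ₀ ha.1) ha.2
      | succ i hi =>
        have hM : ∀ q ∈ Q₀, g * q * g⁻¹ * q⁻¹ ∈ K (i + 1) := by
          intro q hq
          rw [← hgen] at hq
          induction hq using Subgroup.closure_induction with
          | mem a ha => exact hstep i a (hQ₀ ha.1) ha.2 (hi ha.1)
          | one => simp
          | mul u v hu _ ihu ihv =>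
            have huQ : u ∈ Q := hQ₀ (hgen.le hu)
            have := mul_mem ihu ((Subgroup.mem_normalizer_iff.1 (hK (i + 1) huQ) _).1 ihv)
            convert this using 1
            group
          | inv u hu ihu =>
            have huQ : u ∈ Q := hQ₀ (hgen.le hu)
            have := (Subgroup.mem_normalizer_iff.1 (hK (i + 1) (inv_mem huQ)) _).1 (inv_mem ihu)
            convert this using 1
            group
        conv_lhs => rw [← hD]
        rw [Subgroup.commutator_le]
        intro q hq z hz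
        obtain ⟨k, rfl⟩ := (mem_powers_iff_mem_zpowers).2 hz
        have hk : ∀ q ∈ Q₀, g ^ k * q * (g ^ k)⁻¹ * q⁻¹ ∈ K (i + 1) := by
          clear hq hz q
          induction k with
          | zero => intro q _; simp
          | succ k ihk =>
            intro q hq
            have hq' : g ^ k * q * (g ^ k)⁻¹ ∈ Q₀ :=
              (Subgroup.mem_normalizer_iff.1 (pow_mem hgQ₀ k) q).1 hq
            have := mul_mem (hM _ hq') (ihk q hq)
            convert this using 1
            rw [pow_succ']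
            group
        have := inv_mem (hk q hq)
        convert this using 1
        show ⁅q, g ^ k⁆ = _
        rw [commutatorElement_def]
        group
    obtain ⟨n, hn⟩ := hKn
    have hbot : q₀ = 1 := Subgroup.mem_bot.1 (hn ▸ Subgroup.mem_inf.2 ⟨hall n hq₀, hQ₀ hq₀⟩)
    exact hne (by rw [hbot, mul_one, one_mul])

end Cfsg.Agent.SmallFusion
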